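import Cfsg.Agent.Lib.C6Minus.CentMain
/-!
# The normaliser of `2^{1+6}` of minus type is maximal in `Sp₈(p)`

* `normalizer_maximal`
-/

set_option autoImplicit false
set_option linter.unusedSectionVars false
set_option linter.style.haveILetI false

namespace Cfsg.Agent.C6Minus

open Module Matrix

variable {F : Type*} [Field F]

local notation "GL8" => GL (Fin 4 ⊕ Fin 4) F
local notation "M8" => Matrix (Fin 4 ⊕ Fin 4) (Fin 4 ⊕ Fin 4) F

/-- `±1` in `G`. -/
def pmIn (G : Subgroup (GL (Fin 4 ⊕ Fin 4) F)) : Subgroup G where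
  carrier := {x | (x : GL8) = 1 ∨ (x : GL8) = -1}
  one_mem' := Or.inl rfl
  mul_mem' := by
    rintro a b (ha | ha) (hb | hb) <;>
      show ((a * b : G) : GL8) = 1 ∨ ((a * b : G) : GL8) = -1 <;> simp [ha, hb]
  inv_mem' := by
    rintro a (ha | ha)
    · exact Or.inl (by simp [ha])
    · exact Or.inr (by simp [ha, inv_neg])

instance pmIn_normal (G : Subgroup (GL (Fin 4 ⊕ Fin 4) F)) : (pmIn G).Normal :=
  ⟨fun x hx g => by
    rcases hx with h | h
    · exact Or.inl (by simp [h])
    · exact Or.inr (by simp [h, mul_inv_cancel])⟩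

namespace Over

variable [Fintype F] {R G : Subgroup (GL (Fin 4 ⊕ Fin 4) F)} (O : Over R G)
include O

theorem mk_eq {x y : GL8} (hx : x ∈ G) (hy : y ∈ G) :
    (QuotientGroup.mk ⟨x, hx⟩ : G ⧸ pmIn G) = QuotientGroup.mk ⟨y, hy⟩ ↔ y = x ∨ y = -x := by
  refine QuotientGroup.eq.trans ?_
  show ((⟨x, hx⟩⁻¹ * ⟨y, hy⟩ : G) : GL8) = 1 ∨ ((⟨x, hx⟩⁻¹ * ⟨y, hy⟩ : G) : GL8) = -1 ↔ _
  simp only [Subgroup.coe_mul, Subgroup.coe_inv, inv_mul_eq_iff_eq_mul, mul_one, mul_neg]

/-- The embedding of `R/±1`. -/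
noncomputable def emb (v : VB R) : G ⧸ pmIn G := QuotientGroup.mk ⟨(lift' v : GL8), O.R_le (lift' v).2⟩
where
  /-- A lift. -/
  lift' (v : VB R) : R := Minus8.lift v

theorem emb_bar (x : R) :
    O.emb (Additive.ofMul (bar x)) = QuotientGroup.mk ⟨(x : GL8), O.R_le x.2⟩ :=
  (O.mk_eq _ _).2 (bar_eq.1 (Minus8.bar_lift _))

theorem conj_eq {g : GL8} (hg : g ∈ G) (v w : VB R) :
    (QuotientGroup.mk ⟨g, hg⟩ : G ⧸ pmIn G) * O.emb v * (QuotientGroup.mk ⟨g, hg⟩)⁻¹ = O.emb w ↔
      g * (Minus8.lift v : GL8) * g⁻¹ = Minus8.lift w ∨ g * (Minus8.lift v : GL8) * g⁻¹ = -(Minus8.lift w : GL8) := by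
  have hv := O.R_le (Minus8.lift v).2
  have hw := O.R_le (Minus8.lift w).2
  show (QuotientGroup.mk (⟨g, hg⟩ * ⟨_, hv⟩ * (⟨g, hg⟩ : G)⁻¹) : G ⧸ pmIn G) = QuotientGroup.mk ⟨_, hw⟩ ↔ _
  refine (O.mk_eq (G.mul_mem (G.mul_mem hg hv) (G.inv_mem hg)) hw).trans ?_
  constructor <;> rintro (h | h)
  · exact Or.inl h.symm
  · exact Or.inr (by rw [h, neg_neg])
  · exact Or.inl h.symm
  · exact Or.inr (by rw [h, neg_neg])

theorem mul_emb {g : GL8} (hg : g ∈ G) (v : VB R)
    (h : (QuotientGroup.mk ⟨g, hg⟩ : G ⧸ pmIn G) * O.emb v = O.emb v * QuotientGroup.mk ⟨g, hg⟩) :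
    g * (Minus8.lift v : GL8) = Minus8.lift v * g ∨ g * (Minus8.lift v : GL8) = -(Minus8.lift v * g) := by
  have h' : (QuotientGroup.mk ⟨g, hg⟩ : G ⧸ pmIn G) * O.emb v * (QuotientGroup.mk ⟨g, hg⟩)⁻¹ = O.emb v := by
    rw [h, mul_inv_cancel_right]
  rcases (O.conj_eq hg v v).1 h' with e | e
  · exact Or.inl (mul_inv_eq_iff_eq_mul.1 e)
  · exact Or.inr (by rw [mul_inv_eq_iff_eq_mul.1 e, neg_mul])

variable (hprime : (Fintype.card F).Prime)
include hprime

theorem le_normalizer : G ≤ Cfsg.Geo.subgroupNormalizer R := by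
  classical
  have hR := O.minus
  letI := hR.addCommGroup
  letI := hR.module2
  have hfin := hR.finiteR
  let d : Dat (G ⧸ pmIn G) (VB R) :=
    { q := hR.quad
      e := O.emb
      e_add := fun v w => by
        have h : Minus8.lift (v + w) = Minus8.lift (v + w) := rfl
        refine (O.mk_eq _ _).2 ?_
        exact bar_eq.1 (show bar (Minus8.lift (v + w)) = bar (Minus8.lift v * Minus8.lift w) by
          rw [bar_mul, Minus8.bar_lift, Minus8.bar_lift, Minus8.bar_lift]; rfl)
      e_inj := fun v w h => by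
        have h' : bar (Minus8.lift v) = bar (Minus8.lift w) := bar_eq.2 ((O.mk_eq _ _).1 h)
        rw [Minus8.bar_lift, Minus8.bar_lift] at h'
        exact Additive.toMul.injective h'
      cls := fun g v w h => by
        obtain ⟨⟨x, hx⟩, rfl⟩ := QuotientGroup.mk_surjective g
        show Qv (Minus8.lift v) = Qv (Minus8.lift w)
        have key : (Minus8.lift v : GL8) * Minus8.lift v = 1 ↔ (Minus8.lift w : GL8) * Minus8.lift w = 1 := by
          have e0 : x * (Minus8.lift v : GL8) * x⁻¹ * (x * (Minus8.lift v : GL8) * x⁻¹) =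
              (Minus8.lift w : GL8) * Minus8.lift w := by
            rcases (O.conj_eq hx v w).1 h with e | e <;> rw [e]
            rw [neg_mul_neg]
          rw [show x * (Minus8.lift v : GL8) * x⁻¹ * (x * (Minus8.lift v : GL8) * x⁻¹) =
            x * ((Minus8.lift v : GL8) * Minus8.lift v) * x⁻¹ by group] at e0
          rw [← e0, conj_eq_one_iff]
        simp only [Qv, key]
      self := fun g h => by
        obtain ⟨⟨x, hx⟩, rfl⟩ := QuotientGroup.mk_surjective g
        have hxR : x ∈ R := hR.mem_of_signs (O.le hx) fun y hy => by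
          have h1 := h (Additive.ofMul (bar (⟨y, hy⟩ : R)))
          rw [O.emb_bar] at h1
          have h2 : (QuotientGroup.mk (⟨x, hx⟩ * ⟨y, O.R_le hy⟩) : G ⧸ pmIn G) =
              QuotientGroup.mk (⟨y, O.R_le hy⟩ * ⟨x, hx⟩) := h1
          rcases (O.mk_eq (G.mul_mem hx (O.R_le hy)) (G.mul_mem (O.R_le hy) hx)).1 h2 with e | e
          · exact Or.inl (by rw [← e, mul_inv_cancel_right])
          · exact Or.inr (by rw [show x * y = -(y * x) by rw [e, neg_neg], neg_mul, mul_inv_cancel_right])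
        exact ⟨Additive.ofMul (bar ⟨x, hxR⟩), (O.emb_bar ⟨x, hxR⟩).symm⟩
      cent := fun r hr0 hrQ g hg v => by
        obtain ⟨⟨x, hx⟩, rfl⟩ := QuotientGroup.mk_surjective g
        obtain ⟨s, hs⟩ : ∃ s : R, s = Minus8.lift r := ⟨_, rfl⟩
        have hss : (s : GL8) * s = 1 := by
          rcases hR.Q_cases s with ⟨h, -⟩ | ⟨-, h⟩
          · exact h
          · rw [hs] at h; rw [show Qv (Minus8.lift r) = 0 from hrQ] at h; exact absurd h zero_ne_one
        have hne : (s : GL8) ≠ 1 ∧ (s : GL8) ≠ -1 := by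
          have hb : bar s ≠ bar (1 : R) := fun e => hr0 (by
            rw [hs, Minus8.bar_lift] at e
            exact congrArg Additive.ofMul e)
          constructor <;> intro e <;> apply hb <;> rw [bar_eq]
          · exact Or.inl (by simp [e])
          · exact Or.inr (by simp [e])
        have hxN : x ∈ Cfsg.Geo.subgroupNormalizer R := by
          rcases O.mul_emb hx r hg with e | e <;> rw [← hs] at e
          · exact O.centraliser_normalises hprime s.2 hss hne.1 hne.2 hx e
          · obtain ⟨z, hz, hzs⟩ := hR.exists_anti s.2 hne.1 hne.2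
            have hxz : x * z * (s : GL8) = (s : GL8) * (x * z) := by
              rw [mul_assoc, show z * (s : GL8) = -((s : GL8) * z) by rw [hzs, neg_neg], mul_neg,
                ← mul_assoc, e, neg_mul, neg_neg, mul_assoc]
            have h := O.centraliser_normalises hprime s.2 hss hne.1 hne.2 (G.mul_mem hx (O.R_le hz)) hxz
            have hz' : z⁻¹ ∈ Cfsg.Geo.subgroupNormalizer R := Subgroup.le_normalizer (R.inv_mem hz)
            simpa using mul_mem h hz'
        obtain ⟨y, hy⟩ : ∃ y : R, (y : GL8) = x * (Minus8.lift v : GL8) * x⁻¹ :=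
          ⟨⟨_, (Subgroup.mem_normalizer_iff.mp hxN _).mp (Minus8.lift v).2⟩, rfl⟩
        refine ⟨Additive.ofMul (bar y), (O.conj_eq hx v _).2 ?_⟩
        rw [← hy]
        exact (bar_eq.1 (Minus8.bar_lift (Additive.ofMul (bar y))))
      pair := fun a b ha hb => by
        have hsq : ∀ {c : VB R}, Qv (Minus8.lift c) = 1 → (Minus8.lift c : GL8) * Minus8.lift c = -1 :=
          fun {c} hc => by
            rcases hR.Q_cases (Minus8.lift c) with ⟨-, h⟩ | ⟨h, -⟩
            · rw [hc] at h; exact absurd h one_ne_zero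
            · exact h
        obtain ⟨n, hn, hconj⟩ := hR.exists_pair_normal (Minus8.lift a).2 (Minus8.lift b).2 (hsq ha) (hsq hb)
        refine ⟨QuotientGroup.mk ⟨n, O.normal_le hn⟩, fun v => ?_⟩
        obtain ⟨y, hy, hy'⟩ := hconj _ (Minus8.lift v).2
        have hstep : ∀ (c u : VB R) (z : R), bar z = Additive.toMul u →
            ∀ w : R, ((w : GL8) = z ∧ (z : GL8) * Minus8.lift c = Minus8.lift c * z ∨
              (w : GL8) = Minus8.lift c * z ∧ (z : GL8) * Minus8.lift c = -(Minus8.lift c * z)) →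
            bar w = Additive.toMul (u + hR.quad.B u c • c) := by
          intro c u z hz w hw
          have hB : hR.quad.B u c = Bv z (Minus8.lift c) := by
            show Bv (Minus8.lift u) (Minus8.lift c) = _
            rw [hR.Bv_comm, ← hR.Bv_congr _ (hz.trans (Minus8.bar_lift u).symm), hR.Bv_comm]
          rw [hB]
          rcases hw with ⟨e, e'⟩ | ⟨e, e'⟩ <;> rcases hR.B_cases z (Minus8.lift c) with ⟨f, f'⟩ | ⟨f, f'⟩
          · rw [f', zero_smul, add_zero, show w = z from Subtype.ext e, hz]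
          · rw [f] at e'; exact absurd e'.symm (hR.ne_neg _)
          · rw [f] at e'; exact absurd e' (hR.ne_neg _)
          · rw [f', one_smul, show w = Minus8.lift c * z from Subtype.ext e, bar_mul, Minus8.bar_lift, hz,
              add_comm]
            rfl
        have hyR : y ∈ R := by
          rcases hy with ⟨e, -⟩ | ⟨e, -⟩ <;> rw [e]
          exacts [(Minus8.lift v).2, R.mul_mem (Minus8.lift b).2 (Minus8.lift v).2]
        have hwR : n * (Minus8.lift v : GL8) * n⁻¹ ∈ R :=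
          (Subgroup.mem_normalizer_iff.mp hn.1 _).mp (Minus8.lift v).2
        have h1 := hstep b v (Minus8.lift v) (Minus8.bar_lift v) ⟨y, hyR⟩ hy
        have h2 := hstep a _ ⟨y, hyR⟩ h1 ⟨_, hwR⟩ hy'
        refine (O.conj_eq _ v _).2 ?_
        rw [← Minus8.bar_lift (v + hR.quad.B v b • b + hR.quad.B (v + hR.quad.B v b • b) a • a), bar_eq] at h2
        rcases h2 with e | e
        · exact Or.inl e.symm
        · exact Or.inr (by rw [show n * (Minus8.lift v : GL8) * n⁻¹ = -(_) from neg_eq_iff_eq_neg.1 e.symm]; rfl) }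
  have : Finite (G ⧸ pmIn G) := inferInstance
  intro g hg
  have hgN := d.mem_N.1 (d.normalizer_eq_top (QuotientGroup.mk ⟨g, hg⟩))
  refine mem_normalizer_of fun x hx => ?_
  obtain ⟨w, hw⟩ := hgN (Additive.ofMul (bar (⟨x, hx⟩ : R)))
  have h1 : (QuotientGroup.mk (⟨g, hg⟩ * ⟨x, O.R_le hx⟩ * (⟨g, hg⟩ : G)⁻¹) : G ⧸ pmIn G) = O.emb w := by
    rw [show O.emb w = d.e w from rfl, ← hw]
    show _ = (QuotientGroup.mk ⟨g, hg⟩ : G ⧸ pmIn G) * O.emb _ * (QuotientGroup.mk ⟨g, hg⟩)⁻¹
    rw [O.emb_bar]; rfl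
  rcases (O.mk_eq (G.mul_mem (G.mul_mem hg (O.R_le hx)) (G.inv_mem hg)) (O.R_le (Minus8.lift w).2)).1 h1 with e | e
  · exact e ▸ (Minus8.lift w).2
  · rw [← neg_eq_iff_eq_neg.2 e]; exact hR.neg_mem (Minus8.lift w).2

end Over

theorem not_sp_le_normalizer {R : Subgroup GL8} (hR : Minus8 R) :
    ¬ Cfsg.spGL 4 F ≤ Cfsg.Geo.subgroupNormalizer R := by
  intro hle
  have hN : (R.subgroupOf (Cfsg.spGL 4 F)).Normal := ⟨fun x hx g => by
    rw [Subgroup.mem_subgroupOf] at hx ⊢
    exact (Subgroup.mem_normalizer_iff.mp (hle g.2) _).mp hx⟩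
  obtain ⟨x, hx, hne⟩ : ∃ x ∈ R, x ≠ 1 ∧ x ≠ -1 := by
    by_contra h
    push Not at h
    have hc : Nat.card R ≤ Nat.card Bool := by
      refine Nat.card_le_card_of_surjective
        (fun b : Bool => (bif b then ⟨-1, hR.neg⟩ else 1 : R)) fun z => ?_
      rcases em ((z : GL8) = 1) with e | e
      · exact ⟨false, Subtype.ext e.symm⟩
      · exact ⟨true, Subtype.ext (h z z.2 e).symm⟩
    rw [hR.card, Nat.card_eq_fintype_card, Fintype.card_bool] at hc
    omega
  obtain ⟨y, hy, hxy⟩ := hR.exists_anti hx hne.1 hne.2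
  have htop := spGL_normal_top (by norm_num) hR.two (R.subgroupOf (Cfsg.spGL 4 F))
    (x := ⟨x, hR.le hx⟩) hx fun h => by
      have e := congrArg Subtype.val (Subgroup.mem_center_iff.1 h ⟨y, hR.le hy⟩)
      simp only [Subgroup.coe_mul] at e
      rw [hxy] at e
      exact hR.ne_neg _ e
  have hf := Transvect.sympForm_isSymplectic (F := F) 4
  obtain ⟨u, hu⟩ : ∃ u : Fin 4 ⊕ Fin 4 → F, u = Pi.single (Sum.inl 0) 1 := ⟨_, rfl⟩
  obtain ⟨⟨z, hz⟩, -⟩ := hf.nondegenerate u (by rw [hu]; simp)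
  have ht : Transvect.st hf u 1 ∈ R := by
    have : (⟨Transvect.st hf u 1, Transvect.mem_spGL_iff.2 (Transvect.st_isIsom hf u 1)⟩ :
        Cfsg.spGL 4 F) ∈ R.subgroupOf (Cfsg.spGL 4 F) := by rw [htop]; trivial
    exact this
  have hu0 : u ≠ 0 := by rw [hu]; simp
  rcases hR.sq _ ht with e | e
  · have h := congrArg (fun g : GL8 => Transvect.app g z) e
    simp only [map_mul, LinearEquiv.mul_apply, map_one, Transvect.st_apply, one_mul,
      hf.bilinear.add_left, hf.bilinear.smul_left, hf.alternating, mul_zero, add_zero] at h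
    have h' : ((2 : F) * Cfsg.sympForm 4 F z u) • u = 0 := by
      rw [two_mul, add_smul]
      have := congrArg (fun w => -z + w) h
      simpa [← add_assoc] using this
    exact (mul_ne_zero hR.two hz) ((smul_eq_zero.1 h').resolve_right hu0)
  · have h := congrArg (fun g : GL8 => Transvect.app g u) e
    have hfix : Transvect.app (Transvect.st hf u 1) u = u := by
      rw [Transvect.st_apply, hf.alternating, mul_zero, zero_smul, add_zero]
    simp only [map_mul, LinearEquiv.mul_apply, hfix] at h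
    rw [Transvect.app_apply, Units.val_neg, Units.val_one, Matrix.neg_mulVec, Matrix.one_mulVec] at h
    have h' : (2 : F) • u = 0 := by rw [two_smul]; nth_rewrite 1 [h]; exact neg_add_cancel u
    exact hu0 ((smul_eq_zero.1 h').resolve_left hR.two)

/-- The normaliser is maximal. -/
theorem normalizer_maximal [Fintype F] (hprime : (Fintype.card F).Prime) {R : Subgroup GL8}
    (hR : Minus8 R) :
    Cfsg.Geo.IsMaximalIn (Cfsg.spGL 4 F) (Cfsg.Geo.subgroupNormalizer R ⊓ Cfsg.spGL 4 F) := by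
  refine ⟨lt_of_le_of_ne inf_le_right fun h => not_sp_le_normalizer hR (inf_eq_right.1 h), fun M hM hMS => ?_⟩
  by_cases h : Cfsg.spGL 4 F ≤ M
  · exact Or.inr (le_antisymm hMS h)
  · exact Or.inl (le_antisymm (le_inf ((Over.mk hR hMS hM h).le_normalizer hprime) hMS) hM)

end Cfsg.Agent.C6Minus
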