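import Cfsg.Agent.Lib.C6Minus.Invariant
import Mathlib.Algebra.Group.Action.Basic
import Mathlib.GroupTheory.GroupAction.Quotient
/-!
# An abelian `2`-subgroup whose singular centralisers are local is normal

* `Dat`          : an elementary abelian subgroup of rank six with an invariant quadratic form of minus type
* `Dat.normalizer_eq_top` : it is normal
-/

set_option autoImplicit false
set_option linter.unusedSectionVars false
set_option linter.style.haveILetI false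

namespace Cfsg.Agent.C6Minus

open Module

variable {H : Type*} [Group H] {V : Type*} [AddCommGroup V] [Module (ZMod 2) V]

/-- The data. -/
structure Dat (H : Type*) [Group H] (V : Type*) [AddCommGroup V] [Module (ZMod 2) V] where
  q : QF V
  e : V → H
  e_add : ∀ v w, e (v + w) = e v * e w
  e_inj : Function.Injective e
  cls : ∀ (g : H) (v w : V), g * e v * g⁻¹ = e w → q.Q v = q.Q w
  self : ∀ g : H, (∀ v, g * e v = e v * g) → ∃ v, g = e v
  cent : ∀ r : V, r ≠ 0 → q.Q r = 0 → ∀ g : H, g * e r = e r * g → ∀ v, ∃ w, g * e v * g⁻¹ = e w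
  pair : ∀ a b : V, q.Q a = 1 → q.Q b = 1 → ∃ g : H, ∀ v, g * e v * g⁻¹ = e (q.trans a (q.trans b v))

namespace Dat

variable (d : Dat H V)

theorem e_zero : d.e 0 = 1 := by
  have h := d.e_add 0 0
  rw [add_zero] at h
  exact left_eq_mul.1 h

theorem e_sq (v : V) : d.e v * d.e v = 1 := by rw [← d.e_add, QF.vadd_self, d.e_zero]

theorem e_inv (v : V) : (d.e v)⁻¹ = d.e v := inv_eq_of_mul_eq_one_right (d.e_sq v)

theorem e_comm (v w : V) : d.e v * d.e w = d.e w * d.e v := by rw [← d.e_add, add_comm, d.e_add]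

/-- The subgroup `e V`. -/
def A : Subgroup H where
  carrier := Set.range d.e
  one_mem' := ⟨0, d.e_zero⟩
  mul_mem' := by rintro _ _ ⟨v, rfl⟩ ⟨w, rfl⟩; exact ⟨v + w, d.e_add v w⟩
  inv_mem' := by rintro _ ⟨v, rfl⟩; exact ⟨v, (d.e_inv v).symm⟩

theorem e_mem (v : V) : d.e v ∈ d.A := ⟨v, rfl⟩

/-- The normaliser of `e V`. -/
def N : Subgroup H := Subgroup.normalizer (d.A : Set H)

theorem mem_N [Finite H] {g : H} : g ∈ d.N ↔ ∀ v, ∃ w, g * d.e v * g⁻¹ = d.e w := by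
  refine ⟨fun h v => ?_, fun h => ?_⟩
  · obtain ⟨w, hw⟩ := (Subgroup.mem_normalizer_iff.mp h (d.e v)).mp (d.e_mem v)
    exact ⟨w, hw.symm⟩
  · haveI : Finite V := Finite.of_injective d.e d.e_inj
    choose f hf using h
    have hinj : Function.Injective f := fun v w hvw => by
      have := (hf v).trans ((congrArg d.e hvw).trans (hf w).symm)
      exact d.e_inj (mul_left_cancel (mul_right_cancel this))
    refine Subgroup.mem_normalizer_iff.mpr fun x => ⟨?_, ?_⟩
    · rintro ⟨v, rfl⟩; exact ⟨f v, (hf v).symm⟩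
    · rintro ⟨w, hw⟩
      obtain ⟨v, rfl⟩ := Finite.injective_iff_surjective.1 hinj w
      exact ⟨v, mul_left_cancel (mul_right_cancel ((hf v).trans hw))⟩

theorem cent_mem [Finite H] {r : V} (h0 : r ≠ 0) (hr : d.q.Q r = 0) {g : H}
    (hg : g * d.e r = d.e r * g) : g ∈ d.N :=
  d.mem_N.2 (d.cent r h0 hr g hg)

theorem e_memN (v : V) : d.e v ∈ d.N := Subgroup.le_normalizer (d.e_mem v)

/-- The coordinate of a conjugate. -/
noncomputable def coord (g : H) (v : V) : V :=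
  Classical.epsilon fun w => g * d.e v * g⁻¹ = d.e w

theorem coord_spec [Finite H] {g : H} (hg : g ∈ d.N) (v : V) :
    g * d.e v * g⁻¹ = d.e (d.coord g v) := Classical.epsilon_spec (d.mem_N.1 hg v)

theorem coord_eq {g : H} {v w : V} (h : g * d.e v * g⁻¹ = d.e w) : d.coord g v = w :=
  d.e_inj ((Classical.epsilon_spec (p := fun w => g * d.e v * g⁻¹ = d.e w) ⟨w, h⟩).symm.trans h)

/-- The action of an element of the normaliser. -/
noncomputable def act [Finite H] (g : H) (hg : g ∈ d.N) : V →ₗ[ZMod 2] V :=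
  (AddMonoidHom.mk' (d.coord g) fun v w => d.coord_eq (by
    rw [d.e_add, d.e_add, ← d.coord_spec hg, ← d.coord_spec hg]; group)).toZModLinearMap 2

theorem act_spec [Finite H] (g : H) (hg : g ∈ d.N) (v : V) :
    g * d.e v * g⁻¹ = d.e (d.act g hg v) := d.coord_spec hg v

theorem act_eq [Finite H] {g : H} (hg : g ∈ d.N) {v w : V} (h : g * d.e v * g⁻¹ = d.e w) :
    d.act g hg v = w := d.coord_eq h

theorem act_fix [Finite H] {g : H} (hg : g ∈ d.N) {v : V} :
    d.act g hg v = v ↔ g * d.e v = d.e v * g := by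
  refine ⟨fun h => ?_, fun h => d.act_eq hg (by rw [h]; group)⟩
  have := d.act_spec g hg v
  rw [h] at this
  exact mul_inv_eq_iff_eq_mul.1 this

theorem act_isoInv [Finite H] {g : H} (hg : g ∈ d.N) (h2 : g * g = 1) : d.q.IsoInv (d.act g hg) := by
  refine ⟨fun v => (d.cls g v _ (d.act_spec g hg v)).symm, fun v => d.act_eq hg ?_⟩
  rw [← d.act_spec g hg v, inv_eq_of_mul_eq_one_right h2]
  calc g * (g * d.e v * g) * g = (g * g) * d.e v * (g * g) := by group
    _ = d.e v := by rw [h2, one_mul, mul_one]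

theorem conj_e_sq (g : H) (v : V) : g * d.e v * g⁻¹ * (g * d.e v * g⁻¹) = 1 := by
  calc _ = g * (d.e v * d.e v) * g⁻¹ := by group
    _ = 1 := by rw [d.e_sq]; group

/-! ## Two conjugates -/

variable [Finite H] (g : H)

/-- Members of `V` fixing the point `g`. -/
def T : Submodule (ZMod 2) V where
  carrier := {x | g⁻¹ * d.e x * g ∈ d.N}
  add_mem' := fun {x y} hx hy => by
    show g⁻¹ * d.e (x + y) * g ∈ d.N
    have := d.N.mul_mem hx hy
    rw [d.e_add]; convert this using 1; group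
  zero_mem' := by
    show g⁻¹ * d.e 0 * g ∈ d.N
    rw [d.e_zero]; simp
  smul_mem' := fun c x hx => by
    rcases zmod2 c with rfl | rfl
    · show g⁻¹ * d.e _ * g ∈ d.N
      rw [zero_smul, d.e_zero]; simp
    · simpa using hx

/-- Members of `V` in the conjugate `g`. -/
def D : Submodule (ZMod 2) V where
  carrier := {x | g⁻¹ * d.e x * g ∈ d.A}
  add_mem' := fun {x y} hx hy => by
    show g⁻¹ * d.e (x + y) * g ∈ d.A
    have := d.A.mul_mem hx hy
    rw [d.e_add]; convert this using 1; group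
  zero_mem' := by
    show g⁻¹ * d.e 0 * g ∈ d.A
    rw [d.e_zero]; simp
  smul_mem' := fun c x hx => by
    rcases zmod2 c with rfl | rfl
    · show g⁻¹ * d.e _ * g ∈ d.A
      rw [zero_smul, d.e_zero]; simp
    · simpa using hx

theorem D_le_T : d.D g ≤ d.T g := fun _ hx => Subgroup.le_normalizer hx

variable {g}

theorem memN_of_T {u : V} (hu : u ∈ d.T g⁻¹) : g * d.e u * g⁻¹ ∈ d.N := by
  have h : g⁻¹⁻¹ * d.e u * g⁻¹ ∈ d.N := hu
  rwa [inv_inv] at h

/-- The action of a member of the other conjugate. -/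
noncomputable def move (u : V) (hu : u ∈ d.T g⁻¹) : V →ₗ[ZMod 2] V :=
  d.act (g * d.e u * g⁻¹) (d.memN_of_T hu)

theorem move_isoInv {u : V} (hu : u ∈ d.T g⁻¹) : d.q.IsoInv (d.move u hu) :=
  d.act_isoInv _ (d.conj_e_sq g u)

theorem move_mem {u x : V} (hu : u ∈ d.T g⁻¹) (hx : x ∈ d.T g) : d.move u hu x + x ∈ d.D g := by
  obtain ⟨w, hw⟩ := d.mem_N.1 hx u
  have h1 := d.act_spec (g * d.e u * g⁻¹) (d.memN_of_T hu) x
  show g⁻¹ * d.e (d.move u hu x + x) * g ∈ d.A
  refine ⟨u + w, ?_⟩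
  rw [d.e_add, d.e_add, move, ← h1, ← hw]
  simp only [mul_inv_rev, inv_inv, d.e_inv, mul_assoc, inv_mul_cancel_left]

theorem move_fixD {u x : V} (hu : u ∈ d.T g⁻¹) (hx : x ∈ d.D g) : d.move u hu x = x := by
  obtain ⟨w, hw⟩ := hx
  refine (d.act_fix _).2 ?_
  have hx' : d.e x = g * d.e w * g⁻¹ := by rw [hw]; group
  rw [hx']
  calc g * d.e u * g⁻¹ * (g * d.e w * g⁻¹) = g * (d.e u * d.e w) * g⁻¹ := by group
    _ = _ := by rw [d.e_comm u w]; group

theorem move_perpD {u x : V} (hu : u ∈ d.T g⁻¹) (hanis : ∀ y ∈ d.D g, d.q.Q y = 0 → y = 0)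
    (hx : x ∈ d.T g) (hxD : x ∈ d.q.perp (d.D g)) : d.move u hu x = x := by
  refine QF.eq_of_add_eq_zero' (hanis _ (d.move_mem hu hx) ?_)
  rw [(d.move_isoInv hu).Q_diff]
  exact d.q.mem_perp.1 hxD _ (d.move_mem hu hx)

theorem cent_T {z x : V} (hz : z ∈ d.T g⁻¹) (hz0 : z ≠ 0) (hzQ : d.q.Q z = 0)
    (hx : d.move z hz x = x) : x ∈ d.T g := by
  refine d.cent_mem hz0 hzQ ?_
  have h := (d.act_fix _).1 hx
  calc g⁻¹ * d.e x * g * d.e z = g⁻¹ * (d.e x * (g * d.e z * g⁻¹)) * g := by group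
    _ = g⁻¹ * (g * d.e z * g⁻¹ * d.e x) * g := by rw [h]
    _ = _ := by group

theorem mem_D_of_trivial {z : V} (hz : z ∈ d.T g⁻¹) (h : ∀ x, d.move z hz x = x) : z ∈ d.D g⁻¹ := by
  obtain ⟨v, hv⟩ := d.self _ fun x => (d.act_fix _).1 (h x)
  exact ⟨v, by rw [← hv]; group⟩

omit [Finite H] in
/-- Corresponding members of the intersection. -/
theorem D_corr {g : H} {x : V} (hx : g⁻¹ * d.e x * g ∈ d.A) :
    ∃ x', g * d.e x' * g⁻¹ = d.e x ∧ d.q.Q x' = d.q.Q x := by
  obtain ⟨w, hw⟩ := hx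
  have h : g * d.e w * g⁻¹ = d.e x := by rw [hw]; group
  exact ⟨w, h, d.cls g w x h⟩

/-- Two conjugates sharing a singular member coincide. -/
theorem shared {r v : V} (hr0 : r ≠ 0) (hr : d.q.Q r = 0) (hv : g * d.e v * g⁻¹ = d.e r) :
    g ∈ d.N := by
  have hvQ : d.q.Q v = 0 := (d.cls g v r hv).trans hr
  have hv0 : v ≠ 0 := fun h => hr0 (d.e_inj (by rw [← hv, h, d.e_zero]; group))
  have hC : ∀ x, x * d.e r = d.e r * x → g⁻¹ * x * g ∈ d.N := fun x hx => by
    refine d.cent_mem hv0 hvQ ?_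
    calc g⁻¹ * x * g * d.e v = g⁻¹ * (x * (g * d.e v * g⁻¹)) * g := by group
      _ = g⁻¹ * (g * d.e v * g⁻¹ * x) * g := by rw [hv, hx]
      _ = _ := by group
  have hTt : ∀ x, x ∈ d.T g := fun x => hC _ (d.e_comm x r)
  have hUt : ∀ u, g * d.e u * g⁻¹ ∈ d.N := fun u => by
    refine d.cent_mem hr0 hr ?_
    rw [← hv]
    calc g * d.e u * g⁻¹ * (g * d.e v * g⁻¹) = g * (d.e u * d.e v) * g⁻¹ := by group
      _ = _ := by rw [d.e_comm u v]; group
  have hrD : r ∈ d.D g := by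
    show g⁻¹ * d.e r * g ∈ d.A
    rw [← hv]; exact ⟨v, by group⟩
  have hinv := d.q.pair_invariant hr0 hr (D := d.D g) fun a b ha hb har hbr x hx => by
    obtain ⟨n, hn⟩ := d.pair a b ha hb
    have hnr : n * d.e r = d.e r * n := by
      have := hn r
      simp only [QF.trans, hbr, zero_smul, add_zero, har] at this
      exact mul_inv_eq_iff_eq_mul.1 this
    obtain ⟨y, hy⟩ := hx
    obtain ⟨w, hw⟩ := d.mem_N.1 (hC n hnr) y
    refine ⟨w, ?_⟩
    rw [← hw, hy, ← hn x]; group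
  rw [d.mem_N]
  intro u
  have hu : u ∈ d.T g⁻¹ := by
    show g⁻¹⁻¹ * d.e u * g⁻¹ ∈ d.N
    rw [inv_inv]; exact hUt u
  have hf := d.move_isoInv hu
  have hspan : ∀ x, d.move u hu x + x ∈ Submodule.span (ZMod 2) {r} := by
    intro x
    have h1 := d.move_mem hu (hTt x)
    have h2 : d.move u hu x + x ∈ d.q.perp (d.D g) := d.q.mem_perp.2 fun y hy =>
      hf.diff_perp (d.move_fixD hu hy)
    rcases hinv with h | h
    · exact h ⟨h1, d.q.mem_perp_span.2 (d.q.mem_perp.1 h2 r hrD)⟩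
    · have := d.q.perp_anti h h2
      rwa [d.q.perp_perp] at this
  have hbr : ∀ x, d.q.B x r = 1 → d.move u hu x = x := fun x hx => by
    obtain ⟨c, hc⟩ := Submodule.mem_span_singleton.1 (hspan x)
    rcases zmod2 c with rfl | rfl
    · rw [zero_smul] at hc; exact QF.eq_of_add_eq_zero' hc.symm
    · rw [one_smul] at hc
      have := hf.Q_diff x
      rw [← hc, hr, hx] at this
      exact absurd this zero_ne_one
  have htriv : ∀ x, d.move u hu x = x := fun x => by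
    rcases zmod2 (d.q.B x r) with h | h
    · obtain ⟨c, hc⟩ : ∃ c, d.q.B c r = 1 := by
        by_contra hno
        push Not at hno
        exact hr0 (d.q.nondeg r fun c => by
          rw [d.q.B_comm]; exact (zmod2 _).resolve_right (hno c))
      have h2 := hbr (x + c) (by simp [h, hc])
      rw [map_add, hbr c hc] at h2
      exact add_right_cancel h2
    · exact hbr x h
  exact d.self _ fun x => (d.act_fix _).1 (htriv x)

theorem T_three (_hg : g ∉ d.N) {t : V} (ht : t ∈ d.T g) (ht0 : t ≠ 0) (htQ : d.q.Q t = 0) :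
    3 ≤ finrank (ZMod 2) (d.T g⁻¹) := by
  have := d.q.finite
  have ht' : t ∈ d.T g⁻¹⁻¹ := by rwa [inv_inv]
  have h1 := (d.move_isoInv ht').two_fix (W := ⊤) fun _ _ => trivial
  rw [finrank_top, d.q.dim, top_inf_eq] at h1
  have h2 : QF.fix (d.move t ht') ≤ d.T g⁻¹ := fun x hx => d.cent_T ht' ht0 htQ (QF.mem_fix.1 hx)
  have := Submodule.finrank_mono h2
  omega

theorem anis (hg : g ∉ d.N) : ∀ y ∈ d.D g, d.q.Q y = 0 → y = 0 := by
  intro y hy hQ
  by_contra h0
  obtain ⟨y', hy', -⟩ := d.D_corr hy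
  exact hg (d.shared h0 hQ hy')

theorem finrank_D_le (hg : g ∉ d.N) : finrank (ZMod 2) (d.D g) ≤ 2 := by
  by_contra h
  obtain ⟨x, hx, hx0, hxQ⟩ := d.q.exists_singular (W := d.D g) (by omega)
  exact hx0 (d.anis hg x hx hxQ)

theorem D_corr' {u : V} (hu : u ∈ d.D g⁻¹) : ∃ x ∈ d.D g, g * d.e u * g⁻¹ = d.e x := by
  obtain ⟨x, hx⟩ := hu
  have hx' : g * d.e u * g⁻¹ = d.e x := by rw [hx, inv_inv]
  exact ⟨x, ⟨u, by rw [← hx']; group⟩, hx'⟩

theorem D_card : finrank (ZMod 2) (d.D g⁻¹) = finrank (ZMod 2) (d.D g) := by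
  have := d.q.finite
  choose f hf hfe using fun u : d.D g⁻¹ => d.D_corr' u.2
  let φ : d.D g⁻¹ →ₗ[ZMod 2] d.D g := (AddMonoidHom.mk' (fun u => (⟨f u, hf u⟩ : d.D g)) fun u v => by
    refine Subtype.ext (d.e_inj ?_)
    show d.e (f (u + v)) = d.e (f u + f v)
    rw [d.e_add, ← hfe, ← hfe, ← hfe]
    show g * d.e ((u : V) + v) * g⁻¹ = _
    rw [d.e_add]; group).toZModLinearMap 2
  have hinj : Function.Injective φ := fun u v h => Subtype.ext (d.e_inj (by
    have h' : f u = f v := congrArg Subtype.val h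
    have := (hfe u).trans ((congrArg d.e h').trans (hfe v).symm)
    exact mul_left_cancel (mul_right_cancel this)))
  have hsur : Function.Surjective φ := fun x => by
    obtain ⟨w, hw⟩ := x.2
    have hw' : g * d.e w * g⁻¹ = d.e x := by rw [hw]; group
    refine ⟨⟨w, ⟨x, by rw [inv_inv, hw']⟩⟩, Subtype.ext (d.e_inj ?_)⟩
    show d.e (f _) = d.e x
    rw [← hfe, hw']
  exact (LinearEquiv.ofBijective φ ⟨hinj, hsur⟩).finrank_eq

/-- A singular member fixes only its own conjugate. -/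
theorem fix_unique {r : V} (hr0 : r ≠ 0) (hr : d.q.Q r = 0) (hrT : g⁻¹ * d.e r * g ∈ d.N) :
    g ∈ d.N := by
  by_contra hg
  have := d.q.finite
  have hg' : g⁻¹ ∉ d.N := fun h => hg (by simpa using d.N.inv_mem h)
  have hA := d.anis hg
  have hA' := d.anis hg'
  have hr' : r ∈ d.T g := hrT
  have hU3 := d.T_three hg hr' hr0 hr
  obtain ⟨z₀, hz₀, hz₀0, hz₀Q⟩ := d.q.exists_singular (W := d.T g⁻¹) hU3
  have hT3 : 3 ≤ finrank (ZMod 2) (d.T g) := by
    have := d.T_three (g := g⁻¹) hg' hz₀ hz₀0 hz₀Q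
    rwa [inv_inv] at this
  obtain ⟨z₁, z₂, hz, hexact⟩ : ∃ z₁ z₂ : V,
      (z₁ ∈ d.T g⁻¹ ∧ z₂ ∈ d.T g⁻¹ ∧ z₁ ∉ d.D g⁻¹ ∧ z₂ ∉ d.D g⁻¹ ∧ z₁ + z₂ ∉ d.D g⁻¹) ∧
      ∀ z, z = z₁ ∨ z = z₂ ∨ z = z₁ + z₂ → ∀ (hz : z ∈ d.T g⁻¹) x, d.move z hz x = x → x ∈ d.T g := by
    by_cases hD : d.D g = ⊥
    · have hD' : d.D g⁻¹ = ⊥ := by
        have := d.D_card (g := g)
        rw [hD, finrank_bot] at this
        exact Submodule.finrank_eq_zero.1 this
      have hr'' : r ∈ d.T g⁻¹⁻¹ := by rwa [inv_inv]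
      have hfU : QF.fix (d.move r hr'') ≤ d.T g⁻¹ := fun x hx =>
        d.cent_T hr'' hr0 hr (QF.mem_fix.1 hx)
      have hco : d.q.perp (d.T g⁻¹) ≤ d.T g⁻¹ :=
        (d.q.perp_anti hfU).trans ((d.move_isoInv hr'').perp_fix_le.trans hfU)
      haveI : Finite V := Finite.of_injective d.e d.e_inj
      haveI : Finite (Submodule (ZMod 2) V) :=
        Finite.of_injective (fun S : Submodule (ZMod 2) V => (S : Set V)) SetLike.coe_injective
      -- enlarge to a Lagrangian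
      obtain ⟨L, hLmem⟩ := (Set.toFinite {L : Submodule (ZMod 2) V | d.q.perp (d.T g⁻¹) ≤ L ∧
        L ≤ d.q.perp L}).exists_maximal ⟨_, le_rfl, d.q.perp_anti hco⟩
      obtain ⟨⟨hL1, hL2⟩, hLmax⟩ := hLmem
      have hLL : d.q.perp L = L := by
        refine le_antisymm (fun x hx => ?_) hL2
        have hxs : ∀ w ∈ L, d.q.B x w = 0 := d.q.mem_perp.1 hx
        refine hLmax (y := L ⊔ Submodule.span (ZMod 2) {x}) ⟨hL1.trans le_sup_left, ?_⟩ le_sup_left
          (Submodule.mem_sup_right (Submodule.mem_span_singleton_self x))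
        refine fun a ha => d.q.mem_perp.2 fun b hb => ?_
        obtain ⟨l, hl, m, hm, rfl⟩ := Submodule.mem_sup.1 ha
        obtain ⟨l', hl', m', hm', rfl⟩ := Submodule.mem_sup.1 hb
        obtain ⟨c, rfl⟩ := Submodule.mem_span_singleton.1 hm
        obtain ⟨c', rfl⟩ := Submodule.mem_span_singleton.1 hm'
        simp [d.q.mem_perp.1 (hL2 hl) l' hl', hxs l' hl', d.q.B_comm l x, hxs l hl, d.q.B_self]
      have hLT : L ≤ d.T g⁻¹ := by
        rw [← hLL, ← d.q.perp_perp (d.T g⁻¹)]; exact d.q.perp_anti hL1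
      have hL3 : finrank (ZMod 2) L = 3 := by have := d.q.finrank_perp L; rw [hLL] at this; omega
      let φ : L →ₗ[ZMod 2] ZMod 2 := (AddMonoidHom.mk' (fun l : L => d.q.Q l) fun a b => by
        show d.q.Q ((a : V) + b) = _
        rw [d.q.polar, d.q.mem_perp.1 (hL2 a.2) b b.2, add_zero]).toZModLinearMap 2
      have hk : 2 ≤ finrank (ZMod 2) (LinearMap.ker φ) := by
        have := LinearMap.finrank_range_add_finrank_ker φ
        have := Submodule.finrank_le (LinearMap.range φ)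
        rw [Module.finrank_self] at this
        omega
      obtain ⟨⟨z₁, hz₁L⟩, hz₁, hz₁0⟩ := (LinearMap.ker φ).ne_bot_iff.1 fun h => by
        rw [h, finrank_bot] at hk; omega
      obtain ⟨⟨z₂, hz₂L⟩, hz₂, hz₂n⟩ : ∃ z ∈ LinearMap.ker φ,
          z ∉ Submodule.span (ZMod 2) {(⟨z₁, hz₁L⟩ : L)} := SetLike.not_le_iff_exists.1 fun h => by
        have := Submodule.finrank_mono h
        rw [finrank_span_singleton hz₁0] at this
        omega
      have q1 : d.q.Q z₁ = 0 := hz₁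
      have q2 : d.q.Q z₂ = 0 := hz₂
      have n1 : z₁ ≠ 0 := fun h => hz₁0 (Subtype.ext h)
      have n2 : z₂ ≠ 0 := fun h => hz₂n (by
        rw [show (⟨z₂, hz₂L⟩ : L) = 0 from Subtype.ext h]; exact Submodule.zero_mem _)
      have n3 : z₁ + z₂ ≠ 0 := fun h => hz₂n (by
        rw [show (⟨z₂, hz₂L⟩ : L) = ⟨z₁, hz₁L⟩ from Subtype.ext (QF.eq_of_add_eq_zero' h).symm]
        exact Submodule.mem_span_singleton_self _)
      refine ⟨z₁, z₂, ⟨hLT hz₁L, hLT hz₂L, ?_, ?_, ?_⟩, ?_⟩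
      · rw [hD', Submodule.mem_bot]; exact n1
      · rw [hD', Submodule.mem_bot]; exact n2
      · rw [hD', Submodule.mem_bot]; exact n3
      rintro z (rfl | rfl | rfl) hz x hx
      · exact d.cent_T hz n1 q1 hx
      · exact d.cent_T hz n2 q2 hx
      · refine d.cent_T hz n3 ?_ hx
        rw [d.q.polar, q1, q2, d.q.mem_perp.1 (hL2 hz₁L) z₂ hz₂L, add_zero, add_zero]
    · -- some member of `D` turns any member of `T ⊓ D⊥` into a singular one
      have hrep : ∀ g : H, g ∉ d.N → d.D g ≠ ⊥ → ∀ z ∈ d.T g, z ∈ d.q.perp (d.D g) → z ∉ d.D g →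
          ∃ z' ∈ d.T g, z' ≠ 0 ∧ d.q.Q z' = 0 ∧ z' + z ∈ d.D g := by
        intro g hg hne z hzT hzp hzD
        rcases zmod2 (d.q.Q z) with h | h
        · exact ⟨z, hzT, fun h0 => hzD (h0 ▸ Submodule.zero_mem _), h,
            by rw [QF.vadd_self]; exact Submodule.zero_mem _⟩
        obtain ⟨y, hy, hy0⟩ := (Submodule.ne_bot_iff _).1 hne
        have hyQ : d.q.Q y = 1 := (zmod2 _).resolve_left fun h0 => hy0 (d.anis hg y hy h0)
        refine ⟨z + y, (d.T g).add_mem hzT (d.D_le_T g hy), fun h0 => hzD (QF.eq_of_add_eq_zero' h0 ▸ hy),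
          ?_, ?_⟩
        · rw [d.q.polar, h, hyQ, d.q.mem_perp.1 hzp y hy, add_zero, CharTwo.add_self_eq_zero]
        · rw [add_comm z y, QF.add_add_right]; exact hy
      have hD' : d.D g⁻¹ ≠ ⊥ := fun h => hD (by
        have := d.D_card (g := g)
        rw [h, finrank_bot] at this
        exact Submodule.finrank_eq_zero.1 this.symm)
      -- ranks
      have hd : finrank (ZMod 2) (d.D g) ≤ 2 := d.finrank_D_le hg
      have hd1 : 1 ≤ finrank (ZMod 2) (d.D g) := Submodule.one_le_finrank_iff.2 hD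
      have hrad : ∀ g : H, g ∉ d.N → 2 ≤ finrank (ZMod 2) (d.D g) →
          d.D g ⊓ d.q.perp (d.D g) = ⊥ := by
        intro g hg h2
        by_contra hne
        obtain ⟨y, ⟨hy, hyp⟩, hy0⟩ := (Submodule.ne_bot_iff _).1 hne
        obtain ⟨x, hx, hxn⟩ := SetLike.not_le_iff_exists.1 (show ¬ d.D g ≤ Submodule.span (ZMod 2) {y}
          from fun h => by have := Submodule.finrank_mono h; rw [finrank_span_singleton hy0] at this; omega)
        have hx0 : x ≠ 0 := fun h => hxn (h ▸ Submodule.zero_mem _)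
        refine hxn ?_
        rw [show x = y from QF.eq_of_add_eq_zero' (d.anis hg _ ((d.D g).add_mem hx hy) (by
          rw [d.q.polar, (zmod2 _).resolve_left fun h => hx0 (d.anis hg x hx h),
            (zmod2 _).resolve_left fun h => hy0 (d.anis hg y hy h), d.q.B_comm x y,
            d.q.mem_perp.1 hyp x hx, add_zero, CharTwo.add_self_eq_zero]))]
        exact Submodule.mem_span_singleton_self y
      have hcard := d.D_card (g := g)
      have hR' : finrank (ZMod 2) (d.D g⁻¹ ⊓ d.q.perp (d.D g⁻¹) : Submodule (ZMod 2) V) +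
          finrank (ZMod 2) (d.D g) ≤ 2 := by
        by_cases h2 : 2 ≤ finrank (ZMod 2) (d.D g)
        · rw [hrad g⁻¹ hg' (by omega), finrank_bot]; omega
        · have := Submodule.finrank_mono (inf_le_left : d.D g⁻¹ ⊓ d.q.perp (d.D g⁻¹) ≤ d.D g⁻¹)
          omega
      have hR : finrank (ZMod 2) (d.D g ⊓ d.q.perp (d.D g) : Submodule (ZMod 2) V) +
          finrank (ZMod 2) (d.D g) ≤ 2 := by
        by_cases h2 : 2 ≤ finrank (ZMod 2) (d.D g)
        · rw [hrad g hg h2, finrank_bot]; omega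
        · have := Submodule.finrank_mono (inf_le_left : d.D g ⊓ d.q.perp (d.D g) ≤ d.D g)
          omega
      -- a member of `T ⊓ D⊥` outside `D`
      obtain ⟨t, ⟨htT, htp⟩, htD⟩ : ∃ t ∈ d.T g ⊓ d.q.perp (d.D g), t ∉ d.D g :=
        SetLike.not_le_iff_exists.1 fun h => by
          have := Submodule.finrank_mono (le_inf h inf_le_right :
            d.T g ⊓ d.q.perp (d.D g) ≤ d.D g ⊓ d.q.perp (d.D g))
          have h2 := Submodule.finrank_sup_add_finrank_inf_eq (d.T g) (d.q.perp (d.D g))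
          have h6 := Submodule.finrank_le (d.T g ⊔ d.q.perp (d.D g))
          rw [d.q.dim] at h6
          have := d.q.finrank_perp (d.D g)
          omega
      obtain ⟨t', ht'T, ht'0, ht'Q, -⟩ := hrep g hg hD t htT htp htD
      have ht'' : t' ∈ d.T g⁻¹⁻¹ := by rwa [inv_inv]
      obtain ⟨U0, hU0⟩ : ∃ U0, U0 = d.T g⁻¹ ⊓ d.q.perp (d.D g⁻¹) := ⟨_, rfl⟩
      have hU0dim : 6 ≤ 2 * finrank (ZMod 2) U0 + finrank (ZMod 2) (d.D g) := by
        have hf := d.move_isoInv ht''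
        have h1 := hf.two_fix (W := d.q.perp (d.D g⁻¹)) fun x hx => d.q.mem_perp.2 fun y hy => by
          rw [← d.move_fixD ht'' hy, hf.B_map]
          exact d.q.mem_perp.1 hx y hy
        have h2 : d.q.perp (d.D g⁻¹) ⊓ QF.fix (d.move t' ht'') ≤ U0 := fun x hx =>
          hU0 ▸ ⟨d.cent_T ht'' ht'0 ht'Q (QF.mem_fix.1 hx.2), hx.1⟩
        have := Submodule.finrank_mono h2
        have := d.q.finrank_perp (d.D g⁻¹)
        omega
      obtain ⟨R', hR'def⟩ : ∃ R', R' = d.D g⁻¹ ⊓ d.q.perp (d.D g⁻¹) := ⟨_, rfl⟩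
      rw [← hR'def] at hR'
      obtain ⟨z₁, hz₁, hz₁n⟩ : ∃ z ∈ U0, z ∉ R' := SetLike.not_le_iff_exists.1 fun h => by
        have := Submodule.finrank_mono h
        omega
      obtain ⟨z₂, hz₂, hz₂n⟩ : ∃ z ∈ U0, z ∉ R' ⊔ Submodule.span (ZMod 2) {z₁} :=
        SetLike.not_le_iff_exists.1 fun h => by
          have := Submodule.finrank_mono h
          have := Submodule.finrank_add_le_finrank_add_finrank R' (Submodule.span (ZMod 2) {z₁})
          have := finrank_span_singleton (K := ZMod 2) (fun h => hz₁n (h ▸ Submodule.zero_mem _) : z₁ ≠ 0)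
          omega
      rw [hU0] at hz₁ hz₂
      have hout : ∀ z ∈ d.q.perp (d.D g⁻¹), z ∉ R' → z ∉ d.D g⁻¹ := fun z hz hn h =>
        hn (hR'def ▸ ⟨h, hz⟩)
      have n3 : z₁ + z₂ ∉ R' := fun h => hz₂n (by
        rw [← QF.add_add_left z₁ z₂, add_comm]
        exact add_mem (Submodule.mem_sup_left h)
          (Submodule.mem_sup_right (Submodule.mem_span_singleton_self z₁)))
      have m1 := hout z₁ hz₁.2 hz₁n
      have m2 := hout z₂ hz₂.2 fun h => hz₂n (Submodule.mem_sup_left h)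
      have m3 := hout _ ((d.q.perp (d.D g⁻¹)).add_mem hz₁.2 hz₂.2) n3
      refine ⟨z₁, z₂, ⟨hz₁.1, hz₂.1, m1, m2, m3⟩, fun z hz' hzT x hx => ?_⟩
      obtain ⟨hzp, hzn⟩ : z ∈ d.q.perp (d.D g⁻¹) ∧ z ∉ d.D g⁻¹ := by
        rcases hz' with rfl | rfl | rfl
        exacts [⟨hz₁.2, m1⟩, ⟨hz₂.2, m2⟩, ⟨(d.q.perp (d.D g⁻¹)).add_mem hz₁.2 hz₂.2, m3⟩]
      obtain ⟨z', hz'T, hz'0, hz'Q, hdiff⟩ := hrep g⁻¹ hg' hD' z hzT hzp hzn
      refine d.cent_T hz'T hz'0 hz'Q ?_
      refine (d.act_fix _).2 ?_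
      have h1 := (d.act_fix _).1 hx
      obtain ⟨w, -, hw⟩ := d.D_corr' hdiff
      have hz'' : g * d.e z' * g⁻¹ = d.e w * (g * d.e z * g⁻¹) := by
        rw [← hw, ← QF.add_add_right z' z, d.e_add, QF.add_add_right]; group
      rw [hz'', mul_assoc, h1, ← mul_assoc, d.e_comm w x, mul_assoc]
  obtain ⟨hm1, hm2, hn1, hn2, hn3⟩ := hz
  have hm3 := (d.T g⁻¹).add_mem hm1 hm2
  refine d.q.no_exact_four ![d.move z₁ hm1, d.move z₂ hm2, d.move _ hm3] ?_ ?_ ?_
    (D := d.D g) (T := d.T g ⊓ d.q.perp (d.D g)) hA inf_le_right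
    (fun x hx => ⟨d.D_le_T g hx.1, hx.2⟩) ?_ ?_ ?_ ?_
  · intro i
    fin_cases i
    exacts [d.move_isoInv hm1, d.move_isoInv hm2, d.move_isoInv hm3]
  · intro x
    refine d.act_eq (d.memN_of_T hm3) ?_
    show _ = d.e (d.act _ (d.memN_of_T hm1) (d.act _ (d.memN_of_T hm2) x))
    rw [← d.act_spec, ← d.act_spec, d.e_add]; group
  · intro i
    by_contra h
    push Not at h
    fin_cases i
    exacts [hn1 (d.mem_D_of_trivial hm1 h), hn2 (d.mem_D_of_trivial hm2 h), hn3 (d.mem_D_of_trivial hm3 h)]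
  · intro i x hx
    fin_cases i
    exacts [d.move_fixD hm1 hx, d.move_fixD hm2 hx, d.move_fixD hm3 hx]
  · intro i x hx
    fin_cases i
    exacts [d.move_perpD hm1 hA hx.1 hx.2, d.move_perpD hm2 hA hx.1 hx.2, d.move_perpD hm3 hA hx.1 hx.2]
  · intro i x hx
    refine ⟨?_, hx.2⟩
    have h := QF.mem_fix.1 hx.1
    fin_cases i
    exacts [hexact z₁ (Or.inl rfl) hm1 x h, hexact z₂ (Or.inr (Or.inl rfl)) hm2 x h,
      hexact _ (Or.inr (Or.inr rfl)) hm3 x h]
  · intro i j a ha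
    have haT : a ∈ d.T g := by
      fin_cases i
      exacts [hexact z₁ (Or.inl rfl) hm1 a ha, hexact z₂ (Or.inr (Or.inl rfl)) hm2 a ha,
        hexact _ (Or.inr (Or.inr rfl)) hm3 a ha]
    fin_cases j
    exacts [d.move_mem hm1 haT, d.move_mem hm2 haT, d.move_mem hm3 haT]

/-! ## Dihedral orbits -/

omit [Finite H] in
theorem dihedral [Finite H] {X : Type*} [MulAction H X] (F : X → Prop) {a b : H} (ha : a * a = 1)
    (hb : b * b = 1) (hFa : ∀ z, F z → F (a • z)) (hFb : ∀ z, F z → F (b • z)) {x y : X} (hx : F x)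
    (hax : a • x = x) (hua : ∀ z, F z → a • z = z → z = x) (hub : ∀ z, F z → b • z = z → z = y) :
    ∃ m n : ℕ, y = (a * b) ^ m • x ∧ (a * b) ^ n • x = x ∧ (a * b) ^ n • y = y ∧
      (a * b) ^ n = a * (((a * b) ^ m)⁻¹ * b * (a * b) ^ m) := by
  classical
  have hex : ∃ n, 0 < n ∧ (a * b) ^ n • x = x :=
    ⟨orderOf (a * b), (isOfFinOrder_of_finite _).orderOf_pos, by rw [pow_orderOf_eq_one, one_smul]⟩
  obtain ⟨n, hn⟩ : ∃ n, n = Nat.find hex := ⟨_, rfl⟩
  have hn0 : 0 < n := hn ▸ (Nat.find_spec hex).1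
  have hnx : (a * b) ^ n • x = x := hn ▸ (Nat.find_spec hex).2
  have hai : a⁻¹ = a := inv_eq_of_mul_eq_one_right ha
  have hbi : b⁻¹ = b := inv_eq_of_mul_eq_one_right hb
  have hF : ∀ i : ℕ, F ((a * b) ^ i • x) := by
    intro i
    induction i with
    | zero => simpa using hx
    | succ i ih => rw [pow_succ', mul_smul, mul_smul]; exact hFa _ (hFb _ ih)
  have hconj : a * (a * b) * a⁻¹ = (a * b)⁻¹ := by
    rw [← mul_assoc, ha, one_mul, mul_inv_rev, hai, hbi]
  have hpow : ∀ i : ℕ, a * (a * b) ^ i = ((a * b) ^ i)⁻¹ * a := fun i => by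
    rw [← inv_pow, ← hconj, conj_pow, inv_mul_cancel_right]
  have hac : ∀ i : ℕ, a • (a * b) ^ i • x = ((a * b) ^ i)⁻¹ • x := fun i => by
    rw [← mul_smul, hpow, mul_smul, hax]
  obtain ⟨m, hm | hm⟩ := n.even_or_odd'
  · exfalso
    have h1 : a • (a * b) ^ m • x = (a * b) ^ m • x := by
      rw [hac, inv_smul_eq_iff, ← mul_smul, ← pow_add, ← two_mul, ← hm, hnx]
    have h2 := hua _ (hF m) h1
    have h3 := Nat.find_min hex (m := m) (by omega)
    exact h3 ⟨by omega, h2⟩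
  · have hb' : b = a * (a * b) := by rw [← mul_assoc, ha, one_mul]
    have h1 : b • (a * b) ^ m • x = (a * b) ^ m • x := by
      rw [← mul_smul, show b * (a * b) ^ m = a * (a * b) ^ (m + 1) by
        rw [pow_succ', ← mul_assoc, ← hb'], mul_smul, hac, inv_smul_eq_iff, ← mul_smul, ← pow_add,
        show m + 1 + m = n by omega, hnx]
    have hy := (hub _ (hF m) h1).symm
    refine ⟨m, n, hy, hnx, ?_, ?_⟩
    · rw [hy, ← mul_smul, ← pow_add, add_comm, pow_add, mul_smul, hnx]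
    · rw [show ((a * b) ^ m)⁻¹ * b * (a * b) ^ m = (((a * b) ^ m)⁻¹ * a) * ((a * b) * (a * b) ^ m) by
          conv_lhs => rw [hb']
          simp only [mul_assoc]
          rw [← mul_assoc a a, ha, one_mul], ← hpow, ← pow_succ', mul_assoc, ← mul_assoc a a, ha, one_mul,
        ← pow_add, show m + (m + 1) = n by omega]

omit [Finite H] in
theorem smul_point {g h : H} :
    h • (QuotientGroup.mk g : H ⧸ d.N) = QuotientGroup.mk g ↔ g⁻¹ * h * g ∈ d.N := by
  show (QuotientGroup.mk (h * g) : H ⧸ d.N) = _ ↔ _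
  rw [eq_comm, QuotientGroup.eq, mul_assoc]

omit [Finite H] in
theorem point_eq {g : H} (h : g ∈ d.N) :
    (QuotientGroup.mk g : H ⧸ d.N) = QuotientGroup.mk 1 :=
  QuotientGroup.eq.2 (by simpa using h)

omit [Finite H] in
theorem point_eq_iff {g h : H} :
    (QuotientGroup.mk h : H ⧸ d.N) = QuotientGroup.mk g ↔ g⁻¹ * h ∈ d.N := by
  rw [eq_comm, QuotientGroup.eq]

theorem conj_to_base {c g : H} {v : V}
    (hy : (QuotientGroup.mk g : H ⧸ d.N) = c • (QuotientGroup.mk 1 : H ⧸ d.N)) :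
    ∃ w, c⁻¹ * (g * d.e v * g⁻¹) * c = d.e w := by
  have hn : c⁻¹ * g ∈ d.N := by
    have hy' : (QuotientGroup.mk g : H ⧸ d.N) = QuotientGroup.mk (c * 1) := hy
    rw [mul_one] at hy'
    exact d.point_eq_iff.1 hy'
  obtain ⟨w, hw⟩ := d.mem_N.1 hn v
  exact ⟨w, by rw [← hw]; group⟩

theorem B_eq_of_comm {u v w : V} {x : H} (hu : x * d.e u * x⁻¹ = d.e u)
    (h : x * d.e v * x⁻¹ = d.e w) : d.q.B u w = d.q.B u v := by
  have h1 := d.cls x v w h
  have h2 := d.cls x (u + v) (u + w) (by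
    rw [d.e_add, d.e_add]
    calc x * (d.e u * d.e v) * x⁻¹ = (x * d.e u * x⁻¹) * (x * d.e v * x⁻¹) := by group
      _ = _ := by rw [hu, h])
  rw [d.q.polar, d.q.polar, h1] at h2
  exact (add_left_cancel h2).symm

theorem shift {u w : V} {c g : H} (hg : g * d.e u = d.e u * g) (hc : c * d.e u = d.e u * c) {v : V}
    (hw : c⁻¹ * (g * d.e v * g⁻¹) * c = d.e w) : d.q.B u w = d.q.B u v := by
  refine d.B_eq_of_comm (x := c⁻¹ * g) ?_ (by rw [← hw]; group)
  calc c⁻¹ * g * d.e u * (c⁻¹ * g)⁻¹ = c⁻¹ * (g * d.e u) * g⁻¹ * c := by group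
    _ = c⁻¹ * (d.e u * c) := by rw [hg]; group
    _ = d.e u := by rw [← hc]; group

/-- Centralisers of anticommuting nonsingular pairs. -/
theorem cent_two {u w : V} (hu : d.q.Q u = 1) (_hw : d.q.Q w = 1)
    (huw : d.q.B u w = 1) {g : H} (hgu : g * d.e u = d.e u * g) (hgw : g * d.e w = d.e w * g) : g ∈ d.N := by
  by_contra hg
  obtain ⟨a, ha, ha0, haQ⟩ := d.q.exists_singular
    (W := d.q.perp (Submodule.span (ZMod 2) ({u, w} : Set V))) (by have := d.q.four_le_perp_two u w; omega)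
  obtain ⟨v, hv, hvQ⟩ := d.q.exists_nonsingular
    (W := d.q.perp (Submodule.span (ZMod 2) ({u, w} : Set V))) (by have := d.q.four_le_perp_two u w; omega)
  obtain ⟨hau, haw⟩ := d.q.mem_perp_pair.1 ha
  obtain ⟨hvu, hvw⟩ := d.q.mem_perp_pair.1 hv
  obtain ⟨b, hb⟩ : ∃ b, b = g * d.e v * g⁻¹ := ⟨_, rfl⟩
  have hbc : ∀ {s : V}, g * d.e s = d.e s * g → b * d.e s = d.e s * b := fun {s} h => by
    have h' : d.e s = g * d.e s * g⁻¹ := by rw [h]; group
    rw [hb, h']
    calc g * d.e v * g⁻¹ * (g * d.e s * g⁻¹) = g * (d.e v * d.e s) * g⁻¹ := by group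
      _ = _ := by rw [d.e_comm v s]; group
  obtain ⟨m, n, hy, hnx, hny, hk⟩ := dihedral (fun z : H ⧸ d.N => d.e u • z = z)
    (a := d.e a) (b := b) (d.e_sq a) (hb ▸ d.conj_e_sq g v)
    (fun z hz => by rw [← mul_smul, d.e_comm, mul_smul, hz])
    (fun z hz => by rw [← mul_smul, ← hbc hgu, mul_smul, hz])
    (x := QuotientGroup.mk 1) (y := QuotientGroup.mk g)
    (d.smul_point.2 (by simpa using d.e_memN u))
    (d.smul_point.2 (by simpa using d.e_memN a))
    (fun z hz hfix => by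
      obtain ⟨h, rfl⟩ := QuotientGroup.mk_surjective z
      exact d.point_eq (d.fix_unique ha0 haQ (d.smul_point.1 hfix)))
    (fun z hz hfix => by
      obtain ⟨h, rfl⟩ := QuotientGroup.mk_surjective z
      refine d.point_eq_iff.2 (d.fix_unique (r := v + u) (fun h0 => ?_) ?_ ?_)
      · rw [QF.eq_of_add_eq_zero' h0, huw] at hvw
        exact one_ne_zero hvw
      · rw [d.q.polar, hvQ, hu, hvu, add_zero, CharTwo.add_self_eq_zero]
      · have h1 := d.N.mul_mem (d.smul_point.1 hfix) (d.smul_point.1 hz)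
        convert h1 using 1
        rw [hb, d.e_add]
        have h2 : g⁻¹ * d.e u * g = d.e u := by rw [mul_assoc, ← hgu]; group
        calc (g⁻¹ * h)⁻¹ * (d.e v * d.e u) * (g⁻¹ * h)
            = (g⁻¹ * h)⁻¹ * (d.e v * (g⁻¹ * d.e u * g)) * (g⁻¹ * h) := by rw [h2]
          _ = _ := by group)
  obtain ⟨v', hv'⟩ := d.conj_to_base (v := v) hy
  obtain ⟨c, hc⟩ : ∃ c, c = (d.e a * b) ^ m := ⟨_, rfl⟩
  rw [← hc] at hy hv'
  have hcc : ∀ {s : V}, g * d.e s = d.e s * g → c * d.e s = d.e s * c := fun {s} h => by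
    rw [hc]; exact (Commute.mul_left (d.e_comm a s) (hbc h)).pow_left m
  have hQ : d.q.Q v' = 1 := by
    rw [← d.cls (c⁻¹ * g) v v' (by rw [← hv']; group)]; exact hvQ
  have hBu : d.q.B (a + v') u = 0 := by
    rw [d.q.B_comm, map_add, d.shift hgu (hcc hgu) hv', d.q.B_comm u a, hau, d.q.B_comm u v, hvu, add_zero]
  have hke : (d.e a * b) ^ n = d.e (a + v') := by rw [hk, d.e_add, ← hv', hb, hc, hb]
  rw [hke] at hny
  have hkN := d.smul_point.1 hny
  rcases zmod2 (d.q.Q (a + v')) with h | h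
  · refine hg (d.fix_unique (fun h0 => ?_) h hkN)
    rw [QF.eq_of_add_eq_zero' h0, hQ] at haQ
    exact one_ne_zero haQ
  · refine hg (d.fix_unique (r := a + v' + u) (fun h0 => ?_) ?_ ?_)
    · have h1 : d.q.B (a + v' + u) w = d.q.B u w := by
        rw [map_add, LinearMap.add_apply, map_add, LinearMap.add_apply, d.q.B_comm v' w,
          d.shift hgw (hcc hgw) hv', d.q.B_comm w v, hvw, haw, zero_add, zero_add]
      rw [h0, map_zero, LinearMap.zero_apply, huw] at h1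
      exact zero_ne_one h1
    · rw [d.q.polar, h, hu, hBu, add_zero, CharTwo.add_self_eq_zero]
    · have h1 := d.N.mul_mem hkN (d.e_memN u)
      convert h1 using 1
      rw [d.e_add (a + v') u, mul_assoc _ g (d.e u), hgu]; group

/-- A nonsingular vector pairing to one with `u`. -/
theorem exists_partner {u : V} (hu : d.q.Q u = 1) : ∃ w, d.q.Q w = 1 ∧ d.q.B u w = 1 := by
  obtain ⟨c, hc⟩ : ∃ c, d.q.B u c = 1 := by
    by_contra hno
    push Not at hno
    have := d.q.nondeg u fun c => (zmod2 _).resolve_right (hno c)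
    rw [this, d.q.Q_zero] at hu
    exact zero_ne_one hu
  rcases zmod2 (d.q.Q c) with h | h
  swap
  · exact ⟨c, h, hc⟩
  obtain ⟨y, hy, hyQ⟩ := d.q.exists_nonsingular
    (W := d.q.perp (Submodule.span (ZMod 2) ({u, c} : Set V))) (by have := d.q.four_le_perp_two u c; omega)
  obtain ⟨hyu, hyc⟩ := d.q.mem_perp_pair.1 hy
  exact ⟨c + y, by rw [d.q.polar, h, hyQ, d.q.B_comm c y, hyc, zero_add, add_zero],
    by rw [map_add, hc, d.q.B_comm u y, hyu, add_zero]⟩

theorem fix_unique_pair {u w : V} (hu : d.q.Q u = 1) (hw : d.q.Q w = 1)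
    (huw : d.q.B u w = 1) {k : H}
    (hku : k⁻¹ * d.e u * k ∈ d.A) (hkw : k⁻¹ * d.e w * k ∈ d.N) : k ∈ d.N := by
  obtain ⟨u', hu'⟩ := hku
  have hf := d.act_isoInv hkw (by
    have := d.conj_e_sq k⁻¹ w
    rwa [inv_inv] at this)
  have h1 := hf.two_fix (W := ⊤) fun _ _ => trivial
  rw [finrank_top, d.q.dim, top_inf_eq] at h1
  obtain ⟨s, hs, hs0, hsQ⟩ := d.q.exists_singular (W := QF.fix (d.act _ hkw)) (by omega)
  have hsw := (d.act_fix hkw).1 (QF.mem_fix.1 hs)
  have h2 : k * d.e s * k⁻¹ ∈ d.N := by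
    refine d.cent_two hu hw huw ?_ ?_
    · rw [show d.e u = k * d.e u' * k⁻¹ by rw [hu']; group]
      calc k * d.e s * k⁻¹ * (k * d.e u' * k⁻¹) = k * (d.e s * d.e u') * k⁻¹ := by group
        _ = _ := by rw [d.e_comm s u']; group
    · calc k * d.e s * k⁻¹ * d.e w = k * (d.e s * (k⁻¹ * d.e w * k)) * k⁻¹ := by group
        _ = k * (k⁻¹ * d.e w * k * d.e s) * k⁻¹ := by rw [hsw]
        _ = _ := by group
  have h3 := d.fix_unique (g := k⁻¹) hs0 hsQ (by rwa [inv_inv])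
  simpa using d.N.inv_mem h3

/-- Centralisers of nonsingular members. -/
theorem cent_one {u : V} (hu : d.q.Q u = 1) {g : H} (hgu : g * d.e u = d.e u * g) : g ∈ d.N := by
  by_contra hg
  obtain ⟨w, hwQ, huw⟩ := d.exists_partner hu
  obtain ⟨a, ha, ha0, haQ⟩ := d.q.exists_singular
    (W := d.q.perp (Submodule.span (ZMod 2) ({u, u} : Set V))) (by have := d.q.four_le_perp_two u u; omega)
  obtain ⟨hau, -⟩ := d.q.mem_perp_pair.1 ha
  obtain ⟨b, hb⟩ : ∃ b, b = g * d.e w * g⁻¹ := ⟨_, rfl⟩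
  have hgu' : g * d.e u * g⁻¹ = d.e u := by rw [hgu]; group
  have hbu : b * d.e u = d.e u * b := by
    rw [hb, ← hgu']
    calc g * d.e w * g⁻¹ * (g * d.e u * g⁻¹) = g * (d.e w * d.e u) * g⁻¹ := by group
      _ = _ := by rw [d.e_comm w u]; group
  have hstab : ∀ (c : H), c * d.e u = d.e u * c → ∀ z : H ⧸ d.N,
      (∃ h : H, z = QuotientGroup.mk h ∧ h⁻¹ * d.e u * h ∈ d.A) →
      ∃ h : H, c • z = QuotientGroup.mk h ∧ h⁻¹ * d.e u * h ∈ d.A := by
    rintro c hc z ⟨h, rfl, hh⟩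
    refine ⟨c * h, rfl, ?_⟩
    convert hh using 1
    calc (c * h)⁻¹ * d.e u * (c * h) = h⁻¹ * c⁻¹ * (d.e u * c) * h := by group
      _ = _ := by rw [← hc]; group
  obtain ⟨m, n, hy, hnx, hny, hk⟩ := dihedral
    (fun z : H ⧸ d.N => ∃ h : H, z = QuotientGroup.mk h ∧ h⁻¹ * d.e u * h ∈ d.A)
    (a := d.e a) (b := b) (d.e_sq a) (hb ▸ d.conj_e_sq g w)
    (hstab _ (d.e_comm a u)) (hstab _ hbu)
    (x := QuotientGroup.mk 1) (y := QuotientGroup.mk g) ⟨1, rfl, by simpa using d.e_mem u⟩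
    (d.smul_point.2 (by simpa using d.e_memN a))
    (fun z _ hfix => by
      obtain ⟨h, rfl⟩ := QuotientGroup.mk_surjective z
      exact d.point_eq (d.fix_unique ha0 haQ (d.smul_point.1 hfix)))
    (fun z hz hfix => by
      obtain ⟨h, rfl, hh⟩ := hz
      refine d.point_eq_iff.2 (d.fix_unique_pair hu hwQ huw ?_ ?_)
      · convert hh using 1
        calc (g⁻¹ * h)⁻¹ * d.e u * (g⁻¹ * h) = h⁻¹ * (g * d.e u * g⁻¹) * h := by group
          _ = _ := by rw [hgu']
      · convert d.smul_point.1 hfix using 1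
        rw [hb]; group)
  obtain ⟨w', hw'⟩ := d.conj_to_base (v := w) hy
  obtain ⟨c, hc⟩ : ∃ c, c = (d.e a * b) ^ m := ⟨_, rfl⟩
  rw [← hc] at hy hw'
  have hcu : c * d.e u = d.e u * c := hc ▸ (Commute.mul_left (d.e_comm a u) hbu).pow_left m
  have hB : d.q.B u (a + w') = 1 := by
    rw [map_add, d.q.B_comm u a, hau, d.shift hgu hcu hw', huw, zero_add]
  have hke : (d.e a * b) ^ n = d.e (a + w') := by rw [hk, d.e_add, ← hw', hb, hc, hb]
  rw [hke] at hny
  have hkN := d.smul_point.1 hny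
  rcases zmod2 (d.q.Q (a + w')) with h | h
  · exact hg (d.fix_unique (fun h0 => by simp [h0] at hB) h hkN)
  · refine hg (d.fix_unique_pair hu h hB ⟨u, ?_⟩ hkN)
    rw [mul_assoc, ← hgu]; group

/-- The subgroup is normal. -/
theorem normalizer_eq_top (g : H) : g ∈ d.N := by
  by_contra hg
  obtain ⟨a, -, ha0, haQ⟩ := d.q.exists_singular (W := (⊤ : Submodule (ZMod 2) V))
    (by rw [finrank_top, d.q.dim]; omega)
  obtain ⟨v, -, hvQ⟩ := d.q.exists_nonsingular (W := (⊤ : Submodule (ZMod 2) V))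
    (by rw [finrank_top, d.q.dim]; omega)
  obtain ⟨b, hb⟩ : ∃ b, b = g * d.e v * g⁻¹ := ⟨_, rfl⟩
  have huniq : ∀ {k : H} {u : V}, d.q.Q u = 1 → k⁻¹ * d.e u * k ∈ d.N → k ∈ d.N := by
    intro k u hu hk
    have hf := d.act_isoInv hk (by
      have := d.conj_e_sq k⁻¹ u
      rwa [inv_inv] at this)
    have h1 := hf.two_fix (W := ⊤) fun _ _ => trivial
    rw [finrank_top, d.q.dim, top_inf_eq] at h1
    obtain ⟨s, hs, hs0, hsQ⟩ := d.q.exists_singular (W := QF.fix (d.act _ hk)) (by omega)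
    have hsw := (d.act_fix hk).1 (QF.mem_fix.1 hs)
    have h2 : k * d.e s * k⁻¹ ∈ d.N := by
      refine d.cent_one hu ?_
      calc k * d.e s * k⁻¹ * d.e u = k * (d.e s * (k⁻¹ * d.e u * k)) * k⁻¹ := by group
        _ = k * (k⁻¹ * d.e u * k * d.e s) * k⁻¹ := by rw [hsw]
        _ = _ := by group
    have h3 := d.fix_unique (g := k⁻¹) hs0 hsQ (by rwa [inv_inv])
    simpa using d.N.inv_mem h3
  obtain ⟨m, n, hy, hnx, hny, hk⟩ := dihedral (fun _ : H ⧸ d.N => True)
    (a := d.e a) (b := b) (d.e_sq a) (hb ▸ d.conj_e_sq g v) (fun _ _ => trivial) (fun _ _ => trivial)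
    (x := QuotientGroup.mk 1) (y := QuotientGroup.mk g) trivial
    (d.smul_point.2 (by simpa using d.e_memN a))
    (fun z _ hfix => by
      obtain ⟨h, rfl⟩ := QuotientGroup.mk_surjective z
      exact d.point_eq (d.fix_unique ha0 haQ (d.smul_point.1 hfix)))
    (fun z _ hfix => by
      obtain ⟨h, rfl⟩ := QuotientGroup.mk_surjective z
      refine d.point_eq_iff.2 (huniq hvQ ?_)
      convert d.smul_point.1 hfix using 1
      rw [hb]; group)
  obtain ⟨v', hv'⟩ := d.conj_to_base (v := v) hy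
  obtain ⟨c, hc⟩ : ∃ c, c = (d.e a * b) ^ m := ⟨_, rfl⟩
  rw [← hc] at hy hv'
  have hQ : d.q.Q v' = 1 := by
    rw [← d.cls (c⁻¹ * g) v v' (by rw [← hv']; group)]; exact hvQ
  have hke : (d.e a * b) ^ n = d.e (a + v') := by rw [hk, d.e_add, ← hv', hb, hc, hb]
  rw [hke] at hny
  have hkN := d.smul_point.1 hny
  rcases zmod2 (d.q.Q (a + v')) with h | h
  · refine hg (d.fix_unique (fun h0 => ?_) h hkN)
    rw [QF.eq_of_add_eq_zero' h0, hQ] at haQ
    exact one_ne_zero haQ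
  · exact hg (huniq h hkN)

end Dat

end Cfsg.Agent.C6Minus
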