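import Cfsg.Prelude.Def_GeometricClasses
import Cfsg.Agent.Lib.C6Minus.Strong
import Cfsg.Agent.Lib.PrimeOrderElt.ExtraspecialMinus
import Cfsg.Agent.Lib.Transvect.Symp
import Mathlib.FieldTheory.Finite.Basic
/-!
# `2^{1+6}` of minus type in `Sp₈(p)`

* `Minus8`, `minus8_of`
* `Minus8.quad`  : the quadratic space `R/±1`
* `Minus8.mem_of_signs` : isometries centralising `R/±1` lie in `R`
* `Minus8.pairElt` : the pairs of transvections
-/

set_option autoImplicit false
set_option linter.unusedSectionVars false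
set_option linter.style.haveILetI false

namespace Cfsg.Agent.C6Minus

open Module Matrix
open scoped commutatorElement

variable {F : Type*} [Field F]

local notation "GL8" => GL (Fin 4 ⊕ Fin 4) F
local notation "M8" => Matrix (Fin 4 ⊕ Fin 4) (Fin 4 ⊕ Fin 4) F

/-- The properties of `R` that are used. -/
structure Minus8 (R : Subgroup (GL (Fin 4 ⊕ Fin 4) F)) : Prop where
  two : (2 : F) ≠ 0
  le : R ≤ Cfsg.spGL 4 F
  card : Nat.card R = 128
  neg : (-1 : GL8) ∈ R
  sq : ∀ g ∈ R, g * g = 1 ∨ g * g = -1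
  comm : ∀ g ∈ R, ∀ h ∈ R, g * h = h * g ∨ g * h = -(h * g)
  scalar : ∀ M : M8, (∀ g ∈ R, M * (g : M8) = (g : M8) * M) → ∃ c : F, M = c • 1
  minus : Cfsg.Geo.IsOfMinusType 3 R

theorem minus8_of (h2 : (2 : F) ≠ 0) {R : Subgroup GL8} (hRs : Cfsg.Geo.IsSymplecticTypeGroup 2 R)
    (hRi : Cfsg.Geo.ActsAbsolutelyIrreducibly (Cfsg.Geo.matrixSet R))
    (hRf : R ≤ Cfsg.spGL 4 F) (hc : Nat.card R = 128) (hRZ : Nat.card (Subgroup.center R) = 2)
    (hRm : Cfsg.Geo.IsOfMinusType 3 R) : Minus8 R := by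
  classical
  have hcen : ∀ M : M8, (∀ g ∈ R, M * g.1 = g.1 * M) → ∃ c : F, M = c • 1 :=
    fun M hM => hRi.2 M (by rintro _ ⟨g, hg, rfl⟩; exact hM g hg)
  have he : Monoid.exponent R = 4 := hRs.exponent_eq
  have h4 : ∀ t : R, t ^ 4 = 1 := fun t => by
    have := Monoid.pow_exponent_eq_one t
    rwa [he] at this
  have : Finite R := Nat.finite_of_card_ne_zero (by rw [hc]; norm_num)
  obtain ⟨z, hz, hz1⟩ : ∃ z ∈ Subgroup.center R, z ≠ 1 := by
    by_contra hno
    push Not at hno
    have h1 : Subgroup.center R = ⊥ := (Subgroup.eq_bot_iff_forall _).mpr hno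
    rw [h1, Subgroup.card_bot] at hRZ
    omega
  have hz2 : z ^ 2 = 1 := by
    have h := congrArg Subtype.val (pow_card_eq_one' (x := (⟨z, hz⟩ : Subgroup.center R)))
    rw [hRZ] at h
    exact h
  obtain ⟨e, he'⟩ := hcen (z : GL8).1 fun g hg =>
    congrArg (fun u : R => (u : GL8).1) (Subgroup.mem_center_iff.mp hz ⟨g, hg⟩).symm
  have hzneg : (z : GL8) = -1 := by
    have h := congrArg (fun u : R => (u : GL8).1) hz2
    simp only [SubmonoidClass.coe_pow, Units.val_pow_eq_pow_val, he', _root_.smul_pow, one_pow,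
      OneMemClass.coe_one, Units.val_one] at h
    have he2 : e ^ 2 = 1 := by simpa using congr_fun (congr_fun h (Sum.inl 0)) (Sum.inl 0)
    rcases sq_eq_one_iff.mp he2 with rfl | rfl
    · exact absurd (Subtype.ext (Units.ext (by rw [he', one_smul]; rfl))) hz1
    · exact Units.ext (by rw [he', neg_one_smul, Units.val_neg, Units.val_one])
  obtain ⟨hsq, hcm⟩ := Symplectic.exists_relations (T := R)
    ⟨hRs.pGroup, hRs.cyclic_of_characteristic⟩ h4 hz hz2 hz1
  refine ⟨h2, hRf, hc, hzneg ▸ z.2, fun g hg => ?_, fun g hg h hh => ?_, hcen, hRm⟩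
  · exact (hsq ⟨g, hg⟩).imp (congrArg Subtype.val) fun e => (congrArg Subtype.val e).trans hzneg
  · have e1 : g * h = ⁅g, h⁆ * (h * g) := by rw [commutatorElement_def]; group
    rcases hcm ⟨g, hg⟩ ⟨h, hh⟩ with h' | h'
    · left
      rw [e1, show ⁅g, h⁆ = 1 from congrArg Subtype.val h', one_mul]
    · right
      rw [e1, show ⁅g, h⁆ = -1 from (congrArg Subtype.val h').trans hzneg, neg_mul, one_mul]

/-- The linear map of a matrix determines it. -/
theorem ext_val {g h : GL8} (e : (g : M8) = (h : M8)) : g = h := Units.ext e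

namespace Minus8

variable {R : Subgroup (GL (Fin 4 ⊕ Fin 4) F)} (hR : Minus8 R)
include hR

theorem ne_neg (g : GL8) : g ≠ -g := PrimeOrderElt.unit_ne_neg hR.two g

theorem one_ne_neg : (1 : GL8) ≠ -1 := hR.ne_neg 1

theorem neg_mem {g : GL8} (hg : g ∈ R) : -g ∈ R := by simpa using R.mul_mem hR.neg hg

/-- `±1` inside `R`. -/
theorem inv_eq {g : GL8} (hg : g ∈ R) : g⁻¹ = g ∨ g⁻¹ = -g :=
  (hR.sq g hg).imp (fun h => inv_eq_of_mul_eq_one_right h) fun h =>
    inv_eq_of_mul_eq_one_right (by rw [mul_neg, h, neg_neg])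

theorem scalar_pm {g : GL8} (hg : g ∈ Cfsg.spGL 4 F) {c : F} (hc : (g : M8) = c • 1) :
    g = 1 ∨ g = -1 := by
  have h := Transvect.mem_spGL_iff.1 hg
  have happ : ∀ x, Transvect.app g x = c • x := fun x => by
    rw [Transvect.app_apply, hc, Matrix.smul_mulVec, Matrix.one_mulVec]
  have hf := Transvect.sympForm_isSymplectic (F := F) 4
  obtain ⟨-, y, hy⟩ := hf.nondegenerate (Pi.single (Sum.inl 0) 1) (by simp)
  have h1 := h (Pi.single (Sum.inl 0) 1) y
  rw [happ, happ, hf.bilinear.smul_left, hf.bilinear.smul_right, ← mul_assoc] at h1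
  have h2 : c * c = 1 := by
    rcases mul_eq_zero.1 (show (c * c - 1) * Cfsg.sympForm 4 F (Pi.single (Sum.inl 0) 1) y = 0 by
      rw [sub_mul, h1, one_mul, sub_self]) with h | h
    · exact sub_eq_zero.1 h
    · exact absurd h hy
  rcases mul_self_eq_one_iff.1 h2 with rfl | rfl
  · exact Or.inl (ext_val (by rw [hc, one_smul, Units.val_one]))
  · exact Or.inr (ext_val (by rw [hc, neg_one_smul, Units.val_neg, Units.val_one]))

theorem central {g : GL8} (hg : g ∈ R) (h : ∀ x ∈ R, g * x = x * g) : g = 1 ∨ g = -1 := by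
  obtain ⟨c, hc⟩ := hR.scalar (g : M8) fun x hx => by rw [← Units.val_mul, h x hx, Units.val_mul]
  exact hR.scalar_pm (hR.le hg) hc

theorem exists_anti {g : GL8} (hg : g ∈ R) (h1 : g ≠ 1) (h2 : g ≠ -1) :
    ∃ x ∈ R, g * x = -(x * g) := by
  by_contra hno
  push Not at hno
  rcases hR.central hg fun x hx => (hR.comm g hg x hx).resolve_right (hno x hx) with h | h
  exacts [h1 h, h2 h]

/-! ## The quadratic space `R/±1` -/

omit hR in
/-- `±1` inside `R`. -/
def pm (R : Subgroup GL8) : Subgroup R where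
  carrier := {x | (x : GL8) = 1 ∨ (x : GL8) = -1}
  one_mem' := Or.inl rfl
  mul_mem' := by
    rintro a b (ha | ha) (hb | hb) <;>
      show ((a * b : R) : GL8) = 1 ∨ ((a * b : R) : GL8) = -1 <;> simp [ha, hb]
  inv_mem' := by
    rintro a (ha | ha)
    · exact Or.inl (by simp [ha])
    · exact Or.inr (by simp [ha, inv_neg])

omit hR in
theorem pm_normal (R : Subgroup GL8) : (pm R).Normal :=
  ⟨fun x hx g => by
    rcases hx with h | h
    · exact Or.inl (by simp [h])
    · exact Or.inr (by simp [h, mul_inv_cancel])⟩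

end Minus8

/-- `R/±1`. -/
def Bar (R : Subgroup GL8) : Type _ := R ⧸ Minus8.pm R

noncomputable instance instGroupBar (R : Subgroup GL8) : Group (Bar R) :=
  haveI := Minus8.pm_normal R
  QuotientGroup.Quotient.group (Minus8.pm R)

/-- The class of a member. -/
def bar {R : Subgroup GL8} (x : R) : Bar R := QuotientGroup.mk x

theorem bar_eq {R : Subgroup GL8} {x y : R} :
    bar x = bar y ↔ (y : GL8) = x ∨ (y : GL8) = -(x : GL8) := by
  rw [bar, bar]
  refine QuotientGroup.eq.trans ?_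
  show ((x⁻¹ * y : R) : GL8) = 1 ∨ ((x⁻¹ * y : R) : GL8) = -1 ↔ _
  simp only [Subgroup.coe_mul, Subgroup.coe_inv, inv_mul_eq_iff_eq_mul, mul_one, mul_neg]

theorem bar_surjective {R : Subgroup GL8} : Function.Surjective (bar (R := R)) :=
  QuotientGroup.mk_surjective

theorem bar_mul {R : Subgroup GL8} (x y : R) : bar (x * y) = bar x * bar y := rfl

/-- `R/±1`, written additively. -/
abbrev VB (R : Subgroup GL8) := Additive (Bar R)

/-- Zero or one as a member squares to `±1`. -/
noncomputable def Qv {R : Subgroup GL8} (x : R) : ZMod 2 := by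
  classical exact if (x : GL8) * x = 1 then 0 else 1

/-- Zero or one as two members commute. -/
noncomputable def Bv {R : Subgroup GL8} (x y : R) : ZMod 2 := by
  classical exact if (x : GL8) * y = y * x then 0 else 1

namespace Minus8

variable {R : Subgroup (GL (Fin 4 ⊕ Fin 4) F)} (hR : Minus8 R)
include hR

theorem comm_bar (a b : Bar R) : a * b = b * a := by
  obtain ⟨x, rfl⟩ := bar_surjective a
  obtain ⟨y, rfl⟩ := bar_surjective b
  rw [← bar_mul, ← bar_mul, bar_eq]
  rcases hR.comm x x.2 y y.2 with h | h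
  · exact Or.inl (by simp [h])
  · exact Or.inr (by simp [h])

/-- `R/±1` is abelian. -/
@[reducible] noncomputable def commGroup : CommGroup (Bar R) :=
  { instGroupBar R with mul_comm := hR.comm_bar }

theorem bar_sq (a : Bar R) : a * a = 1 := by
  obtain ⟨x, rfl⟩ := bar_surjective a
  show bar (x * x) = bar 1
  rw [bar_eq]
  rcases hR.sq x x.2 with h | h
  · exact Or.inl (by simp [h])
  · exact Or.inr (by simp [h])

theorem Q_cases (x : R) :
    ((x : GL8) * x = 1 ∧ Qv x = 0) ∨ ((x : GL8) * x = -1 ∧ Qv x = 1) := by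
  classical
  rcases hR.sq x x.2 with h | h
  · exact Or.inl ⟨h, by simp [Qv, h]⟩
  · refine Or.inr ⟨h, ?_⟩
    simp [Qv, h, hR.one_ne_neg.symm]

theorem B_cases (x y : R) :
    ((x : GL8) * y = y * x ∧ Bv x y = 0) ∨ ((x : GL8) * y = -(y * x) ∧ Bv x y = 1) := by
  classical
  rcases hR.comm x x.2 y y.2 with h | h
  · exact Or.inl ⟨h, by simp [Bv, h]⟩
  · refine Or.inr ⟨h, ?_⟩
    simp only [Bv]
    rw [if_neg]
    intro h'
    rw [h'] at h
    exact hR.ne_neg _ h

theorem Bv_mul (x y z : R) : Bv x (y * z) = Bv x y + Bv x z := by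
  rcases hR.B_cases x (y * z) with ⟨h, e⟩ | ⟨h, e⟩ <;>
  rcases hR.B_cases x y with ⟨h1, e1⟩ | ⟨h1, e1⟩ <;>
  rcases hR.B_cases x z with ⟨h2, e2⟩ | ⟨h2, e2⟩ <;>
  rw [e, e1, e2] <;>
  simp only [Subgroup.coe_mul, ← mul_assoc, h1, neg_mul] at h <;>
  simp only [mul_assoc, h2, mul_neg, neg_neg] at h <;>
  first
    | decide
    | exact absurd h (hR.ne_neg _)
    | exact absurd h.symm (hR.ne_neg _)

theorem Bv_comm (x y : R) : Bv x y = Bv y x := by
  rcases hR.B_cases x y with ⟨h, e⟩ | ⟨h, e⟩ <;>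
  rcases hR.B_cases y x with ⟨h', e'⟩ | ⟨h', e'⟩ <;> rw [e, e'] <;>
  rw [h'] at h
  · exact absurd (by simpa using h) (hR.ne_neg ((x : GL8) * y))
  · exact absurd h (hR.ne_neg ((x : GL8) * y))

theorem Qv_mul (x y : R) : Qv (x * y) = Qv x + Qv y + Bv x y := by
  have h0 : ((x * y : R) : GL8) * (x * y : R) = (x : GL8) * (y * x) * y := by
    simp only [Subgroup.coe_mul, mul_assoc]
  rcases hR.Q_cases (x * y) with ⟨h, e⟩ | ⟨h, e⟩ <;>
  rcases hR.Q_cases x with ⟨h1, e1⟩ | ⟨h1, e1⟩ <;>
  rcases hR.Q_cases y with ⟨h2, e2⟩ | ⟨h2, e2⟩ <;>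
  rcases hR.B_cases x y with ⟨h3, e3⟩ | ⟨h3, e3⟩ <;>
  rw [e, e1, e2, e3] <;>
  first
    | decide
    | exfalso
      first
        | rw [← h3] at h0
        | rw [← neg_neg ((y : GL8) * x), ← h3] at h0
      simp only [mul_neg, neg_mul, ← mul_assoc, h1, one_mul, h2, h, neg_neg] at h0
      first
        | exact hR.one_ne_neg h0
        | exact hR.one_ne_neg h0.symm

theorem Bv_congr (x : R) {y y' : R} (h : bar y = bar y') : Bv x y = Bv x y' := by
  classical
  rcases bar_eq.1 h with h | h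
  · rw [Subtype.ext h]
  · simp [Bv, h]

theorem Qv_congr {y y' : R} (h : bar y = bar y') : Qv y = Qv y' := by
  classical
  rcases bar_eq.1 h with h | h
  · rw [Subtype.ext h]
  · simp [Qv, h]

omit hR in
/-- A lift. -/
noncomputable def lift (v : VB R) : R := Function.surjInv bar_surjective (Additive.toMul v)

omit hR in
theorem bar_lift (v : VB R) : bar (lift v) = Additive.toMul v := Function.surjInv_eq bar_surjective _

/-- `R/±1` as an additive group. -/
@[reducible] noncomputable def addCommGroup : AddCommGroup (VB R) :=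
  letI := hR.commGroup
  inferInstance

/-- `R/±1` as a vector space over `𝔽₂`. -/
@[reducible] noncomputable def module2 : letI := hR.addCommGroup; Module (ZMod 2) (VB R) :=
  letI := hR.addCommGroup
  AddCommGroup.zmodModule fun v => by
    rw [two_nsmul]
    exact hR.bar_sq (Additive.toMul v)

theorem card_pm : Nat.card (pm R) = 2 := by
  refine Nat.card_eq_two_iff.2 ⟨⟨1, Or.inl rfl⟩, ⟨⟨-1, hR.neg⟩, Or.inr rfl⟩, fun h => ?_, ?_⟩
  · exact hR.one_ne_neg (congrArg (fun z : pm R => ((z : R) : GL8)) h)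
  · refine Set.eq_univ_of_forall fun z => ?_
    rcases z.2 with h | h
    · exact Or.inl (Subtype.ext (Subtype.ext h))
    · exact Or.inr (Subtype.ext (Subtype.ext h))

theorem card_bar : Nat.card (VB R) = 64 := by
  have h := Subgroup.card_eq_card_quotient_mul_card_subgroup (pm R)
  rw [hR.card, hR.card_pm] at h
  show Nat.card (R ⧸ pm R) = 64
  omega

theorem finite : Finite (VB R) := Nat.finite_of_card_ne_zero (by rw [hR.card_bar]; norm_num)

theorem minus_bound (A : Set R) (h1 : (1 : R) ∈ A) (hm : ∀ x ∈ A, ∀ y ∈ A, x * y ∈ A)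
    (hc : ∀ x ∈ A, ∀ y ∈ A, (x : GL8) * y = y * x) (hs : ∀ x ∈ A, (x : GL8) * x = 1) :
    A.ncard < 16 := by
  have hfin : Finite R := Nat.finite_of_card_ne_zero (by rw [hR.card]; norm_num)
  let S : Subgroup R :=
    { carrier := A
      one_mem' := h1
      mul_mem' := fun {x y} hx hy => hm x hx y hy
      inv_mem' := fun {x} hx => by
        rwa [inv_eq_of_mul_eq_one_right (show x * x = 1 from Subtype.ext (hs x hx))] }
  have := hR.minus S ⟨⟨fun x y => Subtype.ext (Subtype.ext (hc x x.2 y y.2))⟩⟩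
    fun x hx => Subtype.ext (hs x hx)
  rwa [show (2 : ℕ) ^ (3 + 1) = 16 by norm_num, ← SetLike.coe_sort_coe, Nat.card_coe_set_eq] at this

/-- The quadratic space. -/
noncomputable def quad :
    letI := hR.addCommGroup; letI := hR.module2; QF (VB R) := by
  letI := hR.addCommGroup
  letI := hR.module2
  have hadd : ∀ v w : VB R, bar (lift v * lift w) = bar (lift (v + w)) := fun v w => by
    rw [bar_mul, bar_lift, bar_lift, bar_lift]; rfl
  refine
    { Q := fun v => Qv (lift v)
      B := LinearMap.mk₂ (ZMod 2) (fun v w => Bv (lift v) (lift w)) ?_ ?_ ?_ ?_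
      polar := fun v w => ?_, nondeg := fun v hv => ?_, dim := ?_, minus := fun W hW => ?_ }
  · intro a b c
    rw [hR.Bv_comm, ← hR.Bv_congr _ (hadd a b), hR.Bv_mul, hR.Bv_comm (lift c), hR.Bv_comm (lift c)]
  · intro c a b
    have h0 : Bv (lift (0 : VB R)) (lift b) = 0 := by
      have h : bar (1 : R) = bar (lift (0 : VB R)) := (bar_lift (0 : VB R)).symm
      rw [hR.Bv_comm, ← hR.Bv_congr _ h]
      classical simp [Bv]
    rcases zmod2 c with rfl | rfl
    · rw [zero_smul, zero_smul, h0]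
    · rw [one_smul, one_smul]
  · intro a b c
    rw [← hR.Bv_congr _ (hadd b c), hR.Bv_mul]
  · intro c a b
    have h0 : Bv (lift a) (lift (0 : VB R)) = 0 := by
      have h : bar (1 : R) = bar (lift (0 : VB R)) := (bar_lift (0 : VB R)).symm
      rw [← hR.Bv_congr _ h]
      classical simp [Bv]
    rcases zmod2 c with rfl | rfl
    · rw [zero_smul, zero_smul, h0]
    · rw [one_smul, one_smul]
  · show Qv (lift (v + w)) = _
    rw [← hR.Qv_congr (hadd v w), hR.Qv_mul]; rfl
  · have hall : ∀ x ∈ R, (lift v : GL8) * x = x * lift v := fun x hx => by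
      rcases hR.B_cases (lift v) ⟨x, hx⟩ with ⟨h, -⟩ | ⟨-, e⟩
      · exact h
      · have h1 : bar (lift (Additive.ofMul (bar (⟨x, hx⟩ : R)) : VB R)) = bar (⟨x, hx⟩ : R) :=
          bar_lift _
        have := hv (Additive.ofMul (bar (⟨x, hx⟩ : R)))
        rw [LinearMap.mk₂_apply, hR.Bv_congr _ h1, e] at this
        exact absurd this one_ne_zero
    have h1 : bar (lift v) = bar 1 := by
      rw [bar_eq]
      rcases hR.central (lift v).2 hall with h | h
      · exact Or.inl (by simp [h])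
      · exact Or.inr (by simp [h])
    rw [bar_lift] at h1
    exact congrArg Additive.ofMul h1
  · have := hR.finite
    have h := Module.natCard_eq_pow_finrank (K := ZMod 2) (V := VB R)
    rw [hR.card_bar, Nat.card_eq_fintype_card, ZMod.card] at h
    exact (Nat.pow_right_injective le_rfl (show 2 ^ finrank (ZMod 2) (VB R) = 2 ^ 6 by rw [← h]))
  · by_contra hlt
    have := hR.finite
    have hB : ∀ a ∈ W, ∀ b ∈ W, Bv (lift a) (lift b) = 0 := fun a ha b hb => by
      have h := hR.Qv_mul (lift a) (lift b)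
      rw [hR.Qv_congr (hadd a b), hW _ (W.add_mem ha hb), hW _ ha, hW _ hb, zero_add, zero_add] at h
      exact h.symm
    have hmem : ∀ {x : R}, Additive.ofMul (bar x) ∈ W → Qv x = 0 ∧
        ∀ y : R, Additive.ofMul (bar y) ∈ W → Bv x y = 0 := fun {x} hx => by
      have hx' : bar (lift (Additive.ofMul (bar x) : VB R)) = bar x := bar_lift _
      refine ⟨(hR.Qv_congr hx').symm.trans (hW _ hx), fun y hy => ?_⟩
      have hy' : bar (lift (Additive.ofMul (bar y) : VB R)) = bar y := bar_lift _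
      rw [← hR.Bv_congr x hy', hR.Bv_comm, ← hR.Bv_congr _ hx', hR.Bv_comm]
      exact hB _ hx _ hy
    have hsmall := hR.minus_bound {x : R | Additive.ofMul (bar x) ∈ W} W.zero_mem
      (fun x hx y hy => W.add_mem hx hy) (fun x hx y hy => by
        rcases hR.B_cases x y with ⟨h, -⟩ | ⟨-, e⟩
        · exact h
        · rw [(hmem hx).2 y hy] at e; exact absurd e zero_ne_one)
      (fun x hx => by
        rcases hR.Q_cases x with ⟨h, -⟩ | ⟨-, e⟩
        · exact h
        · rw [(hmem hx).1] at e; exact absurd e zero_ne_one)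
    have hbig : 16 ≤ ({x : R | Additive.ofMul (bar x) ∈ W}).ncard := by
      have hcardW : 8 ≤ Nat.card W := by
        rw [Module.natCard_eq_pow_finrank (K := ZMod 2) (V := W), Nat.card_eq_fintype_card, ZMod.card]
        calc (8 : ℕ) = 2 ^ 3 := by norm_num
          _ ≤ _ := Nat.pow_le_pow_right (by norm_num) (by omega)
      rw [← Nat.card_coe_set_eq]
      have hfin : Finite R := Nat.finite_of_card_ne_zero (by rw [hR.card]; norm_num)
      let φ : W × Bool → {x : R | Additive.ofMul (bar x) ∈ W} := fun p =>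
        ⟨bif p.2 then ⟨-((lift p.1.1 : R) : GL8), hR.neg_mem (lift p.1.1).2⟩ else lift p.1.1, by
          have h0 : Additive.ofMul (bar (lift p.1.1)) = p.1.1 := congrArg Additive.ofMul (bar_lift _)
          show Additive.ofMul (bar _) ∈ W
          cases p.2 <;> simp only [cond_false, cond_true]
          · rw [h0]; exact p.1.2
          · rw [show bar (⟨-((lift p.1.1 : R) : GL8), hR.neg_mem (lift p.1.1).2⟩ : R) = bar (lift p.1.1)
              from bar_eq.2 (Or.inr (neg_neg _).symm), h0]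
            exact p.1.2⟩
      have hinj : Function.Injective φ := by
        rintro ⟨a, i⟩ ⟨b, k⟩ h
        have h' := congrArg (fun z : {x : R | Additive.ofMul (bar x) ∈ W} => ((z : R) : GL8)) h
        have hab : a = b := by
          refine Subtype.ext (Additive.toMul.injective ?_)
          rw [← bar_lift (a : VB R), ← bar_lift (b : VB R), bar_eq]
          cases i <;> cases k <;> simp [φ] at h'
          exacts [Or.inl (by rw [h']), Or.inr (by rw [h', neg_neg]), Or.inr (by rw [← h']),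
            Or.inl (by rw [h'])]
        subst hab
        cases i <;> cases k <;> simp [φ] at h'
        · rfl
        · exact absurd h' (hR.ne_neg _)
        · exact absurd h'.symm (hR.ne_neg _)
        · rfl
      have := Nat.card_le_card_of_injective φ hinj
      rw [Nat.card_prod, Nat.card_eq_fintype_card (α := Bool), Fintype.card_bool] at this
      omega
    omega

/-- An isometry normalising every class lies in `R`. -/
theorem mem_of_signs {g : GL8} (hg : g ∈ Cfsg.spGL 4 F)
    (h : ∀ x ∈ R, g * x * g⁻¹ = x ∨ g * x * g⁻¹ = -x) : g ∈ R := by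
  classical
  letI := hR.addCommGroup
  letI := hR.module2
  let s : R → ZMod 2 := fun x => if g * (x : GL8) = x * g then 0 else 1
  have hs : ∀ x : R, (g * (x : GL8) = x * g ∧ s x = 0) ∨ (g * (x : GL8) = -(x * g) ∧ s x = 1) := fun x => by
    rcases h x x.2 with e | e
    · have e' : g * (x : GL8) = x * g := mul_inv_eq_iff_eq_mul.1 e
      exact Or.inl ⟨e', if_pos e'⟩
    · have e' : g * (x : GL8) = -(x * g) := by rw [mul_inv_eq_iff_eq_mul.1 e, neg_mul]
      exact Or.inr ⟨e', if_neg fun e'' => hR.ne_neg _ (e''.symm.trans e')⟩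
  have hsmul : ∀ x y : R, s (x * y) = s x + s y := fun x y => by
    rcases hs (x * y) with ⟨h, e⟩ | ⟨h, e⟩ <;>
    rcases hs x with ⟨h1, e1⟩ | ⟨h1, e1⟩ <;>
    rcases hs y with ⟨h2, e2⟩ | ⟨h2, e2⟩ <;>
    rw [e, e1, e2] <;>
    simp only [Subgroup.coe_mul, ← mul_assoc, h1, neg_mul] at h <;>
    simp only [mul_assoc, h2, mul_neg, neg_neg] at h <;>
    first
      | decide
      | exact absurd h (hR.ne_neg _)
      | exact absurd h.symm (hR.ne_neg _)
  have hscongr : ∀ {x y : R}, bar x = bar y → s x = s y := fun {x y} e => by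
    rcases bar_eq.1 e with e' | e'
    · rw [Subtype.ext e']
    · simp [s, e']
  let φ : VB R →ₗ[ZMod 2] ZMod 2 := (AddMonoidHom.mk' (fun v => s (lift v)) fun v w => by
    rw [← hsmul]; exact hscongr (by rw [bar_mul, bar_lift, bar_lift, bar_lift]; rfl)).toZModLinearMap 2
  obtain ⟨e, he⟩ := hR.quad.exists_represent ⊤ (φ.comp (Submodule.subtype ⊤))
  obtain ⟨y, hy⟩ : ∃ y : R, y = lift e := ⟨_, rfl⟩
  have hBs : ∀ x : R, Bv y x = s x := fun x => by
    have h1 : bar (lift (Additive.ofMul (bar x) : VB R)) = bar x := bar_lift _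
    rw [hy, ← hR.Bv_congr _ h1, ← hscongr h1]
    exact he ⟨Additive.ofMul (bar x), trivial⟩
  have hcomm : ∀ x ∈ R, g * (y : GL8) * x = x * (g * y) := fun x hx => by
    have := hBs ⟨x, hx⟩
    rcases hR.B_cases y ⟨x, hx⟩ with ⟨h1, e1⟩ | ⟨h1, e1⟩ <;>
    rcases hs ⟨x, hx⟩ with ⟨h2, e2⟩ | ⟨h2, e2⟩ <;>
    rw [e1, e2] at this <;>
    first
      | exact absurd this (by decide)
      | (simp only [mul_assoc, h1, mul_neg]
         simp only [← mul_assoc, h2, neg_mul, neg_neg])
  obtain ⟨c, hc⟩ := hR.scalar ((g * (y : GL8) : GL8) : M8) fun x hx => by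
    rw [← Units.val_mul, hcomm x hx, Units.val_mul]
  rcases hR.scalar_pm ((Cfsg.spGL 4 F).mul_mem hg (hR.le y.2)) hc with h1 | h1
  · rw [eq_inv_of_mul_eq_one_left h1]; exact R.inv_mem y.2
  · rw [eq_mul_inv_of_mul_eq h1]; exact R.mul_mem hR.neg (R.inv_mem y.2)

/-! ## Pairs of transvections -/

/-- `trans` in `R`. -/
theorem exists_pair {a b : GL8} (ha : a ∈ R) (hb : b ∈ R) (haa : a * a = -1) (hbb : b * b = -1) :
    ∃ n : GL8, n ∈ Cfsg.spGL 4 F ∧ (n : M8) = (2 : F)⁻¹ • ((1 + (a : M8)) * (1 + (b : M8))) ∧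
      ∀ x ∈ R, ∃ y, (y = x ∧ x * b = b * x ∨ y = b * x ∧ x * b = -(b * x)) ∧
        (n * x * n⁻¹ = y ∧ y * a = a * y ∨ n * x * n⁻¹ = a * y ∧ y * a = -(a * y)) := by
  have h2 := hR.two
  have hA : ∀ {a : GL8}, a * a = -1 → (1 + (a : M8)) * (1 - (a : M8)) = (2 : F) • 1 ∧
      (1 - (a : M8)) * (1 + (a : M8)) = (2 : F) • 1 := fun {a} haa => by
    have e : (a : M8) * a = -1 := by rw [← Units.val_mul, haa, Units.val_neg, Units.val_one]
    constructor <;> · simp only [mul_add, add_mul, mul_sub, sub_mul, one_mul, mul_one, e]; rw [two_smul]; abel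
  obtain ⟨a1, a2⟩ := hA haa
  obtain ⟨b1, b2⟩ := hA hbb
  let n : GL8 := ⟨(2 : F)⁻¹ • ((1 + (a : M8)) * (1 + (b : M8))),
    (2 : F)⁻¹ • ((1 - (b : M8)) * (1 - (a : M8))), by
      rw [Matrix.smul_mul, Matrix.mul_smul, mul_assoc, ← mul_assoc (1 + (b : M8)), b1, Matrix.smul_mul,
        one_mul, Matrix.mul_smul, a1, smul_smul, smul_smul, smul_smul]
      rw [show (2 : F)⁻¹ * (2 : F)⁻¹ * 2 * 2 = 1 by field_simp, one_smul], by
      rw [Matrix.smul_mul, Matrix.mul_smul, mul_assoc, ← mul_assoc (1 - (a : M8)), a2, Matrix.smul_mul,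
        one_mul, Matrix.mul_smul, b2, smul_smul, smul_smul, smul_smul]
      rw [show (2 : F)⁻¹ * (2 : F)⁻¹ * 2 * 2 = 1 by field_simp, one_smul]⟩
  have hconj : ∀ {a x : GL8}, a * a = -1 →
      (x * a = a * x → (1 + (a : M8)) * (x : M8) * (1 - (a : M8)) = (2 : F) • (x : M8)) ∧
      (x * a = -(a * x) → (1 + (a : M8)) * (x : M8) * (1 - (a : M8)) = (2 : F) • ((a * x : GL8) : M8)) := by
    intro a x haa
    have e : (a : M8) * a = -1 := by rw [← Units.val_mul, haa, Units.val_neg, Units.val_one]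
    refine ⟨fun h => ?_, fun h => ?_⟩
    · have h' : (x : M8) * a = a * x := by rw [← Units.val_mul, h, Units.val_mul]
      calc (1 + (a : M8)) * (x : M8) * (1 - (a : M8))
          = (x : M8) + a * x - x * a - a * (x * a) := by noncomm_ring
        _ = _ := by rw [h', ← mul_assoc, e, two_smul]; noncomm_ring
    · have h' : (x : M8) * a = -(a * x) := by rw [← Units.val_mul, h, Units.val_neg, Units.val_mul]
      calc (1 + (a : M8)) * (x : M8) * (1 - (a : M8))
          = (x : M8) + a * x - x * a - a * (x * a) := by noncomm_ring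
        _ = _ := by rw [h', mul_neg, ← mul_assoc, e, Units.val_mul, two_smul]; noncomm_ring
  refine ⟨n, ?_, rfl, fun x hx => ?_⟩
  · rw [Transvect.mem_spGL_iff]
    intro u w
    have hf := Transvect.sympForm_isSymplectic (F := F) 4
    have hstep : ∀ {a : GL8}, a ∈ R → a * a = -1 → ∀ u w, Cfsg.sympForm 4 F ((1 + (a : M8)) *ᵥ u)
        ((1 + (a : M8)) *ᵥ w) = 2 * Cfsg.sympForm 4 F u w := by
      intro a ha haa u w
      have hi : ∀ p q, Cfsg.sympForm 4 F ((a : M8) *ᵥ p) ((a : M8) *ᵥ q) = Cfsg.sympForm 4 F p q := fun p q => by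
        have := Transvect.mem_spGL_iff.1 (hR.le ha) p q
        rwa [Transvect.app_apply, Transvect.app_apply] at this
      have haau : ∀ p, (a : M8) *ᵥ ((a : M8) *ᵥ p) = (-1 : F) • p := fun p => by
        rw [Matrix.mulVec_mulVec, ← Units.val_mul, haa, Units.val_neg, Units.val_one, Matrix.neg_mulVec,
          Matrix.one_mulVec, neg_one_smul]
      have hcross : Cfsg.sympForm 4 F u ((a : M8) *ᵥ w) + Cfsg.sympForm 4 F ((a : M8) *ᵥ u) w = 0 := by
        rw [← hi u ((a : M8) *ᵥ w), haau, hf.bilinear.smul_right]; ring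
      simp only [Matrix.add_mulVec, Matrix.one_mulVec, hf.bilinear.add_left, hf.bilinear.add_right, hi]
      linear_combination hcross
    rw [Transvect.app_apply, Transvect.app_apply]
    show Cfsg.sympForm 4 F (((2 : F)⁻¹ • ((1 + (a : M8)) * (1 + (b : M8)))) *ᵥ u)
      (((2 : F)⁻¹ • ((1 + (a : M8)) * (1 + (b : M8)))) *ᵥ w) = _
    rw [Matrix.smul_mulVec, Matrix.smul_mulVec, hf.bilinear.smul_left, hf.bilinear.smul_right,
      ← Matrix.mulVec_mulVec, ← Matrix.mulVec_mulVec, hstep ha haa, hstep hb hbb]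
    field_simp
  · obtain ⟨y, hy, hy'⟩ : ∃ y, (y = x ∧ x * b = b * x ∨ y = b * x ∧ x * b = -(b * x)) ∧
        (1 + (b : M8)) * (x : M8) * (1 - (b : M8)) = (2 : F) • (y : M8) := by
      rcases hR.comm x hx b hb with h | h
      · exact ⟨x, Or.inl ⟨rfl, h⟩, (hconj hbb).1 h⟩
      · exact ⟨b * x, Or.inr ⟨rfl, h⟩, (hconj hbb).2 h⟩
    refine ⟨y, hy, ?_⟩
    have hyR : y ∈ R := by
      rcases hy with ⟨e, -⟩ | ⟨e, -⟩ <;> rw [e]
      exacts [hx, R.mul_mem hb hx]
    have hn : ((n * x * n⁻¹ : GL8) : M8) = (2 : F)⁻¹ • ((1 + (a : M8)) * (y : M8) * (1 - (a : M8))) := by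
      rw [Units.val_mul, Units.val_mul]
      show ((2 : F)⁻¹ • ((1 + (a : M8)) * (1 + (b : M8)))) * (x : M8) *
        ((2 : F)⁻¹ • ((1 - (b : M8)) * (1 - (a : M8)))) = _
      rw [Matrix.smul_mul, Matrix.smul_mul, Matrix.mul_smul, smul_smul]
      calc _ = ((2 : F)⁻¹ * (2 : F)⁻¹) • ((1 + (a : M8)) * ((1 + (b : M8)) * (x : M8) * (1 - (b : M8))) *
            (1 - (a : M8))) := by congr 1; noncomm_ring
        _ = _ := by
          rw [hy', Matrix.mul_smul, Matrix.smul_mul, smul_smul]; congr 1; field_simp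
    rcases hR.comm y hyR a ha with h | h
    · refine Or.inl ⟨ext_val ?_, h⟩
      rw [hn, (hconj haa).1 h, smul_smul, inv_mul_cancel₀ h2, one_smul]
    · refine Or.inr ⟨ext_val ?_, h⟩
      rw [hn, (hconj haa).2 h, smul_smul, inv_mul_cancel₀ h2, one_smul]

end Minus8

end Cfsg.Agent.C6Minus
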