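import Cfsg.Agent.Lib.C6Minus.Centraliser
/-!
# The centraliser of a noncentral involution normalises `R`

* `Over.centraliser_normalises`
-/

set_option autoImplicit false
set_option linter.unusedSectionVars false

namespace Cfsg.Agent.C6Minus

open Module Matrix Equiv

variable {F : Type*} [Field F]

local notation "GL8" => GL (Fin 4 ⊕ Fin 4) F
local notation "GL4" => GL (Fin 2 ⊕ Fin 2) F
local notation "M8" => Matrix (Fin 4 ⊕ Fin 4) (Fin 4 ⊕ Fin 4) F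
local notation "M4" => Matrix (Fin 2 ⊕ Fin 2) (Fin 2 ⊕ Fin 2) F

namespace Frame

variable {R : Subgroup (GL (Fin 4 ⊕ Fin 4) F)} {r : GL (Fin 4 ⊕ Fin 4) F} (φ : Frame R r)
variable (hR : Minus8 R) (hr : r ∈ R)
include hR hr

/-- The kernel of the action on the five classes. -/
theorem mem_of_ind_one (W : Five φ.diag) {n : GL4}
    (hn : n ∈ Cfsg.Geo.subgroupNormalizer φ.diag ⊓ Cfsg.spGL 2 F) (h : W.Ind n 1) : n ∈ φ.diag := by
  let S : Subgroup GL4 :=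
    { carrier := {a | n * a * n⁻¹ = a ∨ n * a * n⁻¹ = -a}
      one_mem' := Or.inl (by simp)
      mul_mem' := by
        intro a b ha hb
        have e : n * (a * b) * n⁻¹ = (n * a * n⁻¹) * (n * b * n⁻¹) := by group
        show _ ∨ _
        rw [e]
        rcases ha with ha | ha <;> rcases hb with hb | hb <;> rw [ha, hb] <;> simp
      inv_mem' := by
        intro a ha
        have e : n * a⁻¹ * n⁻¹ = (n * a * n⁻¹)⁻¹ := by group
        show _ ∨ _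
        rw [e]
        rcases ha with ha | ha <;> rw [ha]
        · exact Or.inl rfl
        · exact Or.inr (by simp [inv_neg]) }
  have hS : φ.diag ≤ S := W.gen.trans ((Subgroup.closure_le _).2 (by
    rintro _ ⟨k, rfl⟩; exact h k))
  refine hR.mem_of_signs (φ.j_mem hn.2 hn.2) fun x hx => ?_
  rw [dbl_apply]
  have hj : ∀ p q, φ.j (n, n) * φ.j (p, q) * (φ.j (n, n))⁻¹ = φ.j (n * p * n⁻¹, n * q * n⁻¹) :=
    fun p q => by rw [φ.j_inv, φ.j_mul, φ.j_mul]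
  have hjv : ∀ p q, φ.j (n, n) * (φ.j (p, q) * φ.v) * (φ.j (n, n))⁻¹ =
      φ.j (n * p * n⁻¹, n * q * n⁻¹) * φ.v := fun p q => by
    rw [← hj, φ.j_inv, ← mul_assoc, mul_assoc _ φ.v, φ.v_dbl, ← mul_assoc]
  obtain ⟨a, ha, rfl | rfl | rfl | rfl⟩ := φ.exists_form hR hr hx
  all_goals rcases hS ha with e | e
  all_goals simp only [hj, hjv, mul_neg, neg_mul, e]
  all_goals simp only [← φ.j_neg, ← neg_mul, neg_neg, true_or, or_true]

theorem half_normal_iff {c : GL4} (hc : c ∈ φ.diag) : φ.j (1, c) ∈ Cfsg.Geo.subgroupNormalizer R :=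
  (φ.half_normal' hR hr hc).1

/-- The pair of transvections of `w i * w l` and `w p * w q`. -/
theorem exists_ind_swaps (W : Five φ.diag) {i l p q : Fin 5} (h : i ≠ l) (h' : p ≠ q) :
    ∃ n ∈ Cfsg.Geo.subgroupNormalizer φ.diag ⊓ Cfsg.spGL 2 F, W.Ind n (swap i l * swap p q) := by
  have hsq : ∀ {i l : Fin 5}, i ≠ l → W.w i * W.w l * (W.w i * W.w l) = -1 := fun {i l} h => by
    calc W.w i * W.w l * (W.w i * W.w l) = W.w i * (W.w l * W.w i) * W.w l := by simp only [mul_assoc]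
      _ = -(W.w i * W.w i * (W.w l * W.w l)) := by
        rw [W.anti l i h.symm]; simp only [mul_neg, neg_mul, mul_assoc]
      _ = -1 := by rw [W.sq, W.sq, mul_one]
  have hA : φ.j (W.w i * W.w l, W.w i * W.w l) ∈ R := φ.diag.mul_mem (W.mem i) (W.mem l)
  have hB : φ.j (W.w p * W.w q, W.w p * W.w q) ∈ R := φ.diag.mul_mem (W.mem p) (W.mem q)
  obtain ⟨n, hn, hconj⟩ := hR.exists_pair_normal hA hB
    (by rw [φ.j_mul, hsq h, φ.j_neg, φ.j_one]) (by rw [φ.j_mul, hsq h', φ.j_neg, φ.j_one])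
  -- it fixes `r` and `v`
  have hfix : ∀ x ∈ R, x * φ.j (W.w p * W.w q, W.w p * W.w q) = φ.j (W.w p * W.w q, W.w p * W.w q) * x →
      x * φ.j (W.w i * W.w l, W.w i * W.w l) = φ.j (W.w i * W.w l, W.w i * W.w l) * x → n * x = x * n := by
    intro x hx h1 h2
    obtain ⟨y, hy, hy'⟩ := hconj x hx
    have hyx : y = x := by
      rcases hy with ⟨e, -⟩ | ⟨-, e⟩
      · exact e
      · rw [h1] at e; exact absurd e (hR.ne_neg _)
    rw [hyx] at hy'
    rcases hy' with ⟨e, -⟩ | ⟨-, e⟩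
    · exact mul_inv_eq_iff_eq_mul.1 e
    · rw [h2] at e; exact absurd e (hR.ne_neg _)
  obtain ⟨n1, n2, rfl⟩ := φ.exists_j hR.two (hfix r hr (φ.r_comm _ _).symm (φ.r_comm _ _).symm)
  have hv := hfix φ.v φ.v_mem (φ.v_dbl _) (φ.v_dbl _)
  rw [φ.v_swap] at hv
  obtain ⟨hn12, -⟩ := φ.j_inj (mul_right_cancel hv)
  subst hn12
  have hns := (φ.sp_of_j hn.2).1
  have hfin : Finite φ.diag := Nat.finite_of_card_ne_zero (by rw [φ.card_diag hR hr]; norm_num)
  refine ⟨n1, ⟨mem_normalizer_of fun a ha => ?_, hns⟩, fun m => ?_⟩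
  · have h1 := (Subgroup.mem_normalizer_iff.mp hn.1 _).mp ha
    rw [dbl_apply, φ.j_inv, φ.j_mul, φ.j_mul] at h1
    exact h1
  obtain ⟨y, hy, hy'⟩ := hconj (φ.j (W.w m, W.w m)) (W.mem m)
  obtain ⟨s1, s1'⟩ := W.step h' m
  have hy1 : ∃ z, y = φ.j (z, z) ∧ (z = W.w (swap p q m) ∨ z = -W.w (swap p q m)) := by
    rcases hy with ⟨rfl, e⟩ | ⟨rfl, e⟩
    · rw [φ.j_mul, φ.j_mul] at e
      exact ⟨_, rfl, Or.inl (by rw [s1 (φ.j_inj e).1])⟩
    · rw [φ.j_mul, φ.j_mul, ← φ.j_neg] at e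
      exact ⟨_, φ.j_mul _ _ _ _, s1' (φ.j_inj e).1⟩
  obtain ⟨z, rfl, hz⟩ := hy1
  obtain ⟨s2, s2'⟩ := W.step h (swap p q m)
  rw [Perm.mul_apply]
  rw [φ.j_inv, φ.j_mul, φ.j_mul] at hy'
  rcases hy' with ⟨e, e'⟩ | ⟨e, e'⟩
  · rw [φ.j_mul, φ.j_mul] at e'
    rw [(φ.j_inj e).1]
    have hc := (φ.j_inj e').1
    rw [s2 (by rcases hz with rfl | rfl; · exact hc
               simp only [neg_mul, mul_neg, neg_inj] at hc; exact hc)]
    exact hz
  · rw [φ.j_mul, φ.j_mul, ← φ.j_neg] at e'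
    rw [φ.j_mul] at e
    rw [(φ.j_inj e).1]
    have hc := (φ.j_inj e').1
    rcases hz with rfl | rfl
    · exact s2' hc
    · simp only [neg_mul, mul_neg, neg_inj] at hc
      rw [mul_neg]
      rcases s2' hc with e2 | e2 <;> rw [e2]
      · exact Or.inr rfl
      · exact Or.inl (neg_neg _)

end Frame

namespace Over

variable [Fintype F] {R G : Subgroup (GL (Fin 4 ⊕ Fin 4) F)} (O : Over R G)
variable (hprime : (Fintype.card F).Prime)
include O hprime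

theorem centraliser_normalises {r : GL8} (hr : r ∈ R) (hrr : r * r = 1) (h1 : r ≠ 1) (h2 : r ≠ -1)
    {g : GL8} (hg : g ∈ G) (hgr : g * r = r * g) : g ∈ Cfsg.Geo.subgroupNormalizer R := by
  classical
  have hR := O.minus
  obtain ⟨φ⟩ := exists_frame hR hr hrr h1 h2
  obtain ⟨W⟩ := exists_five (φ.diag_minus hR hr)
  obtain ⟨g1, g2, rfl⟩ := φ.exists_j hR.two hgr
  have hg1 := O.fst_mem φ hr hprime hg
  have hg11 := φ.dbl_normal hR hr hg1.1 hg1.2
  have hhG : φ.j (1, g1⁻¹ * g2) ∈ G := by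
    have h := G.mul_mem (G.inv_mem (O.normal_le hg11)) hg
    rw [φ.j_inv, φ.j_mul, inv_mul_cancel] at h
    exact h
  suffices hh : g1⁻¹ * g2 ∈ φ.diag by
    have h := mul_mem hg11 (φ.half_normal' hR hr hh)
    rw [φ.j_mul, mul_one, mul_inv_cancel_left] at h
    exact h.1
  by_contra hout
  obtain ⟨N4, hN4⟩ : ∃ N4, N4 = Cfsg.Geo.subgroupNormalizer φ.diag ⊓ Cfsg.spGL 2 F := ⟨_, rfl⟩
  obtain ⟨K, hK⟩ : ∃ K : Subgroup GL4,
      K = G.comap (φ.j.comp (MonoidHom.prod 1 (MonoidHom.id GL4))) := ⟨_, rfl⟩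
  have hKmem : ∀ k, k ∈ K ↔ φ.j (1, k) ∈ G := fun k => by rw [hK]; rfl
  have hKN : ∀ k ∈ K, k ∈ N4 := fun k hk => hN4 ▸ O.snd_mem φ hr hprime ((hKmem k).1 hk)
  have hPK : ∀ c ∈ φ.diag, c ∈ K := fun c hc => (hKmem c).2 (O.normal_le (φ.half_normal' hR hr hc))
  let I : Subgroup (Perm (Fin 5)) :=
    { carrier := {π | ∃ k ∈ K, W.Ind k π}
      one_mem' := ⟨1, K.one_mem, W.ind_one⟩
      mul_mem' := fun {π τ} ⟨k, hk, hi⟩ ⟨k', hk', hi'⟩ => ⟨k * k', K.mul_mem hk hk', W.ind_mul hi hi'⟩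
      inv_mem' := fun {π} ⟨k, hk, hi⟩ => ⟨k⁻¹, K.inv_mem hk, W.ind_inv hi⟩ }
  let M : Subgroup (Perm (Fin 5)) :=
    { carrier := {π | ∃ n ∈ N4, W.Ind n π}
      one_mem' := ⟨1, N4.one_mem, W.ind_one⟩
      mul_mem' := fun {π τ} ⟨k, hk, hi⟩ ⟨k', hk', hi'⟩ => ⟨k * k', N4.mul_mem hk hk', W.ind_mul hi hi'⟩
      inv_mem' := fun {π} ⟨k, hk, hi⟩ => ⟨k⁻¹, N4.inv_mem hk, W.ind_inv hi⟩ }
  have hM : alternatingGroup (Fin 5) ≤ M := alternating_le_of_swap_mul_swap M fun a b c d hab hcd => by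
    obtain ⟨n, hn, hi⟩ := φ.exists_ind_swaps hR hr W hab hcd
    exact ⟨n, hN4 ▸ hn, hi⟩
  obtain ⟨π, hπ⟩ := W.exists_ind (n := g1⁻¹ * g2) (hN4 ▸ hKN _ ((hKmem _).2 hhG)).1
  have hπ1 : π ≠ 1 := by
    rintro rfl
    exact hout (φ.mem_of_ind_one hR hr W (hN4 ▸ hKN _ ((hKmem _).2 hhG)) hπ)
  have hI : alternatingGroup (Fin 5) ≤ I := by
    refine alternating_five_le I (fun σ hσ τ hτ => ?_) ⟨_, (hKmem _).2 hhG, hπ⟩ hπ1
    obtain ⟨n, hn, hi⟩ := hM hσ
    obtain ⟨k, hk, hi'⟩ := hτ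
    refine ⟨n * k * n⁻¹, (hKmem _).2 ?_, W.ind_mul (W.ind_mul hi hi') (W.ind_inv hi)⟩
    have hn' := O.normal_le (φ.dbl_normal hR hr (hN4 ▸ hn).1 (hN4 ▸ hn).2)
    have h := G.mul_mem (G.mul_mem hn' ((hKmem k).1 hk)) (G.inv_mem hn')
    rw [φ.j_inv, φ.j_mul, φ.j_mul, mul_one, mul_inv_cancel] at h
    exact h
  obtain ⟨k, hk, hki⟩ := hI (show (swap (0 : Fin 5) 1 * swap 1 2 : Perm (Fin 5)) ∈ alternatingGroup (Fin 5) by
    rw [Perm.mem_alternatingGroup, map_mul, Perm.sign_swap (by decide), Perm.sign_swap (by decide)]; rfl)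
  have ev : ∀ {m m' : Fin 5}, (swap (0 : Fin 5) 1 * swap 1 2 : Perm (Fin 5)) m = m' →
      k * W.w m * k⁻¹ = W.w m' ∨ k * W.w m * k⁻¹ = -W.w m' := fun {m m'} h => h ▸ hki m
  -- adjust the sign on `w 3`
  obtain ⟨k', hk', hk3, hk0⟩ : ∃ k' ∈ K, k' * W.w 3 = W.w 3 * k' ∧
      (k' * (W.w 0 * W.w 1) * k'⁻¹ = W.w 1 * W.w 2 ∨ k' * (W.w 0 * W.w 1) * k'⁻¹ = -(W.w 1 * W.w 2)) := by
    have h01 : k * (W.w 0 * W.w 1) * k⁻¹ = W.w 1 * W.w 2 ∨ k * (W.w 0 * W.w 1) * k⁻¹ = -(W.w 1 * W.w 2) := by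
      rw [show k * (W.w 0 * W.w 1) * k⁻¹ = (k * W.w 0 * k⁻¹) * (k * W.w 1 * k⁻¹) by group]
      rcases ev (show (swap (0 : Fin 5) 1 * swap 1 2 : Perm (Fin 5)) 0 = 1 by decide) with e | e <;>
        rcases ev (show (swap (0 : Fin 5) 1 * swap 1 2 : Perm (Fin 5)) 1 = 2 by decide) with e' | e' <;>
        rw [e, e'] <;> simp
    rcases ev (show (swap (0 : Fin 5) 1 * swap 1 2 : Perm (Fin 5)) 3 = 3 by decide) with e | e
    · exact ⟨k, hk, mul_inv_eq_iff_eq_mul.1 e, h01⟩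
    · have hp : W.w 4 * W.w 3 * (W.w 4)⁻¹ = -W.w 3 := by
        rw [W.anti 4 3 (by decide), neg_mul, mul_inv_cancel_right]
      refine ⟨W.w 4 * k, K.mul_mem (hPK _ (W.mem 4)) hk, ?_, ?_⟩
      · refine mul_inv_eq_iff_eq_mul.1 ?_
        rw [show W.w 4 * k * W.w 3 * (W.w 4 * k)⁻¹ = W.w 4 * (k * W.w 3 * k⁻¹) * (W.w 4)⁻¹ by group, e,
          mul_neg, neg_mul, hp, neg_neg]
      · have h12 : W.w 4 * (W.w 1 * W.w 2) * (W.w 4)⁻¹ = W.w 1 * W.w 2 := by
          rw [← mul_assoc (W.w 4), W.anti 4 1 (by decide), neg_mul (W.w 1 * W.w 4),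
            mul_assoc (W.w 1) (W.w 4), W.anti 4 2 (by decide), mul_neg, neg_neg, ← mul_assoc,
            mul_inv_cancel_right]
        rw [show W.w 4 * k * (W.w 0 * W.w 1) * (W.w 4 * k)⁻¹ =
          W.w 4 * (k * (W.w 0 * W.w 1) * k⁻¹) * (W.w 4)⁻¹ by group]
        rcases h01 with e' | e' <;> rw [e']
        · exact Or.inl h12
        · exact Or.inr (by rw [mul_neg, neg_mul, h12])
  obtain ⟨c, hc⟩ : ∃ c, c = W.w 3 := ⟨_, rfl⟩
  obtain ⟨a, ha⟩ : ∃ a, a = W.w 0 * W.w 1 := ⟨_, rfl⟩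
  obtain ⟨a', ha'⟩ : ∃ a', a' = k' * a * k'⁻¹ := ⟨_, rfl⟩
  rw [← hc] at hk3
  rw [← ha, ← ha'] at hk0
  have hcP : c ∈ φ.diag := hc ▸ W.mem 3
  have haP : a ∈ φ.diag := ha ▸ φ.diag.mul_mem (W.mem 0) (W.mem 1)
  have hcc : c * c = 1 := hc ▸ W.sq 3
  have hac : a * c = c * a := by
    rw [ha, hc, mul_assoc, W.anti 1 3 (by decide), mul_neg, ← mul_assoc, W.anti 0 3 (by decide),
      neg_mul, neg_neg, mul_assoc]
  have haa : a * a = -1 := by
    calc a * a = W.w 0 * (W.w 1 * W.w 0) * W.w 1 := by rw [ha]; simp only [mul_assoc]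
      _ = -(W.w 0 * W.w 0 * (W.w 1 * W.w 1)) := by
        rw [W.anti 1 0 (by decide)]; simp only [mul_neg, neg_mul, mul_assoc]
      _ = -1 := by rw [W.sq, W.sq, mul_one]
  have haa' : a * a' = -(a' * a) := by
    have e : W.w 0 * W.w 1 * (W.w 1 * W.w 2) = -(W.w 1 * W.w 2 * (W.w 0 * W.w 1)) := by
      calc W.w 0 * W.w 1 * (W.w 1 * W.w 2) = W.w 0 * (W.w 1 * W.w 1) * W.w 2 := by simp only [mul_assoc]
        _ = -(W.w 2 * W.w 0) := by rw [W.sq, mul_one, W.anti 0 2 (by decide)]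
        _ = _ := by
          congr 1
          rw [← mul_assoc, mul_assoc (W.w 1), W.anti 2 0 (by decide), mul_neg, neg_mul, ← mul_assoc,
            W.anti 1 0 (by decide), neg_mul, neg_mul, neg_neg, mul_assoc (W.w 0), W.anti 1 2 (by decide),
            mul_neg, neg_mul, mul_assoc (W.w 0), mul_assoc (W.w 2), W.sq, mul_one,
            W.anti 0 2 (by decide), neg_neg]
    rcases hk0 with h | h <;> rw [h, ha]
    · exact e
    · rw [mul_neg, neg_mul, e, neg_neg]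
  have hc1 : c ≠ -1 := by
    intro e
    have := W.anti 3 4 (by decide)
    rw [← hc, e, neg_one_mul, mul_neg, mul_one, neg_neg] at this
    exact W.ne_neg _ this.symm
  have hc2 : c ≠ 1 := by
    intro e
    have := W.anti 3 4 (by decide)
    rw [← hc, e, one_mul, mul_one] at this
    exact W.ne_neg _ this
  -- the projection at `(c, c)`
  obtain ⟨ψ⟩ := exists_frame hR (r := φ.j (c, c)) hcP (by rw [φ.j_mul, hcc, φ.j_one])
    (fun e => hc2 (φ.j_inj (e.trans φ.j_one.symm)).1)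
    (fun e => hc1 (φ.j_inj (e.trans (by rw [φ.j_neg, φ.j_one]))).1)
  obtain ⟨x', hx'R, -, hx'⟩ := O.proj ψ hcP hprime (g := φ.j (1, k')) (x := φ.j (a, a))
    ((hKmem k').1 hk') (by rw [φ.j_mul, φ.j_mul, one_mul, mul_one, hk3]) haP
    (by rw [φ.j_mul, φ.j_mul, hac])
  rw [φ.j_inv, φ.j_mul, φ.j_mul, inv_one, mul_one, one_mul, ← ha'] at hx'
  have hcol : ((1 : M8) + ((φ.j (c, c) : GL8) : M8)) * (φ.P : M8) =
      (φ.P : M8) * blocks (1 + (c : M4)) 0 0 (1 + (c : M4)) := by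
    rw [add_mul, one_mul, φ.j_val]
    nth_rewrite 1 [← mul_one (φ.P : M8)]
    rw [← mul_add, ← blocks_one, blocks, blocks, ← map_add, Matrix.fromBlocks_add]
    simp [blocks]
  have keyd : ∀ q q' : GL4, ((φ.j (q, q') : GL8) : M8) * (1 + ((φ.j (c, c) : GL8) : M8)) * (φ.P : M8) =
      (φ.P : M8) * blocks ((q : M4) * (1 + (c : M4))) 0 0 ((q' : M4) * (1 + (c : M4))) := fun q q' => by
    rw [mul_assoc, hcol, ← mul_assoc, φ.j_val, mul_assoc, blocks_mul]; simp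
  have keyv : ∀ q q' : GL4, ((φ.j (q, q') * φ.v : GL8) : M8) * (1 + ((φ.j (c, c) : GL8) : M8)) *
      (φ.P : M8) = (φ.P : M8) * blocks 0 ((q : M4) * (1 + (c : M4))) ((q' : M4) * (1 + (c : M4))) 0 :=
    fun q q' => by
    rw [mul_assoc, hcol, Units.val_mul, mul_assoc, ← mul_assoc (φ.v : M8), φ.v_eq, mul_assoc, blocks_mul,
      ← mul_assoc, φ.j_val, mul_assoc, blocks_mul]
    simp
  have hc0 : (1 : M4) + (c : M4) ≠ 0 := fun e => hc1 (Units.ext (by
    rw [Units.val_neg, Units.val_one]; exact eq_neg_of_add_eq_zero_right e))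
  have hoff : ∀ {B C D : M4}, blocks ((a : M4) * (1 + (c : M4))) 0 0 D = blocks 0 B C 0 → False := by
    intro B C D e
    refine hc0 (a.isUnit.mul_left_cancel ?_)
    rw [mul_zero]; exact (blocks_inj e).1
  have hfin : (a' : M4) * (1 + (c : M4)) = (a : M4) * (1 + (c : M4)) ∨
      (a' : M4) * (1 + (c : M4)) = -((a : M4) * (1 + (c : M4))) := by
    have hx'' := congrArg (· * (φ.P : M8)) hx'
    obtain ⟨y, -, rfl | rfl | rfl | rfl⟩ := φ.exists_form hR hr hx'R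
    · simp only [keyd] at hx''
      obtain ⟨e1, -, -, e2⟩ := blocks_inj (φ.P.isUnit.mul_left_cancel hx'')
      exact Or.inl (e2.trans e1.symm)
    · simp only [keyd] at hx''
      obtain ⟨e1, -, -, e2⟩ := blocks_inj (φ.P.isUnit.mul_left_cancel hx'')
      exact Or.inr (by rw [e2, Units.val_neg, neg_mul, e1])
    · simp only [keyd, keyv] at hx''
      exact absurd (φ.P.isUnit.mul_left_cancel hx'') fun e => hoff e
    · simp only [keyd, keyv] at hx''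
      exact absurd (φ.P.isUnit.mul_left_cancel hx'') fun e => hoff e
  have hm : ∀ {p q : GL4}, p * q = q * p → (p : M4) * (q : M4) = (q : M4) * (p : M4) := fun {p q} h => by
    rw [← Units.val_mul, h, Units.val_mul]
  have hcom : ((1 : M4) + (c : M4)) * (a : M4) = (a : M4) * (1 + (c : M4)) := by
    rw [add_mul, mul_add, one_mul, mul_one, hm hac]
  have e1 : (a : M4) * (a' : M4) * (1 + (c : M4)) = (a' : M4) * (a : M4) * (1 + (c : M4)) := by
    rw [mul_assoc, mul_assoc]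
    conv_rhs => rw [← hcom, ← mul_assoc]
    rcases hfin with e | e <;> rw [e]
    · rw [mul_assoc, hcom, ← mul_assoc]
    · rw [neg_mul, mul_neg, mul_assoc, hcom, ← mul_assoc]
  have e2 : (a : M4) * (a' : M4) = -((a' : M4) * (a : M4)) := by
    rw [← Units.val_mul, haa', Units.val_neg, Units.val_mul]
  rw [e2, neg_mul] at e1
  have hdouble : (2 : F) • ((a' : M4) * (a : M4) * (1 + (c : M4))) = 0 := by
    rw [two_smul]; nth_rewrite 1 [← e1]; exact neg_add_cancel _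
  refine hc0 ((a' * a).isUnit.mul_left_cancel ?_)
  rw [Units.val_mul, mul_zero]
  exact (smul_eq_zero.1 hdouble).resolve_left hR.two

end Over

end Cfsg.Agent.C6Minus
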