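import Cfsg.Agent.Lib.C6Minus.Five
import Cfsg.Agent.S5647
/-!
# Centralisers of noncentral involutions of `R` in an overgroup

* `Over`                     : an overgroup of the normaliser other than `Sp₈`
* `Over.fst_mem`, `Over.proj`  : the projections of the centraliser of `r` normalise the `2^{1+4}`
-/

set_option autoImplicit false
set_option linter.unusedSectionVars false

namespace Cfsg.Agent.C6Minus

open Module Matrix Equiv

variable {F : Type*} [Field F]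

local notation "GL8" => GL (Fin 4 ⊕ Fin 4) F
local notation "GL4" => GL (Fin 2 ⊕ Fin 2) F
local notation "M8" => Matrix (Fin 4 ⊕ Fin 4) (Fin 4 ⊕ Fin 4) F
local notation "M4" => Matrix (Fin 2 ⊕ Fin 2) (Fin 2 ⊕ Fin 2) F
local notation "V4" => Fin 2 ⊕ Fin 2 → F
local notation "V8" => Fin 4 ⊕ Fin 4 → F

namespace Frame

variable {R : Subgroup (GL (Fin 4 ⊕ Fin 4) F)} {r : GL (Fin 4 ⊕ Fin 4) F} (φ : Frame R r)
variable (hR : Minus8 R) (hr : r ∈ R)
include hR hr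

theorem mem_pair {a : GL4} (ha : a ∈ φ.diag) : φ.j (a, -a) ∈ R := by
  have := R.mul_mem ha hr
  rwa [dbl_apply, j_mul_r] at this

theorem mem_pair' {a : GL4} (ha : a ∈ φ.diag) : φ.j (-a, a) ∈ R := by
  have := hR.neg_mem (φ.mem_pair hR hr ha)
  rwa [← j_neg, neg_neg] at this

theorem dbl_normal {n : GL4} (hn : n ∈ Cfsg.Geo.subgroupNormalizer φ.diag)
    (hs : n ∈ Cfsg.spGL 2 F) :
    φ.j (n, n) ∈ Cfsg.Geo.subgroupNormalizer R ⊓ Cfsg.spGL 4 F := by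
  have := hR.finiteR
  refine ⟨mem_normalizer_of fun x hx => ?_, φ.j_mem hs hs⟩
  obtain ⟨a, ha, rfl | rfl | rfl | rfl⟩ := φ.exists_form hR hr hx
  all_goals have hc : n * a * n⁻¹ ∈ φ.diag := (Subgroup.mem_normalizer_iff.mp hn a).mp ha
  · rw [φ.j_inv, j_mul, j_mul]; exact hc
  · rw [φ.j_inv, j_mul, j_mul, mul_neg, neg_mul]; exact φ.mem_pair hR hr hc
  · rw [φ.j_inv, ← mul_assoc, j_mul, mul_assoc, φ.v_swap, ← mul_assoc, j_mul]
    exact R.mul_mem hc φ.v_mem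
  · rw [φ.j_inv, ← mul_assoc, j_mul, mul_assoc, φ.v_swap, ← mul_assoc, j_mul, mul_neg, neg_mul]
    exact R.mul_mem (φ.mem_pair hR hr hc) φ.v_mem

theorem sign_conj {c a : GL4} (hc : c ∈ φ.diag) (ha : a ∈ φ.diag) :
    c * a * c⁻¹ = a ∨ c * a * c⁻¹ = -a :=
  (φ.diag_comm hR hr hc ha).imp (fun h => by rw [h, mul_inv_cancel_right])
    fun h => by rw [h, neg_mul, mul_inv_cancel_right]

theorem half_normal {c : GL4} (hc : c ∈ φ.diag) :
    φ.j (c, 1) ∈ Cfsg.Geo.subgroupNormalizer R ⊓ Cfsg.spGL 4 F := by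
  have := hR.finiteR
  refine ⟨mem_normalizer_of fun x hx => ?_, φ.j_mem (φ.diag_le hR hr hc) (one_mem _)⟩
  have hfix : ∀ a ∈ φ.diag, φ.j (c, 1) * φ.j (a, a) * (φ.j (c, 1))⁻¹ ∈ R ∧
      φ.j (c, 1) * φ.j (a, -a) * (φ.j (c, 1))⁻¹ ∈ R := fun a ha => by
    rw [φ.j_inv, j_mul, j_mul, j_mul, j_mul]
    simp only [one_mul, inv_one, mul_one]
    rcases φ.sign_conj hR hr hc ha with h | h <;> rw [h]
    · exact ⟨ha, φ.mem_pair hR hr ha⟩
    · exact ⟨φ.mem_pair' hR hr ha, by rw [φ.j_neg]; exact hR.neg_mem ha⟩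
  have hvconj : φ.j (c, 1) * φ.v * (φ.j (c, 1))⁻¹ ∈ R := by
    rw [φ.j_inv, mul_assoc, φ.v_swap, ← mul_assoc, j_mul]
    refine R.mul_mem ?_ φ.v_mem
    rw [inv_one, mul_one, one_mul]
    rcases φ.diag_sq hR hr hc with h | h
    · rw [inv_eq_of_mul_eq_one_right h]; exact hc
    · rw [inv_eq_of_mul_eq_one_right (show c * -c = 1 by rw [mul_neg, h, neg_neg])]
      exact φ.mem_pair hR hr hc
  have hsplit : ∀ y, φ.j (c, 1) * (y * φ.v) * (φ.j (c, 1))⁻¹ =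
      (φ.j (c, 1) * y * (φ.j (c, 1))⁻¹) * (φ.j (c, 1) * φ.v * (φ.j (c, 1))⁻¹) := fun y => by group
  obtain ⟨a, ha, rfl | rfl | rfl | rfl⟩ := φ.exists_form hR hr hx
  · exact (hfix a ha).1
  · exact (hfix a ha).2
  · rw [hsplit]; exact R.mul_mem (hfix a ha).1 hvconj
  · rw [hsplit]; exact R.mul_mem (hfix a ha).2 hvconj

omit hR hr in
theorem j_swap (a b : GL4) : φ.v * φ.j (a, b) * φ.v = φ.j (b, a) := by
  rw [φ.v_swap, mul_assoc, φ.v_sq, mul_one]

theorem half_normal' {c : GL4} (hc : c ∈ φ.diag) :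
    φ.j (1, c) ∈ Cfsg.Geo.subgroupNormalizer R ⊓ Cfsg.spGL 4 F := by
  have hv : φ.v ∈ Cfsg.Geo.subgroupNormalizer R ⊓ Cfsg.spGL 4 F :=
    ⟨Subgroup.le_normalizer φ.v_mem, hR.le φ.v_mem⟩
  rw [← φ.j_swap c 1]
  exact mul_mem (mul_mem hv (φ.half_normal hR hr hc)) hv

end Frame

namespace Minus8

variable {R : Subgroup (GL (Fin 4 ⊕ Fin 4) F)} (hR : Minus8 R)
include hR

/-- The pairs normalise `R`. -/
theorem exists_pair_normal {a b : GL8} (ha : a ∈ R) (hb : b ∈ R) (haa : a * a = -1)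
    (hbb : b * b = -1) :
    ∃ n ∈ Cfsg.Geo.subgroupNormalizer R ⊓ Cfsg.spGL 4 F,
      ∀ x ∈ R, ∃ y, (y = x ∧ x * b = b * x ∨ y = b * x ∧ x * b = -(b * x)) ∧
        (n * x * n⁻¹ = y ∧ y * a = a * y ∨ n * x * n⁻¹ = a * y ∧ y * a = -(a * y)) := by
  have := hR.finiteR
  obtain ⟨n, hn, -, hconj⟩ := hR.exists_pair ha hb haa hbb
  refine ⟨n, ⟨mem_normalizer_of fun x hx => ?_, hn⟩, hconj⟩
  obtain ⟨y, hy, hy'⟩ := hconj x hx
  have hyR : y ∈ R := by
    rcases hy with ⟨e, -⟩ | ⟨e, -⟩ <;> rw [e]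
    exacts [hx, R.mul_mem hb hx]
  rcases hy' with ⟨e, -⟩ | ⟨e, -⟩ <;> rw [e]
  exacts [hyR, R.mul_mem ha hyR]

end Minus8

/-- An overgroup of the normaliser, other than the whole group. -/
structure Over (R G : Subgroup (GL (Fin 4 ⊕ Fin 4) F)) : Prop where
  minus : Minus8 R
  le : G ≤ Cfsg.spGL 4 F
  normal_le : Cfsg.Geo.subgroupNormalizer R ⊓ Cfsg.spGL 4 F ≤ G
  proper : ¬ Cfsg.spGL 4 F ≤ G

namespace Over

variable [Fintype F] {R G : Subgroup (GL (Fin 4 ⊕ Fin 4) F)} (O : Over R G)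
include O

theorem R_le : R ≤ G := fun _ hx => O.normal_le ⟨Subgroup.le_normalizer hx, O.minus.le hx⟩

variable {r : GL (Fin 4 ⊕ Fin 4) F} (φ : Frame R r) (hr : r ∈ R)
include hr

theorem exists_noncentral :
    ∃ c ∈ φ.diag, ∃ b ∈ φ.diag, c * c = -1 ∧ c * b = -(b * c) := by
  obtain ⟨a, ha, c, hc, -, -, -, -, -, hcc, -, -, hac, -⟩ :=
    (φ.diag_minus O.minus hr).exists_frame
  exact ⟨c, hc, a, ha, hcc, by rw [hac, neg_neg]⟩

theorem not_full : ¬ ∀ a ∈ Cfsg.spGL 2 F, ∃ b, φ.j (a, b) ∈ G := by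
  classical
  intro hfull
  have hR := O.minus
  have hvG : φ.v ∈ G := O.R_le φ.v_mem
  obtain ⟨c, hc, b0, hb0, hcc, hcb⟩ := O.exists_noncentral φ hr
  -- the kernel is everything
  let inl : Cfsg.spGL 2 F →* GL8 := φ.j.comp ((Cfsg.spGL 2 F).subtype.prod 1)
  have hN : (G.comap inl).Normal := by
    refine ⟨fun x hx g => ?_⟩
    obtain ⟨d, hd⟩ := hfull g g.2
    have h := G.mul_mem (G.mul_mem hd hx) (G.inv_mem hd)
    show φ.j (((g * x * g⁻¹ : Cfsg.spGL 2 F) : GL4), 1) ∈ G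
    have e : φ.j ((g : GL4), d) * inl x * (φ.j ((g : GL4), d))⁻¹ =
        φ.j (((g * x * g⁻¹ : Cfsg.spGL 2 F) : GL4), 1) := by
      show _ * φ.j ((x : GL4), 1) * _ = _
      rw [φ.j_inv, φ.j_mul, φ.j_mul]; simp
    rw [e] at h
    exact h
  have htop : G.comap inl = ⊤ := by
    refine spGL_normal_top (x := ⟨c, φ.diag_le hR hr hc⟩) le_rfl hR.two _
      (O.normal_le (φ.half_normal hR hr hc)) fun h => ?_
    have e := congrArg Subtype.val (Subgroup.mem_center_iff.1 h ⟨b0, φ.diag_le hR hr hb0⟩)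
    simp only [Subgroup.coe_mul] at e
    rw [hcb] at e
    exact (PrimeOrderElt.unit_ne_neg hR.two _) e
  have hall : ∀ a ∈ Cfsg.spGL 2 F, φ.j (a, 1) ∈ G := fun a ha => by
    have : (⟨a, ha⟩ : Cfsg.spGL 2 F) ∈ G.comap inl := by rw [htop]; trivial
    exact this
  have hcent : ∀ g ∈ Cfsg.spGL 4 F, g * r = r * g → g ∈ G := fun g hg hgr => by
    obtain ⟨a, b, rfl⟩ := φ.exists_j hR.two hgr
    obtain ⟨ha, hb⟩ := φ.sp_of_j hg
    have h1 := hall a ha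
    have h2 : φ.j (1, b) ∈ G := φ.j_swap b 1 ▸ G.mul_mem (G.mul_mem hvG (hall b hb)) hvG
    have := G.mul_mem h1 h2
    rwa [φ.j_mul, mul_one, one_mul] at this
  -- the decomposition
  obtain ⟨κ, hκ⟩ : ∃ κ : Fin 2 → (V4 →ₗ[F] V8), κ = fun i =>
      (Matrix.toLin' (φ.P : M8)) ∘ₗ (splitL (F := F)).toLinearMap ∘ₗ
        (if i = 0 then LinearMap.inl F V4 V4 else LinearMap.inr F V4 V4) := ⟨_, rfl⟩
  have hκ0 : ∀ a, κ 0 a = (φ.P : M8) *ᵥ comb a 0 := fun a => by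
    simp [hκ, Matrix.toLin'_apply, splitL]
  have hκ1 : ∀ a, κ 1 a = (φ.P : M8) *ᵥ comb 0 a := fun a => by
    simp [hκ, Matrix.toLin'_apply, splitL]
  obtain ⟨D, hD⟩ : ∃ D : Fin 2 → Submodule F V8, D = fun i => LinearMap.range (κ i) := ⟨_, rfl⟩
  have hPinj : Function.Injective (Matrix.toLin' (φ.P : M8)) := fun x y h => by
    rw [Matrix.toLin'_apply, Matrix.toLin'_apply] at h
    exact Matrix.mulVec_injective_iff_isUnit.2 φ.P.isUnit h
  have hPi := Transvect.mem_spGL_iff.1 φ.P_mem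
  have hPf : ∀ x y, Cfsg.sympForm 4 F ((φ.P : M8) *ᵥ x) ((φ.P : M8) *ᵥ y) = Cfsg.sympForm 4 F x y :=
    fun x y => by
      have := hPi x y
      rwa [Transvect.app_apply, Transvect.app_apply] at this
  have hz : Cfsg.sympForm 2 F (0 : V4) (0 : V4) = 0 := (Transvect.sympForm_isSymplectic 2).alternating 0
  have hzl : ∀ a : V4, Cfsg.sympForm 2 F a 0 = 0 ∧ Cfsg.sympForm 2 F 0 a = 0 := fun a => by
    have hb := (Transvect.sympForm_isSymplectic (F := F) 2).bilinear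
    constructor
    · simpa only [zero_smul, zero_mul] using hb.smul_right 0 a (0 : V4)
    · simpa only [zero_smul, zero_mul] using hb.smul_left 0 (0 : V4) a
  have hdec : Cfsg.Geo.IsNondegenerateMDecomposition (Cfsg.sympForm 4 F) 4 D := by
    refine ⟨⟨le_rfl, by norm_num, fun i => ?_, ?_, ?_⟩, fun i => ?_, fun i k hik => ?_⟩
    · rw [hD]
      show finrank F (LinearMap.range (κ i)) = 4
      rw [LinearMap.finrank_range_of_inj]
      · rw [Module.finrank_pi, Fintype.card_sum, Fintype.card_fin]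
      · rw [hκ]
        refine hPinj.comp ((splitL (F := F)).injective.comp ?_)
        fin_cases i
        exacts [LinearMap.inl_injective, LinearMap.inr_injective]
    · rw [iSupIndep_pair (show (0 : Fin 2) ≠ 1 by decide) (by decide), Submodule.disjoint_def, hD]
      rintro _ ⟨a, rfl⟩ ⟨b, hb⟩
      rw [hκ1, hκ0] at hb
      have h2 : comb (0 : V4) b = comb a 0 := Matrix.mulVec_injective_iff_isUnit.2 φ.P.isUnit hb
      obtain ⟨rfl, -⟩ := Prod.mk.inj ((splitL (F := F)).injective (show splitL (0, b) = splitL (a, 0) from h2))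
      exact map_zero _
    · refine eq_top_iff.2 fun x _ => ?_
      obtain ⟨⟨a, b⟩, hab⟩ := (splitL (F := F)).surjective (((φ.P⁻¹ : GL8) : M8) *ᵥ x)
      have hx : x = κ 0 a + κ 1 b := by
        rw [hκ0, hκ1, ← Matrix.mulVec_add]
        have e : comb a (0 : V4) + comb 0 b = comb a b :=
          (((splitL (F := F)).map_add (a, 0) (0, b)).symm.trans (by simp [splitL]) : _)
        rw [e, show comb a b = ((φ.P⁻¹ : GL8) : M8) *ᵥ x from hab, Matrix.mulVec_mulVec, ← Units.val_mul,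
          mul_inv_cancel, Units.val_one, Matrix.one_mulVec]
      rw [hx, hD]
      exact Submodule.add_mem _ (Submodule.mem_iSup_of_mem 0 ⟨a, rfl⟩)
        (Submodule.mem_iSup_of_mem 1 ⟨b, rfl⟩)
    · rw [hD]
      rintro _ ⟨a, rfl⟩ hne
      have ha : a ≠ 0 := fun h => hne (by rw [h, map_zero])
      obtain ⟨⟨b, hb⟩, ⟨d, hd⟩⟩ := (Transvect.sympForm_isSymplectic (F := F) 2).nondegenerate a ha
      fin_cases i
      · refine ⟨⟨_, ⟨b, rfl⟩, ?_⟩, ⟨_, ⟨d, rfl⟩, ?_⟩⟩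
        all_goals show Cfsg.sympForm 4 F (κ 0 _) (κ 0 _) ≠ 0
        all_goals rw [hκ0, hκ0, hPf, form_comb, hz, add_zero]
        exacts [hb, hd]
      · refine ⟨⟨_, ⟨b, rfl⟩, ?_⟩, ⟨_, ⟨d, rfl⟩, ?_⟩⟩
        all_goals show Cfsg.sympForm 4 F (κ 1 _) (κ 1 _) ≠ 0
        all_goals rw [hκ1, hκ1, hPf, form_comb, hz, zero_add]
        exacts [hb, hd]
    · rw [hD]
      rintro _ ⟨a, rfl⟩ _ ⟨b, rfl⟩
      fin_cases i <;> fin_cases k <;> first | exact absurd rfl hik | skip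
      · show Cfsg.sympForm 4 F (κ 0 a) (κ 1 b) = 0
        rw [hκ0, hκ1, hPf, form_comb, (hzl a).1, (hzl b).2, add_zero]
      · show Cfsg.sympForm 4 F (κ 1 a) (κ 0 b) = 0
        rw [hκ0, hκ1, hPf, form_comb, (hzl b).2, (hzl a).1, add_zero]
  -- elements fixing both members commute with `r`
  have hr0 : ∀ a, (r : M8) *ᵥ κ 0 a = κ 0 a := fun a => by
    rw [hκ0, Matrix.mulVec_mulVec, φ.r_eq, ← Matrix.mulVec_mulVec, blocks_mulVec]; simp
  have hr1 : ∀ a, (r : M8) *ᵥ κ 1 a = -κ 1 a := fun a => by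
    rw [hκ1, Matrix.mulVec_mulVec, φ.r_eq, ← Matrix.mulVec_mulVec, blocks_mulVec]
    simp only [Matrix.mulVec_zero, Matrix.neg_mulVec, Matrix.one_mulVec, Matrix.zero_mulVec, zero_add, add_zero]
    rw [← Matrix.mulVec_neg]
    congr 1
    exact (((splitL (F := F)).map_neg (0, a)).symm.trans (by simp [splitL])).symm
  have hv0 : ∀ a, (φ.v : M8) *ᵥ κ 0 a = κ 1 a := fun a => by
    rw [hκ0, hκ1, Matrix.mulVec_mulVec, φ.v_eq, ← Matrix.mulVec_mulVec, blocks_mulVec]; simp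
  have hv1 : ∀ a, (φ.v : M8) *ᵥ κ 1 a = κ 0 a := fun a => by
    rw [hκ0, hκ1, Matrix.mulVec_mulVec, φ.v_eq, ← Matrix.mulVec_mulVec, blocks_mulVec]; simp
  have hfix : ∀ g : GL8, (∀ a, ∃ b, (g : M8) *ᵥ κ 0 a = κ 0 b) → (∀ a, ∃ b, (g : M8) *ᵥ κ 1 a = κ 1 b) →
      g * r = r * g := by
    intro g h0 h1
    refine Units.ext (Matrix.ext_iff_mulVec.2 fun x => ?_)
    have hx : x ∈ iSup D := by rw [hdec.decomp.iSup_eq_top]; trivial
    refine Submodule.iSup_induction D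
      (motive := fun x => ((g * r : GL8) : M8) *ᵥ x = ((r * g : GL8) : M8) *ᵥ x) hx ?_ ?_ ?_
    · intro i z hz
      rw [hD] at hz
      obtain ⟨a, rfl⟩ := hz
      rw [Units.val_mul, Units.val_mul, ← Matrix.mulVec_mulVec, ← Matrix.mulVec_mulVec]
      fin_cases i
      · obtain ⟨b, hb⟩ := h0 a
        show (g : M8) *ᵥ ((r : M8) *ᵥ κ 0 a) = (r : M8) *ᵥ ((g : M8) *ᵥ κ 0 a)
        rw [hr0, hb, hr0]
      · obtain ⟨b, hb⟩ := h1 a
        show (g : M8) *ᵥ ((r : M8) *ᵥ κ 1 a) = (r : M8) *ᵥ ((g : M8) *ᵥ κ 1 a)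
        rw [hr1, Matrix.mulVec_neg, hb, hr1]
    · simp
    · intro p q hp hq
      rw [Matrix.mulVec_add, Matrix.mulVec_add, hp, hq]
  have hstab : ∀ g ∈ Cfsg.Geo.decompositionStabilizer D,
      g * r = r * g ∨ g * φ.v * r = r * (g * φ.v) := by
    rintro g ⟨σ, hσ⟩
    have hm : ∀ i a, ∃ b, (g : M8) *ᵥ κ i a = κ (σ i) b := fun i a => by
      have : Matrix.toLin' (g : M8) (κ i a) ∈ D (σ i) := hσ i ▸ Submodule.mem_map_of_mem (hD ▸ ⟨a, rfl⟩)
      rw [hD] at this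
      obtain ⟨b, hb⟩ := this
      exact ⟨b, by rw [hb, Matrix.toLin'_apply]⟩
    have key : ∀ σ : Equiv.Perm (Fin 2), (σ 0 = 0 ∧ σ 1 = 1) ∨ (σ 0 = 1 ∧ σ 1 = 0) := by decide
    rcases key σ with ⟨s0, s1⟩ | ⟨s0, s1⟩
    · exact Or.inl (hfix g (fun a => by have h := hm 0 a; rwa [s0] at h)
        fun a => by have h := hm 1 a; rwa [s1] at h)
    · refine Or.inr (hfix _ (fun a => ?_) fun a => ?_)
      · rw [Units.val_mul, ← Matrix.mulVec_mulVec, hv0]; have h := hm 1 a; rwa [s1] at h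
      · rw [Units.val_mul, ← Matrix.mulVec_mulVec, hv1]; have h := hm 0 a; rwa [s0] at h
  have hle : Cfsg.Geo.decompositionStabilizer D ⊓ Cfsg.spGL 4 F ≤ G := by
    rintro g ⟨hg, hgs⟩
    rcases hstab g hg with h | h
    · exact hcent g hgs h
    · have := G.mul_mem (hcent _ ((Cfsg.spGL 4 F).mul_mem hgs (hR.le φ.v_mem)) h) hvG
      rwa [mul_assoc, φ.v_sq, mul_one] at this
  rcases (S5647.general 4 4 D hdec (fun h => by omega)).2 G hle O.le with h | h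
  swap
  · exact O.proper h.ge
  -- a member of the normaliser moving the decomposition
  have hrv : r * φ.v = -(φ.v * r) := φ.r_anti_v
  have hrr : r * r = 1 := by
    have e : r * r = φ.j ((1 : GL4), (-1 : GL4)) * φ.j ((1 : GL4), (-1 : GL4)) :=
      congrArg (fun z => z * z) φ.r_val
    rw [e, φ.j_mul]; simp [φ.j_one]
  have hrvsq : r * φ.v * (r * φ.v) = -1 := by
    calc r * φ.v * (r * φ.v) = r * φ.v * (-(φ.v * r)) := by rw [← hrv]
      _ = -(r * (φ.v * φ.v) * r) := by rw [mul_neg]; simp only [mul_assoc]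
      _ = -1 := by rw [φ.v_sq, mul_one, hrr]
  obtain ⟨n, hn, hconj⟩ := hR.exists_pair_normal (R.mul_mem hr φ.v_mem) (show φ.j (c, c) ∈ R from hc)
    hrvsq (by rw [φ.j_mul, hcc, φ.j_neg, φ.j_one])
  obtain ⟨y, hy, hy'⟩ := hconj r hr
  have hyr : y = r := by
    rcases hy with ⟨e, -⟩ | ⟨-, e⟩
    · exact e
    · rw [← φ.r_comm] at e; exact absurd e (hR.ne_neg _)
  rw [hyr] at hy'
  have hnr : n * r * n⁻¹ = -φ.v := by
    rcases hy' with ⟨-, e⟩ | ⟨e, -⟩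
    · exfalso
      rw [← mul_assoc, hrr, one_mul, hrv, neg_mul, mul_assoc, hrr, mul_one] at e
      exact hR.ne_neg _ e
    · rw [e, hrv, neg_mul, mul_assoc, hrr, mul_one]
  have hnG : n ∈ Cfsg.Geo.decompositionStabilizer D ⊓ Cfsg.spGL 4 F := h ▸ O.normal_le hn
  have hvne : ∀ {z : GL8}, z * z = 1 → z * φ.v = -(φ.v * z) → -φ.v = z ∨ -φ.v = -z → False := by
    intro z hzz hanti hz
    rcases hz with e | e
    · rw [← e, neg_mul, mul_neg, φ.v_sq, neg_neg] at hanti; exact hR.one_ne_neg hanti.symm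
    · rw [← neg_inj.1 e, φ.v_sq] at hanti; exact hR.one_ne_neg hanti
  rcases hstab n hnG.1 with e | e
  · rw [e, mul_inv_cancel_right] at hnr
    exact hvne hrr hrv (Or.inl hnr.symm)
  · refine hvne hrr hrv (Or.inr ?_)
    have h1 : n * r * φ.v = -(r * n) * φ.v := by
      rw [mul_assoc, hrv, mul_neg, ← mul_assoc, e, neg_mul, mul_assoc]
    rw [← hnr, mul_right_cancel h1, neg_mul, mul_inv_cancel_right]

variable (hprime : (Fintype.card F).Prime)
include hprime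

theorem fst_mem {a b : GL4} (h : φ.j (a, b) ∈ G) :
    a ∈ Cfsg.Geo.subgroupNormalizer φ.diag ⊓ Cfsg.spGL 2 F := by
  have hR := O.minus
  obtain ⟨M, hM⟩ : ∃ M, M = (G.comap φ.j).map (MonoidHom.fst GL4 GL4) := ⟨_, rfl⟩
  have hMle : M ≤ Cfsg.spGL 2 F := by
    rw [hM]; rintro _ ⟨⟨x, y⟩, hxy, rfl⟩
    exact (φ.sp_of_j (O.le hxy)).1
  have hNM : Cfsg.Geo.subgroupNormalizer φ.diag ⊓ Cfsg.spGL 2 F ≤ M := fun n hn => by
    rw [hM]; exact ⟨(n, n), O.normal_le (φ.dbl_normal hR hr hn.1 hn.2), rfl⟩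
  rcases (Orth.SpKlein.extraspecial_normalizer_maximal hprime (φ.diag_minus hR hr)).2 M hNM hMle
    with e | e
  · rw [← e, hM]; exact ⟨(a, b), h, rfl⟩
  · exfalso
    refine O.not_full φ hr fun x hx => ?_
    rw [← e, hM] at hx
    obtain ⟨⟨x', y⟩, hxy, rfl⟩ := hx
    exact ⟨y, hxy⟩

theorem snd_mem {a b : GL4} (h : φ.j (a, b) ∈ G) :
    b ∈ Cfsg.Geo.subgroupNormalizer φ.diag ⊓ Cfsg.spGL 2 F :=
  O.fst_mem φ hr hprime (a := b) (b := a)
    (φ.j_swap a b ▸ G.mul_mem (G.mul_mem (O.R_le φ.v_mem) h) (O.R_le φ.v_mem))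

include φ in
/-- Conjugates agree with members of `R` on the eigenspace of `r`. -/
theorem proj {g x : GL8} (hg : g ∈ G) (hgr : g * r = r * g) (hx : x ∈ R) (hxr : x * r = r * x) :
    ∃ x' ∈ R, x' * r = r * x' ∧
      ((g * x * g⁻¹ : GL8) : M8) * (1 + (r : M8)) = (x' : M8) * (1 + (r : M8)) := by
  have hR := O.minus
  obtain ⟨a, b, rfl⟩ := φ.exists_j hR.two hgr
  have ha := (O.fst_mem φ hr hprime hg).1
  obtain ⟨p, hp, hxp⟩ := φ.exists_diag hR hr hx hxr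
  have hp' : a * p * a⁻¹ ∈ φ.diag := (Subgroup.mem_normalizer_iff.mp ha p).mp hp
  refine ⟨φ.j (a * p * a⁻¹, a * p * a⁻¹), hp', φ.r_comm _ _, ?_⟩
  have h1r : ((1 : M8) + (r : M8)) * (φ.P : M8) = (φ.P : M8) * blocks (1 + 1) 0 0 0 := by
    rw [add_mul, one_mul, φ.r_eq]
    nth_rewrite 1 [← mul_one (φ.P : M8)]
    rw [← mul_add, ← blocks_one, blocks, blocks, ← map_add, Matrix.fromBlocks_add]
    simp [blocks]
  have key : ∀ q q' : GL4, ((φ.j (q, q') : GL8) : M8) * (1 + (r : M8)) * (φ.P : M8) =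
      (φ.P : M8) * blocks ((q : M4) * (1 + 1)) 0 0 0 := fun q q' => by
    rw [mul_assoc, h1r, ← mul_assoc, φ.j_val, mul_assoc, blocks_mul]; simp
  refine (Units.mul_left_inj φ.P).1 ?_
  rcases hxp with rfl | rfl <;> rw [φ.j_inv, φ.j_mul, φ.j_mul, key, key]

end Over

end Cfsg.Agent.C6Minus
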