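import Cfsg.Agent.Lib.C6Minus.Frame
import Cfsg.Agent.Lib.Orth.SpKlein.Frame
/-!
# The `2^{1+4}` of minus type in a frame

* `Frame.diag`      : the `a` with `(a, a)` in `R`
* `Frame.diag_minus` : it is an irreducible `2^{1+4}` of minus type
-/

set_option autoImplicit false
set_option linter.unusedSectionVars false

namespace Cfsg.Agent.C6Minus

open Module Matrix

variable {F : Type*} [Field F]

local notation "GL8" => GL (Fin 4 ⊕ Fin 4) F
local notation "GL4" => GL (Fin 2 ⊕ Fin 2) F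
local notation "M8" => Matrix (Fin 4 ⊕ Fin 4) (Fin 4 ⊕ Fin 4) F
local notation "M4" => Matrix (Fin 2 ⊕ Fin 2) (Fin 2 ⊕ Fin 2) F

/-- For a finite subgroup one inclusion suffices. -/
theorem mem_normalizer_of {G : Type*} [Group G] {R : Subgroup G} [Finite R] {g : G}
    (h : ∀ x ∈ R, g * x * g⁻¹ ∈ R) : g ∈ Subgroup.normalizer (R : Set G) := by
  let f : R → R := fun x => ⟨g * x * g⁻¹, h x x.2⟩
  have hs : Function.Surjective f := Finite.injective_iff_surjective.1 fun x y hxy =>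
    Subtype.ext (mul_left_cancel (mul_right_cancel (congrArg Subtype.val hxy)))
  refine Subgroup.mem_normalizer_iff.mpr fun x => ⟨h x, fun hx => ?_⟩
  obtain ⟨⟨y, hy⟩, hy'⟩ := hs ⟨g * x * g⁻¹, hx⟩
  rw [← mul_left_cancel (mul_right_cancel (congrArg Subtype.val hy'))]
  exact hy

theorem Minus8.finiteR {R : Subgroup (GL (Fin 4 ⊕ Fin 4) F)} (hR : Minus8 R) : Finite R :=
  Nat.finite_of_card_ne_zero (by rw [hR.card]; norm_num)

namespace Frame

variable {R : Subgroup (GL (Fin 4 ⊕ Fin 4) F)} {r : GL (Fin 4 ⊕ Fin 4) F} (φ : Frame R r)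

/-- `a ↦ (a, a)`. -/
noncomputable def dbl : GL4 →* GL8 := φ.j.comp ((MonoidHom.id GL4).prod (MonoidHom.id GL4))

theorem dbl_apply (a : GL4) : φ.dbl a = φ.j (a, a) := rfl

/-- The `a` with `(a, a) ∈ R`. -/
noncomputable def diag : Subgroup GL4 := R.comap φ.dbl

theorem mem_diag {a : GL4} : a ∈ φ.diag ↔ φ.j (a, a) ∈ R := Iff.rfl

theorem j_mul (a b a' b' : GL4) : φ.j (a, b) * φ.j (a', b') = φ.j (a * a', b * b') := by
  rw [← map_mul]; rfl

theorem j_inv (a b : GL4) : (φ.j (a, b))⁻¹ = φ.j (a⁻¹, b⁻¹) := by rw [← map_inv]; rfl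

theorem j_one : φ.j ((1 : GL4), (1 : GL4)) = 1 := map_one _

theorem j_mul_r (a b : GL4) : φ.j (a, b) * r = φ.j (a, -b) :=
  (congrArg (φ.j (a, b) * ·) φ.r_val).trans (by rw [j_mul]; simp)

theorem r_comm (a b : GL4) : φ.j (a, b) * r = r * φ.j (a, b) :=
  (φ.j_mul_r a b).trans (((congrArg (· * φ.j (a, b)) φ.r_val).trans (by rw [j_mul]; simp)).symm)

theorem r_anti_v : r * φ.v = -(φ.v * r) := by
  have h1 : r * φ.v = φ.j ((1 : GL4), (-1 : GL4)) * φ.v := congrArg (· * φ.v) φ.r_val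
  have h2 : φ.v * r = φ.v * φ.j ((1 : GL4), (-1 : GL4)) := congrArg (φ.v * ·) φ.r_val
  rw [h1, h2, φ.v_swap, ← neg_mul, ← j_neg]; simp

theorem v_dbl (a : GL4) : φ.v * φ.j (a, a) = φ.j (a, a) * φ.v := φ.v_swap a a

theorem v_conj (a b : GL4) : φ.v * φ.j (a, b) * φ.v⁻¹ = φ.j (b, a) := by
  rw [φ.v_swap, mul_inv_cancel_right]

variable (hR : Minus8 R) (hr : r ∈ R)
include hR hr

/-- The members commuting with `r`. -/
theorem exists_diag {x : GL8} (hx : x ∈ R) (hxr : x * r = r * x) :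
    ∃ a ∈ φ.diag, x = φ.j (a, a) ∨ x = φ.j (a, -a) := by
  obtain ⟨a, b, rfl⟩ := φ.exists_j hR.two hxr
  rcases hR.comm _ hx φ.v φ.v_mem with h | h
  · rw [φ.v_swap] at h
    obtain ⟨-, hb⟩ := φ.j_inj (mul_right_cancel h)
    subst hb
    exact ⟨_, hx, Or.inl rfl⟩
  · rw [φ.v_swap, ← neg_mul, ← j_neg] at h
    obtain ⟨-, hb⟩ := φ.j_inj (mul_right_cancel h)
    subst hb
    refine ⟨a, ?_, Or.inr rfl⟩
    rw [φ.mem_diag]
    have h' := R.mul_mem hx hr
    rw [φ.j_mul_r] at h'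
    simpa using h'

/-- All members. -/
theorem exists_form {x : GL8} (hx : x ∈ R) :
    ∃ a ∈ φ.diag, x = φ.j (a, a) ∨ x = φ.j (a, -a) ∨ x = φ.j (a, a) * φ.v ∨ x = φ.j (a, -a) * φ.v := by
  rcases hR.comm x hx r hr with h | h
  · obtain ⟨a, ha, h' | h'⟩ := φ.exists_diag hR hr hx h
    exacts [⟨a, ha, Or.inl h'⟩, ⟨a, ha, Or.inr (Or.inl h')⟩]
  · have hvr : φ.v * r = -(r * φ.v) := by rw [φ.r_anti_v, neg_neg]
    obtain ⟨a, ha, h' | h'⟩ := φ.exists_diag hR hr (R.mul_mem hx φ.v_mem) (by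
      rw [mul_assoc, hvr, mul_neg, ← mul_assoc, h, neg_mul, neg_neg, mul_assoc])
    · refine ⟨a, ha, Or.inr (Or.inr (Or.inl ?_))⟩
      rw [← h', mul_assoc, φ.v_sq, mul_one]
    · refine ⟨a, ha, Or.inr (Or.inr (Or.inr ?_))⟩
      rw [← h', mul_assoc, φ.v_sq, mul_one]

theorem diag_le : φ.diag ≤ Cfsg.spGL 2 F := fun _ ha => (φ.sp_of_j (hR.le ha)).1

theorem diag_neg_mem : (-1 : GL4) ∈ φ.diag := by
  rw [φ.mem_diag, j_neg, j_one]; exact hR.neg

theorem diag_comm {a b : GL4} (ha : a ∈ φ.diag) (hb : b ∈ φ.diag) :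
    a * b = b * a ∨ a * b = -(b * a) := by
  rcases hR.comm _ ha _ hb with h | h
  · rw [dbl_apply, dbl_apply, j_mul, j_mul] at h
    exact Or.inl (φ.j_inj h).1
  · rw [dbl_apply, dbl_apply, j_mul, j_mul, ← j_neg] at h
    exact Or.inr (φ.j_inj h).1

theorem diag_sq {a : GL4} (ha : a ∈ φ.diag) : a * a = 1 ∨ a * a = -1 := by
  rcases hR.sq _ ha with h | h
  · rw [dbl_apply, j_mul, ← j_one φ] at h
    exact Or.inl (φ.j_inj h).1
  · rw [dbl_apply, j_mul, ← j_one φ, ← j_neg] at h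
    exact Or.inr (φ.j_inj h).1

theorem diag_central {a : GL4} (ha : a ∈ φ.diag) (h : ∀ b ∈ φ.diag, a * b = b * a) : a = 1 ∨ a = -1 := by
  have hall : ∀ x ∈ R, φ.j (a, a) * x = x * φ.j (a, a) := by
    intro x hx
    obtain ⟨b, hb, rfl | rfl | rfl | rfl⟩ := φ.exists_form hR hr hx
    · rw [j_mul, j_mul, h b hb]
    · rw [j_mul, j_mul, h b hb]; simp [h b hb]
    · rw [← mul_assoc, mul_assoc _ φ.v, φ.v_dbl, ← mul_assoc, j_mul, j_mul, h b hb]
    · rw [← mul_assoc, mul_assoc _ φ.v, φ.v_dbl, ← mul_assoc, j_mul, j_mul, h b hb]; simp [h b hb]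
  rcases hR.central ha hall with h | h
  · rw [← j_one φ] at h; exact Or.inl (φ.j_inj h).1
  · rw [← j_one φ, ← j_neg] at h; exact Or.inr (φ.j_inj h).1

theorem card_diag : Nat.card φ.diag = 32 := by
  have hfin := hR.finiteR
  have hrj : φ.j ((1 : GL4), (-1 : GL4)) ∈ R := φ.r_val ▸ hr
  have hneq : ∀ a : GL4, a ≠ -a := fun a => PrimeOrderElt.unit_ne_neg hR.two a
  have hmem : ∀ a ∈ φ.diag, φ.j (a, -a) ∈ R := fun a ha => by
    have := R.mul_mem ha hrj
    rw [dbl_apply, j_mul] at this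
    simpa using this
  let ψ : φ.diag × Bool × Bool → R := fun z =>
    ⟨φ.j ((z.1 : GL4), bif z.2.1 then -(z.1 : GL4) else (z.1 : GL4)) * (bif z.2.2 then φ.v else 1), by
      refine R.mul_mem ?_ ?_
      · cases z.2.1
        exacts [z.1.2, hmem _ z.1.2]
      · cases z.2.2
        exacts [R.one_mem, φ.v_mem]⟩
  have hbij : Function.Bijective ψ := by
    refine ⟨?_, ?_⟩
    · rintro ⟨⟨a, ha⟩, i, k⟩ ⟨⟨b, hb⟩, i', k'⟩ h
      have h' := congrArg Subtype.val h
      simp only [ψ] at h'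
      have hk : k = k' := by
        by_contra hne
        have key : ∀ {c d c' d' : GL4}, φ.j (c, d) * φ.v ≠ φ.j (c', d') := fun {c d c' d'} e => by
          have h1 := φ.r_comm c' d'
          rw [← e, mul_assoc, show φ.v * r = -(r * φ.v) by rw [φ.r_anti_v, neg_neg], mul_neg,
            ← mul_assoc, φ.r_comm, mul_assoc] at h1
          exact hR.ne_neg _ h1.symm
        cases k <;> cases k' <;> simp at hne h'
        exacts [key h'.symm, key h']
      subst hk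
      obtain ⟨e1, e2⟩ := φ.j_inj (mul_right_cancel h')
      subst e1
      cases i <;> cases i' <;> simp at e2 ⊢
      exacts [hneq _ e2, hneq _ e2.symm]
    · rintro ⟨x, hx⟩
      obtain ⟨a, ha, rfl | rfl | rfl | rfl⟩ := φ.exists_form hR hr hx
      exacts [⟨(⟨a, ha⟩, false, false), Subtype.ext (mul_one _)⟩,
        ⟨(⟨a, ha⟩, true, false), Subtype.ext (mul_one _)⟩, ⟨(⟨a, ha⟩, false, true), rfl⟩,
        ⟨(⟨a, ha⟩, true, true), rfl⟩]
  have h := Nat.card_eq_of_bijective ψ hbij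
  rw [hR.card, Nat.card_prod, Nat.card_prod, Nat.card_eq_fintype_card (α := Bool), Fintype.card_bool] at h
  omega

theorem diag_scalar {M : M4} (hM : ∀ a ∈ φ.diag, M * (a : M4) = (a : M4) * M) :
    ∃ c : F, M = c • 1 := by
  obtain ⟨X, hX⟩ : ∃ X : M8, X = (φ.P : M8) * blocks M 0 0 M * ((φ.P⁻¹ : GL8) : M8) := ⟨_, rfl⟩
  have hXP : X * (φ.P : M8) = (φ.P : M8) * blocks M 0 0 M := by
    rw [hX, mul_assoc, ← Units.val_mul, inv_mul_cancel, Units.val_one, mul_one]
  have hall : ∀ x ∈ R, X * (x : M8) = (x : M8) * X := by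
    intro x hx
    refine (Units.mul_left_inj φ.P).1 ?_
    have hj : ∀ a b : GL4, M * (a : M4) = (a : M4) * M → M * (b : M4) = (b : M4) * M →
        X * (φ.j (a, b) : M8) * (φ.P : M8) = (φ.j (a, b) : M8) * X * (φ.P : M8) := fun a b ha hb => by
      rw [mul_assoc, φ.j_val, ← mul_assoc, hXP, mul_assoc, blocks_mul, mul_assoc, hXP, ← mul_assoc,
        φ.j_val, mul_assoc, blocks_mul]
      simp [ha, hb]
    have hv : X * (φ.v : M8) * (φ.P : M8) = (φ.v : M8) * X * (φ.P : M8) := by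
      rw [mul_assoc, φ.v_eq, ← mul_assoc, hXP, mul_assoc, blocks_mul, mul_assoc, hXP, ← mul_assoc,
        φ.v_eq, mul_assoc, blocks_mul]
      simp
    have hv' : X * (φ.v : M8) = (φ.v : M8) * X := (Units.mul_left_inj φ.P).1 hv
    have hn : ∀ a ∈ φ.diag, M * ((-a : GL4) : M4) = ((-a : GL4) : M4) * M := fun a ha => by
      rw [Units.val_neg, mul_neg, neg_mul, hM a ha]
    have hjv : ∀ a b : GL4, M * (a : M4) = (a : M4) * M → M * (b : M4) = (b : M4) * M →
        X * ((φ.j (a, b) * φ.v : GL8) : M8) * (φ.P : M8) =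
          ((φ.j (a, b) * φ.v : GL8) : M8) * X * (φ.P : M8) := fun a b ha hb => by
      rw [Units.val_mul, ← mul_assoc X, (Units.mul_left_inj φ.P).1 (hj a b ha hb),
        mul_assoc _ X (φ.v : M8), hv', ← mul_assoc]
    obtain ⟨a, ha, rfl | rfl | rfl | rfl⟩ := φ.exists_form hR hr hx
    exacts [hj a a (hM a ha) (hM a ha), hj a _ (hM a ha) (hn a ha), hjv a a (hM a ha) (hM a ha),
      hjv a _ (hM a ha) (hn a ha)]
  obtain ⟨c, hc⟩ := hR.scalar X hall
  refine ⟨c, ?_⟩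
  rw [hc, Matrix.smul_mul, one_mul] at hXP
  have h1 : blocks M 0 0 M = c • blocks (1 : M4) 0 0 1 := by
    refine φ.P.isUnit.mul_left_cancel ?_
    rw [← hXP, blocks_one, Matrix.mul_smul, mul_one]
  rw [blocks, blocks, ← map_smul, Matrix.fromBlocks_smul] at h1
  exact (Matrix.fromBlocks_inj.1 ((Matrix.reindexAlgEquiv F F eW).injective h1)).1

theorem diag_isMinus : Cfsg.Geo.IsOfMinusType 2 φ.diag := by
  classical
  intro A hA hA2
  by_contra hlt
  have hfin := hR.finiteR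
  have hc := hA.is_comm.comm
  have hneq : ∀ a : GL4, a ≠ -a := fun a => PrimeOrderElt.unit_ne_neg hR.two a
  obtain ⟨S, hS⟩ : ∃ S : Set R,
      S = {x : R | ∃ a ∈ A, ∃ i : Bool, (x : GL8) = φ.j (((a : φ.diag) : GL4), bif i then -((a : φ.diag) : GL4) else ((a : φ.diag) : GL4))} :=
    ⟨_, rfl⟩
  have hab : ∀ a ∈ A, ∀ b ∈ A, ((a : φ.diag) : GL4) * (b : φ.diag) = (b : φ.diag) * (a : φ.diag) :=
    fun a ha b hb => congrArg (fun z : A => ((z : φ.diag) : GL4)) (hc ⟨a, ha⟩ ⟨b, hb⟩)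
  have haa : ∀ a ∈ A, ((a : φ.diag) : GL4) * (a : φ.diag) = 1 := fun a ha =>
    congrArg Subtype.val (hA2 a ha)
  have hlt' : S.ncard < 16 := by
    refine hR.minus_bound S ?_ ?_ ?_ ?_
    · rw [hS]; exact ⟨1, A.one_mem, false, φ.j_one.symm⟩
    · rw [hS]
      rintro x ⟨a, ha, i, hx⟩ y ⟨b, hb, k, hy⟩
      refine ⟨a * b, A.mul_mem ha hb, xor i k, ?_⟩
      rw [Subgroup.coe_mul, hx, hy, j_mul]
      cases i <;> cases k <;> simp
    · rw [hS]
      rintro x ⟨a, ha, i, hx⟩ y ⟨b, hb, k, hy⟩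
      rw [hx, hy, j_mul, j_mul, hab a ha b hb]
      cases i <;> cases k <;> simp [hab a ha b hb]
    · rw [hS]
      rintro x ⟨a, ha, i, hx⟩
      rw [hx, j_mul, haa a ha, ← j_one φ]
      cases i <;> simp [haa a ha]
  have hrj : φ.j ((1 : GL4), (-1 : GL4)) ∈ R := φ.r_val ▸ hr
  let ψ : A × Bool → S := fun z =>
    ⟨⟨φ.j (((z.1 : φ.diag) : GL4), bif z.2 then -((z.1 : φ.diag) : GL4) else ((z.1 : φ.diag) : GL4)), by
      cases z.2
      · exact (z.1 : φ.diag).2
      · have := R.mul_mem (z.1 : φ.diag).2 hrj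
        rw [dbl_apply, j_mul] at this
        simpa using this⟩, by rw [hS]; exact ⟨z.1, z.1.2, z.2, rfl⟩⟩
  have hinj : Function.Injective ψ := by
    rintro ⟨a, i⟩ ⟨b, k⟩ h
    obtain ⟨e1, e2⟩ := φ.j_inj (congrArg (fun z : S => ((z : R) : GL8)) h)
    obtain rfl : a = b := Subtype.ext (Subtype.ext e1)
    cases i <;> cases k <;> simp at e2 ⊢
    exacts [hneq _ e2, hneq _ e2.symm]
  have := Nat.card_le_card_of_injective ψ hinj
  rw [Nat.card_prod, Nat.card_eq_fintype_card (α := Bool), Fintype.card_bool, Nat.card_coe_set_eq] at this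
  norm_num at hlt
  omega

theorem diag_minus : PrimeOrderElt.MinusFour φ.diag := by
  have hneq : ∀ a : GL4, a ≠ -a := fun a => PrimeOrderElt.unit_ne_neg hR.two a
  refine ⟨⟨by simp, ?_, hR.two, ?_, fun g hg h hh => ?_, fun M hM => φ.diag_scalar hR hr hM⟩,
    φ.diag_le hR hr, φ.card_diag hR hr, φ.diag_neg_mem hR hr, fun g hg => φ.diag_sq hR hr hg,
    fun g hg h hh => φ.diag_comm hR hr hg hh, fun g hg h => φ.diag_central hR hr hg h,
    φ.diag_isMinus hR hr⟩
  · have h2 : Nat.card (Subgroup.center φ.diag) = 2 := by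
      refine Nat.card_eq_two_iff.2 ⟨⟨1, one_mem _⟩, ⟨⟨-1, φ.diag_neg_mem hR hr⟩, ?_⟩, fun h => ?_, ?_⟩
      · exact Subgroup.mem_center_iff.2 fun u => Subtype.ext (by simp)
      · exact hneq 1 (congrArg (fun z : Subgroup.center φ.diag => ((z : φ.diag) : GL4)) h)
      · refine Set.eq_univ_of_forall fun z => ?_
        rcases φ.diag_central hR hr (z : φ.diag).2 fun b hb =>
          (congrArg Subtype.val (Subgroup.mem_center_iff.1 z.2 ⟨b, hb⟩)).symm with h | h
        · exact Or.inl (Subtype.ext (Subtype.ext h))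
        · exact Or.inr (Subtype.ext (Subtype.ext h))
    have h := Subgroup.card_eq_card_quotient_mul_card_subgroup (Subgroup.center φ.diag)
    rw [h2, φ.card_diag hR hr] at h
    omega
  · intro g c hg hc
    rcases φ.diag_central hR hr hg fun b _ => Units.ext (by
      rw [Units.val_mul, Units.val_mul, hc, Matrix.smul_mul, Matrix.mul_smul, one_mul, mul_one]) with
      rfl | rfl
    · have := congr_fun (congr_fun hc (Sum.inl 0)) (Sum.inl 0)
      simp at this; rw [← this, one_pow]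
    · have := congr_fun (congr_fun hc (Sum.inl 0)) (Sum.inl 0)
      simp at this; rw [← this]; ring
  · exact (φ.diag_comm hR hr hg hh).imp id fun e => by
      rw [← Units.val_mul, e, Units.val_neg, Units.val_mul]

end Frame

end Cfsg.Agent.C6Minus
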