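import Cfsg.Agent.Lib.C6Minus.Frame
import Mathlib.GroupTheory.SpecificGroups.Alternating
/-!
# Two small facts

* `spGL_normal_top` : a normal subgroup of `Sp_{2m}(q)` with a noncentral member is everything
* `alternating_five_le` : in `S₅`, a nontrivial subgroup normalised by `A₅` contains `A₅`
-/

set_option autoImplicit false

namespace Cfsg.Agent.C6Minus

open Cfsg.Agent.Linear

theorem spGL_normal_top {F : Type*} [Field F] {m : ℕ} (hm : 2 ≤ m) (h2 : (2 : F) ≠ 0)
    (K : Subgroup (Cfsg.spGL m F)) [K.Normal] {x : Cfsg.spGL m F} (hx : x ∈ K)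
    (hxc : x ∉ Subgroup.center (Cfsg.spGL m F)) : K = ⊤ := by
  have hperf : (∃ a : F, a ≠ 0 ∧ a ^ 2 ≠ 1) ∨ (2 ≤ m ∧ (2 : F) ≠ 0) ∨ 3 ≤ m := Or.inr (Or.inl ⟨hm, h2⟩)
  have := isPreprimitive_spGL (m := m) (F := F)
  have : Nontrivial (Projectivization F (Fin m ⊕ Fin m → F)) :=
    ⟨⟨Projectivization.mk F (Pi.single (.inl ⟨0, by omega⟩) 1) (by simp),
      Projectivization.mk F (Pi.single (.inr ⟨0, by omega⟩) 1) (by simp), fun e => by
        obtain ⟨a, ha⟩ := (Projectivization.mk_eq_mk_iff' F _ _ _ _).1 e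
        simpa using congrFun ha (.inl ⟨0, by omega⟩)⟩⟩
  have hs := isSimpleGroup_quotient_center_of_iwasawa (commutator_spGL_eq_top hperf)
    (spIwasawa (m := m) (F := F)) mem_center_of_fix_points
  set π := QuotientGroup.mk' (Subgroup.center (Cfsg.spGL m F))
  rcases Subgroup.Normal.eq_bot_or_eq_top
    (Subgroup.Normal.map ‹K.Normal› π (QuotientGroup.mk'_surjective _)) with h | h
  · refine absurd ?_ hxc
    have := Subgroup.mem_map_of_mem π hx
    rwa [h, Subgroup.mem_bot, QuotientGroup.mk'_apply, QuotientGroup.eq_one_iff] at this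
  · have hsup : K ⊔ Subgroup.center (Cfsg.spGL m F) = ⊤ := by
      have := congrArg (Subgroup.comap π) h
      rwa [Subgroup.comap_map_eq, QuotientGroup.ker_mk', Subgroup.comap_top] at this
    refine top_unique ?_
    rw [← commutator_spGL_eq_top hperf, commutator_def, Subgroup.commutator_le]
    intro g _ h _
    rw [← QuotientGroup.eq_one_iff]
    have hq : ∀ x : Cfsg.spGL m F, (x : Cfsg.spGL m F ⧸ K) ∈ Subgroup.center _ := fun x => by
      obtain ⟨k, hk, z, hz, rfl⟩ : ∃ k ∈ K, ∃ z ∈ Subgroup.center (Cfsg.spGL m F), k * z = x := by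
        have hx : x ∈ K ⊔ Subgroup.center (Cfsg.spGL m F) := by rw [hsup]; trivial
        rwa [← SetLike.mem_coe, Subgroup.normal_mul, Set.mem_mul] at hx
      rw [QuotientGroup.mk_mul, (QuotientGroup.eq_one_iff k).2 hk, one_mul, Subgroup.mem_center_iff]
      intro w
      obtain ⟨w, rfl⟩ := QuotientGroup.mk_surjective w
      rw [← QuotientGroup.mk_mul, ← QuotientGroup.mk_mul, Subgroup.mem_center_iff.1 hz w]
    rw [commutatorElement_def, QuotientGroup.mk_mul, QuotientGroup.mk_mul, QuotientGroup.mk_mul,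
      QuotientGroup.mk_inv, QuotientGroup.mk_inv, ← Subgroup.mem_center_iff.1 (hq g) _]
    group

open Equiv

theorem alternating_le_of_swap_mul_swap {α : Type*} [Fintype α] [DecidableEq α]
    (S : Subgroup (Perm α)) (h : ∀ a b c d : α, a ≠ b → c ≠ d → swap a b * swap c d ∈ S) :
    alternatingGroup α ≤ S := by
  intro σ hσ
  obtain ⟨l, rfl, hl⟩ := (Perm.truncSwapFactors σ).out
  obtain ⟨n, hn⟩ := (Perm.prod_list_swap_mem_alternatingGroup_iff_even_length hl).1 hσ
  clear hσ
  induction n generalizing l with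
  | zero => simp [List.length_eq_zero_iff.1 hn]
  | succ n ih =>
    match l, hn, hl with
    | a :: b :: l, hn, hl =>
      obtain ⟨p, p', hp, rfl⟩ := hl a List.mem_cons_self
      obtain ⟨r, r', hr, rfl⟩ := hl b (List.mem_cons_of_mem _ List.mem_cons_self)
      rw [List.prod_cons, List.prod_cons, ← mul_assoc]
      simp only [List.length_cons] at hn
      refine S.mul_mem (h p p' r r' hp hr) ?_
      apply ih l
      all_goals first
        | omega
        | (intro g hg; exact hl g (by simp [hg]))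
    | [_], hn, _ => simp at hn; omega
    | [], hn, _ => simp at hn

theorem alternating_five_le (S : Subgroup (Perm (Fin 5)))
    (hn : ∀ σ ∈ alternatingGroup (Fin 5), ∀ π ∈ S, σ * π * σ⁻¹ ∈ S) {π : Perm (Fin 5)} (hπ : π ∈ S)
    (hπ1 : π ≠ 1) : alternatingGroup (Fin 5) ≤ S := by
  classical
  have hsimp : IsSimpleGroup (alternatingGroup (Fin 5)) := alternatingGroup.isSimpleGroup (α := Fin 5) (by simp)
  obtain ⟨σ, hσ, hne⟩ : ∃ σ ∈ alternatingGroup (Fin 5), σ * π * σ⁻¹ ≠ π := by
    by_contra hno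
    push Not at hno
    obtain ⟨a, ha⟩ : ∃ a, π a ≠ a := by
      by_contra h; push Not at h; exact hπ1 (Equiv.ext h)
    obtain ⟨c, hc1, hc2⟩ : ∃ c, c ≠ a ∧ c ≠ π a := by
      have key : ∀ a b : Fin 5, ∃ c, c ≠ a ∧ c ≠ b := by decide
      exact key a (π a)
    obtain ⟨d, hd1, hd2, hd3⟩ : ∃ d, d ≠ a ∧ d ≠ π a ∧ d ≠ c := by
      have key : ∀ a b c : Fin 5, ∃ d, d ≠ a ∧ d ≠ b ∧ d ≠ c := by decide
      exact key a (π a) c
    -- a three-cycle fixing `a` and moving `π a`
    have h1 := hno (swap (π a) c * swap c d)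
      (by rw [Perm.mem_alternatingGroup, map_mul, Perm.sign_swap (Ne.symm hc2), Perm.sign_swap hd3.symm]; rfl)
    have h2 := congrArg (fun p : Perm (Fin 5) => p a) (mul_inv_eq_iff_eq_mul.1 h1)
    simp only [Perm.mul_apply] at h2
    rw [swap_apply_of_ne_of_ne (a := c) (b := d) hc1.symm hd1.symm,
      swap_apply_of_ne_of_ne (a := π a) (b := c) (x := a) (Ne.symm ha) hc1.symm,
      swap_apply_of_ne_of_ne (a := c) (b := d) (x := π a) hc2.symm hd2.symm, swap_apply_left] at h2
    exact hc2 h2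
  have hN : (S.subgroupOf (alternatingGroup (Fin 5))).Normal := by
    refine ⟨fun x hx g => ?_⟩
    rw [Subgroup.mem_subgroupOf] at hx ⊢
    simpa using hn g g.2 x hx
  have hmem : σ * π * σ⁻¹ * π⁻¹ ∈ S := S.mul_mem (hn σ hσ π hπ) (S.inv_mem hπ)
  have heven : σ * π * σ⁻¹ * π⁻¹ ∈ alternatingGroup (Fin 5) := by
    rw [Perm.mem_alternatingGroup] at hσ ⊢
    simp [map_mul, Perm.sign_inv, hσ]
  rcases hN.eq_bot_or_eq_top with h | h
  · have h' : (⟨_, heven⟩ : alternatingGroup (Fin 5)) ∈ S.subgroupOf (alternatingGroup (Fin 5)) := hmem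
    rw [h, Subgroup.mem_bot] at h'
    exact absurd (mul_inv_eq_one.1 (congrArg Subtype.val h')) hne
  · exact Subgroup.subgroupOf_eq_top.1 h

end Cfsg.Agent.C6Minus
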