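import Cfsg.Agent.Lib.C6Minus.Diagonal
import Cfsg.Agent.Lib.C6Minus.Normal
/-!
# The five classes of involutions of `2^{1+4}` of minus type

* `Five`            : five anticommuting involutions generating the group
* `Five.classify`   : every noncentral involution is `± w k`
* `Five.Ind`        : the permutation induced on them
* `Five.step`       : the effect of a transvection `1 + w i * w l`
-/

set_option autoImplicit false
set_option linter.unusedSectionVars false

namespace Cfsg.Agent.C6Minus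

open Equiv

variable {F : Type*} [Field F]

local notation "GL4" => GL (Fin 2 ⊕ Fin 2) F

/-- Five anticommuting involutions generating `P`. -/
structure Five (P : Subgroup (GL (Fin 2 ⊕ Fin 2) F)) where
  minus : PrimeOrderElt.MinusFour P
  w : Fin 5 → GL (Fin 2 ⊕ Fin 2) F
  mem : ∀ k, w k ∈ P
  sq : ∀ k, w k * w k = 1
  anti : ∀ k l, k ≠ l → w k * w l = -(w l * w k)
  gen : P ≤ Subgroup.closure (Set.range w)

theorem exists_five [Fintype F] {P : Subgroup GL4} (hP : PrimeOrderElt.MinusFour P) : Nonempty (Five P) := by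
  obtain ⟨w, hw, ha, hg⟩ := Orth.SpKlein.exists_five_invol hP
  exact ⟨⟨hP, w, fun k => (hw k).1, fun k => (hw k).2, ha, hg⟩⟩

namespace Five

variable {P : Subgroup (GL (Fin 2 ⊕ Fin 2) F)} (W : Five P)

theorem ne_neg (W : Five P) (g : GL4) : g ≠ -g := W.minus.ne_neg g

theorem w_ne {k l : Fin 5} (h : k ≠ l) : W.w k ≠ W.w l ∧ W.w k ≠ -W.w l := by
  have ha := W.anti k l h
  constructor <;> intro e <;> rw [e] at ha
  · rw [W.sq] at ha; exact W.ne_neg _ ha
  · rw [neg_mul, mul_neg, W.sq, neg_neg] at ha; exact W.ne_neg _ ha.symm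

theorem w_unique {k l : Fin 5} {x : GL4} (hk : x = W.w k ∨ x = -W.w k)
    (hl : x = W.w l ∨ x = -W.w l) : k = l := by
  by_contra h
  obtain ⟨h1, h2⟩ := W.w_ne h
  rcases hk with rfl | rfl <;> rcases hl with e | e
  exacts [h1 e, h2 e, h2 (by rw [← e, neg_neg]), h1 (neg_injective e)]

theorem no_three {x w : GL4} (hx : x ∈ P) (hw : w ∈ P) (hxx : x * x = 1) (hww : w * w = 1)
    (hxw : x * w = w * x) (W : Five P) (n1 : x ≠ 1) (n2 : x ≠ -1) (n3 : w ≠ 1) (n4 : w ≠ -1)
    (n5 : x ≠ w) (n6 : x ≠ -w) : False := by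
  classical
  let val : Bool × Bool × Bool → GL4 := fun z =>
    (bif z.1 then -1 else 1) * ((bif z.2.1 then x else 1) * (bif z.2.2 then w else 1))
  have hval : ∀ z, val z ∈ P := fun z => by
    refine P.mul_mem ?_ (P.mul_mem ?_ ?_)
    · cases z.1
      exacts [P.one_mem, W.minus.neg_mem]
    · cases z.2.1
      exacts [P.one_mem, hx]
    · cases z.2.2
      exacts [P.one_mem, hw]
  have hxw' : w * x = x * w := hxw.symm
  have hxx' : ∀ y, x * (x * y) = y := fun y => by rw [← mul_assoc, hxx, one_mul]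
  have hww' : ∀ y, w * (w * y) = y := fun y => by rw [← mul_assoc, hww, one_mul]
  have hwx : ∀ y, w * (x * y) = x * (w * y) := fun y => by rw [← mul_assoc, hxw', mul_assoc]
  have hmul : ∀ z z', val z * val z' =
      val (xor z.1 z'.1, xor z.2.1 z'.2.1, xor z.2.2 z'.2.2) := by
    rintro ⟨a, b, c⟩ ⟨a', b', c'⟩
    cases a <;> cases b <;> cases c <;> cases a' <;> cases b' <;> cases c' <;>
      simp [val, mul_assoc, hxx, hww, hxw', hxx', hwx]
  let S : Subgroup P :=
    { carrier := {p | ∃ z, (p : GL4) = val z}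
      one_mem' := ⟨(false, false, false), by simp [val]⟩
      mul_mem' := by
        rintro p p' ⟨z, hz⟩ ⟨z', hz'⟩
        exact ⟨_, by rw [Subgroup.coe_mul, hz, hz', hmul]⟩
      inv_mem' := by
        rintro p ⟨z, hz⟩
        refine ⟨z, ?_⟩
        rw [Subgroup.coe_inv, hz, inv_eq_of_mul_eq_one_right]
        rw [hmul]
        simp [val] }
  have hcomm : ∀ p ∈ S, ∀ p' ∈ S, p * p' = p' * p := by
    rintro p ⟨z, hz⟩ p' ⟨z', hz'⟩
    exact Subtype.ext (by rw [Subgroup.coe_mul, Subgroup.coe_mul, hz, hz', hmul, hmul,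
      Bool.xor_comm z.1, Bool.xor_comm z.2.1, Bool.xor_comm z.2.2])
  have hlt := W.minus.minus S ⟨⟨fun p p' => Subtype.ext (hcomm p p.2 p' p'.2)⟩⟩ (by
    rintro p ⟨z, hz⟩
    exact Subtype.ext (by rw [Subgroup.coe_mul, hz, hmul]; simp [val]))
  let ψ : Bool × Bool × Bool → S := fun z => ⟨⟨val z, hval z⟩, z, rfl⟩
  have hinj : Function.Injective ψ := by
    intro z z' h
    have h' : val z = val z' := congrArg (fun p : S => ((p : P) : GL4)) h
    have h1 : val (xor z.1 z'.1, xor z.2.1 z'.2.1, xor z.2.2 z'.2.2) = 1 := by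
      rw [← hmul, h', hmul]; simp [val]
    obtain ⟨a, b, c⟩ := z
    obtain ⟨a', b', c'⟩ := z'
    have hneg : (-1 : GL4) ≠ 1 := (W.ne_neg 1).symm
    have n7 : x * w ≠ 1 := fun e => n5 (by
      calc x = x * (w * w) := by rw [hww, mul_one]
        _ = w := by rw [← mul_assoc, e, one_mul])
    have n8 : x * w ≠ -1 := fun e => n6 (by
      calc x = x * (w * w) := by rw [hww, mul_one]
        _ = -w := by rw [← mul_assoc, e, neg_one_mul])
    cases a <;> cases b <;> cases c <;> cases a' <;> cases b' <;> cases c' <;>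
      first
        | rfl
        | exfalso
          simp [val] at h1
          first
            | exact hneg h1 | exact n1 h1 | exact n3 h1 | exact n7 h1
            | exact n2 (neg_eq_iff_eq_neg.1 h1) | exact n4 (neg_eq_iff_eq_neg.1 h1)
            | exact n8 (neg_eq_iff_eq_neg.1 h1)
  have hfin : Finite P := Nat.finite_of_card_ne_zero (by rw [W.minus.card]; norm_num)
  have := Nat.card_le_card_of_injective ψ hinj
  rw [Nat.card_prod, Nat.card_prod, Nat.card_eq_fintype_card (α := Bool), Fintype.card_bool] at this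
  norm_num at hlt
  omega

theorem comm_all {x : GL4} (h : ∀ k, x * W.w k = W.w k * x) {y : GL4} (hy : y ∈ P) :
    x * y = y * x := by
  have : Subgroup.closure (Set.range W.w) ≤ Subgroup.centralizer {x} := by
    rw [Subgroup.closure_le]
    rintro _ ⟨k, rfl⟩
    exact Subgroup.mem_centralizer_iff.2 (by rintro z rfl; exact h k)
  exact Subgroup.mem_centralizer_iff.1 (this (W.gen hy)) x rfl

theorem classify {x : GL4} (hx : x ∈ P) (hxx : x * x = 1) (h1 : x ≠ 1) (h2 : x ≠ -1) :
    ∃ k, x = W.w k ∨ x = -W.w k := by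
  by_contra hno
  push Not at hno
  have hw1 : ∀ k, W.w k ≠ 1 ∧ W.w k ≠ -1 := fun k => by
    obtain ⟨l, hl⟩ := exists_ne k
    exact W.minus.not_central (W.anti k l hl.symm)
  have hanti : ∀ k, x * W.w k = -(W.w k * x) := fun k =>
    (W.minus.comm x hx _ (W.mem k)).resolve_left fun h =>
      no_three hx (W.mem k) hxx (W.sq k) h W h1 h2 (hw1 k).1 (hw1 k).2 (hno k).1 (hno k).2
  -- the product of all five is central
  obtain ⟨c, hc⟩ : ∃ c, c = W.w 0 * (W.w 1 * (W.w 2 * (W.w 3 * W.w 4))) := ⟨_, rfl⟩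
  have hpass : ∀ {y p q : GL4} {s : Bool}, y * p = -(p * y) →
      y * q = (bif s then -(q * y) else q * y) →
      y * (p * q) = bif !s then -(p * q * y) else p * q * y := by
    intro y p q s hp hq
    cases s <;> simp only [cond_false, cond_true, Bool.not_false, Bool.not_true] at hq ⊢
    · rw [← mul_assoc, hp, neg_mul, mul_assoc, hq, ← mul_assoc]
    · rw [← mul_assoc, hp, neg_mul, mul_assoc, hq, mul_neg, neg_neg, ← mul_assoc]
  have hccen : ∀ k, c * W.w k = W.w k * c := by
    intro k
    have hs : ∀ l, ∃ s : Bool, W.w k * W.w l = bif s then -(W.w l * W.w k) else W.w l * W.w k := fun l => by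
      by_cases h : k = l
      · exact ⟨false, by rw [h]; rfl⟩
      · exact ⟨true, W.anti k l h⟩
    have hkk : ∀ {p q : GL4} {s : Bool}, W.w k * p = p * W.w k →
        W.w k * q = (bif s then -(q * W.w k) else q * W.w k) →
        W.w k * (p * q) = bif s then -(p * q * W.w k) else p * q * W.w k := by
      intro p q s hp hq
      cases s <;> simp only [cond_false, cond_true] at hq ⊢
      · rw [← mul_assoc, hp, mul_assoc, hq, ← mul_assoc]
      · rw [← mul_assoc, hp, mul_assoc, hq, mul_neg, ← mul_assoc]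
    have e : ∀ l, l ≠ k → W.w k * W.w l = bif true then -(W.w l * W.w k) else W.w l * W.w k :=
      fun l h => W.anti k l h.symm
    have e0 : W.w k * W.w k = bif false then -(W.w k * W.w k) else W.w k * W.w k := rfl
    rw [hc]
    fin_cases k
    · exact (hkk rfl (hpass (e 1 (by decide)) (hpass (e 2 (by decide))
        (hpass (e 3 (by decide)) (e 4 (by decide)))))).symm
    · exact (hpass (e 0 (by decide)) (hkk rfl (hpass (e 2 (by decide))
        (hpass (e 3 (by decide)) (e 4 (by decide)))))).symm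
    · exact (hpass (e 0 (by decide)) (hpass (e 1 (by decide)) (hkk rfl
        (hpass (e 3 (by decide)) (e 4 (by decide)))))).symm
    · exact (hpass (e 0 (by decide)) (hpass (e 1 (by decide)) (hpass (e 2 (by decide))
        (hkk rfl (e 4 (by decide)))))).symm
    · exact (hpass (e 0 (by decide)) (hpass (e 1 (by decide)) (hpass (e 2 (by decide))
        (hpass (e 3 (by decide)) e0)))).symm
  have hcP : c ∈ P := hc ▸ P.mul_mem (W.mem 0) (P.mul_mem (W.mem 1) (P.mul_mem (W.mem 2)
    (P.mul_mem (W.mem 3) (W.mem 4))))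
  have hxc : x * c = -(c * x) := by
    have e : ∀ l, x * W.w l = bif true then -(W.w l * x) else W.w l * x := hanti
    rw [hc]
    exact hpass (hanti 0) (hpass (hanti 1) (hpass (hanti 2) (hpass (hanti 3) (e 4))))
  have h := W.minus.central c hcP fun y hy => W.comm_all hccen hy
  obtain ⟨h', h''⟩ := W.minus.not_central (show c * x = -(x * c) by rw [hxc, neg_neg])
  rcases h with h | h
  exacts [h' h, h'' h]

/-- `n` induces `π` on the five classes. -/
def Ind (n : GL4) (π : Perm (Fin 5)) : Prop :=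
  ∀ k, n * W.w k * n⁻¹ = W.w (π k) ∨ n * W.w k * n⁻¹ = -W.w (π k)

theorem ind_one : W.Ind 1 1 := fun k => Or.inl (by simp)

theorem ind_mul {n m : GL4} {π τ : Perm (Fin 5)} (hn : W.Ind n π) (hm : W.Ind m τ) :
    W.Ind (n * m) (π * τ) := fun k => by
  have e : n * m * W.w k * (n * m)⁻¹ = n * (m * W.w k * m⁻¹) * n⁻¹ := by group
  rw [e, Perm.mul_apply]
  rcases hm k with h | h <;> rw [h]
  · exact hn (τ k)
  · rw [mul_neg, neg_mul]
    rcases hn (τ k) with h' | h' <;> rw [h']
    · exact Or.inr rfl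
    · exact Or.inl (neg_neg _)

theorem ind_inv {n : GL4} {π : Perm (Fin 5)} (hn : W.Ind n π) : W.Ind n⁻¹ π⁻¹ := fun k => by
  have h := hn (π⁻¹ k)
  rw [Perm.coe_inv, Equiv.apply_symm_apply] at h
  rcases h with h | h
  · left; rw [← h, Perm.coe_inv]; group
  · right
    rw [show W.w k = -(n * W.w (π⁻¹ k) * n⁻¹) by rw [Perm.coe_inv, h, neg_neg]]
    simp [mul_assoc]

theorem exists_ind {n : GL4} (hn : n ∈ Cfsg.Geo.subgroupNormalizer P) : ∃ π, W.Ind n π := by
  have h : ∀ k, ∃ l, n * W.w k * n⁻¹ = W.w l ∨ n * W.w k * n⁻¹ = -W.w l := fun k => by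
    obtain ⟨l, hl⟩ := exists_ne k
    obtain ⟨h1, h2⟩ := W.minus.not_central (W.anti k l hl.symm)
    refine W.classify ((Subgroup.mem_normalizer_iff.mp hn _).mp (W.mem k)) ?_ ?_ ?_
    · rw [show n * W.w k * n⁻¹ * (n * W.w k * n⁻¹) = n * (W.w k * W.w k) * n⁻¹ by group, W.sq]; group
    · exact fun e => h1 (by rw [← inv_mul_cancel_left n (W.w k), ← inv_mul_cancel_right (n * (W.w k)) n⁻¹] ; simp_all [mul_inv_eq_one])
    · intro e
      apply h2
      have := congrArg (fun z => n⁻¹ * z * n) e
      simpa [mul_assoc] using this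
  choose f hf using h
  have hinj : Function.Injective f := fun k l e => by
    by_contra hne
    obtain ⟨h1, h2⟩ := W.w_ne hne
    rcases hf k with a | a <;> rcases hf l with b | b <;> rw [e] at a
    · exact h1 (mul_left_cancel (mul_right_cancel (a.trans b.symm)))
    · refine h2 (mul_left_cancel (a := n) (mul_right_cancel (b := n⁻¹) ?_))
      rw [mul_neg, neg_mul, b, neg_neg, a]
    · refine h2 (mul_left_cancel (a := n) (mul_right_cancel (b := n⁻¹) ?_))
      rw [mul_neg, neg_mul, b, a]
    · exact h1 (mul_left_cancel (mul_right_cancel (a.trans b.symm)))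
  exact ⟨Equiv.ofBijective f (Finite.injective_iff_bijective.1 hinj), hf⟩

/-- The effect of the transvection of `w i * w l`. -/
theorem step {i l : Fin 5} (h : i ≠ l) (m : Fin 5) :
    (W.w m * (W.w i * W.w l) = W.w i * W.w l * W.w m → swap i l m = m) ∧
    (W.w m * (W.w i * W.w l) = -(W.w i * W.w l * W.w m) →
      W.w i * W.w l * W.w m = W.w (swap i l m) ∨ W.w i * W.w l * W.w m = -W.w (swap i l m)) := by
  have e1 : W.w i * W.w l * W.w i = -W.w l := by
    rw [mul_assoc, W.anti l i h.symm, mul_neg, ← mul_assoc, W.sq, one_mul]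
  have e2 : W.w i * W.w l * W.w l = W.w i := by rw [mul_assoc, W.sq, mul_one]
  rcases eq_or_ne m i with rfl | hi
  · rw [swap_apply_left]
    refine ⟨fun e => ?_, fun _ => Or.inr e1⟩
    rw [← mul_assoc, W.sq, one_mul, e1] at e
    exact absurd e (W.ne_neg _)
  rcases eq_or_ne m l with rfl | hl
  · rw [swap_apply_right]
    refine ⟨fun e => ?_, fun _ => Or.inl e2⟩
    rw [e2, ← mul_assoc, W.anti m i h.symm, neg_mul, e2] at e
    exact absurd e.symm (W.ne_neg _)
  rw [swap_apply_of_ne_of_ne hi hl]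
  refine ⟨fun _ => rfl, fun e => absurd ?_ (W.ne_neg (W.w i * W.w l * W.w m))⟩
  rw [← mul_assoc, W.anti m i hi, neg_mul, mul_assoc, W.anti m l hl, mul_neg, neg_neg, ← mul_assoc] at e
  exact e

end Five

end Cfsg.Agent.C6Minus
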