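import Cfsg.Agent.Lib.C6Minus.Basic
import Cfsg.Agent.Lib.Linear.Symplectic
/-!
# The frame of a noncentral involution of `R`

* `Frame`         : coordinates with `r = diag(1, -1)` and a member `v` of `R` swapping the two halves
* `exists_frame`
-/

set_option autoImplicit false
set_option linter.unusedSectionVars false

namespace Cfsg.Agent.C6Minus

open Module Matrix

variable {F : Type*} [Field F]

local notation "GL8" => GL (Fin 4 ⊕ Fin 4) F
local notation "GL4" => GL (Fin 2 ⊕ Fin 2) F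
local notation "M8" => Matrix (Fin 4 ⊕ Fin 4) (Fin 4 ⊕ Fin 4) F
local notation "M4" => Matrix (Fin 2 ⊕ Fin 2) (Fin 2 ⊕ Fin 2) F
local notation "M44" => Matrix ((Fin 2 ⊕ Fin 2) ⊕ (Fin 2 ⊕ Fin 2)) ((Fin 2 ⊕ Fin 2) ⊕ (Fin 2 ⊕ Fin 2)) F
local notation "V4" => Fin 2 ⊕ Fin 2 → F
local notation "V8" => Fin 4 ⊕ Fin 4 → F
local notation "f8" => Cfsg.sympForm 4 F
local notation "f4" => Cfsg.sympForm 2 F

/-- The splitting of the index set. -/
def eW : (Fin 2 ⊕ Fin 2) ⊕ (Fin 2 ⊕ Fin 2) ≃ Fin 4 ⊕ Fin 4 :=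
  (Equiv.sumSumSumComm (Fin 2) (Fin 2) (Fin 2) (Fin 2)).trans
    (Equiv.sumCongr finSumFinEquiv finSumFinEquiv)

/-- A pair of vectors as one vector. -/
def comb (a b : V4) : V8 := Sum.elim a b ∘ eW.symm

/-- The linear splitting. -/
def splitL : (V4 × V4) ≃ₗ[F] V8 where
  toFun z := comb z.1 z.2
  invFun x := (x ∘ eW ∘ Sum.inl, x ∘ eW ∘ Sum.inr)
  map_add' z w := funext fun i => by
    simp only [comb, Function.comp, Pi.add_apply]
    rcases eW.symm i with k | k <;> rfl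
  map_smul' c z := funext fun i => by
    simp only [comb, Function.comp, Pi.smul_apply, RingHom.id_apply]
    rcases eW.symm i with k | k <;> rfl
  left_inv z := by
    refine Prod.ext (funext fun k => ?_) (funext fun k => ?_) <;> simp [comb, Function.comp]
  right_inv x := funext fun i => by
    simp only [comb, Function.comp]
    conv_rhs => rw [← eW.apply_symm_apply i]
    rcases eW.symm i with k | k <;> rfl

theorem form_comb (a b a' b' : V4) : f8 (comb a b) (comb a' b') = f4 a a' + f4 b b' := by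
  simp only [Linear.sympForm_eq_sum, Fin.sum_univ_four, Fin.sum_univ_two, comb, Function.comp]
  have h : ∀ i, eW.symm (Sum.inl i : Fin 4 ⊕ Fin 4) =
      Sum.map Sum.inl Sum.inl (finSumFinEquiv.symm i : Fin 2 ⊕ Fin 2) ∧
      eW.symm (Sum.inr i : Fin 4 ⊕ Fin 4) =
      Sum.map Sum.inr Sum.inr (finSumFinEquiv.symm i : Fin 2 ⊕ Fin 2) := by decide
  simp only [fun i => (h i).1, fun i => (h i).2]
  rw [show (finSumFinEquiv.symm (0 : Fin 4) : Fin 2 ⊕ Fin 2) = Sum.inl 0 by decide,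
    show (finSumFinEquiv.symm (1 : Fin 4) : Fin 2 ⊕ Fin 2) = Sum.inl 1 by decide,
    show (finSumFinEquiv.symm (2 : Fin 4) : Fin 2 ⊕ Fin 2) = Sum.inr 0 by decide,
    show (finSumFinEquiv.symm (3 : Fin 4) : Fin 2 ⊕ Fin 2) = Sum.inr 1 by decide]
  simp only [Sum.map_inl, Sum.map_inr, Sum.elim_inl, Sum.elim_inr]
  ring

/-- Block matrices in the coordinates `Fin 4 ⊕ Fin 4`. -/
noncomputable def blocks (A B C D : M4) : M8 :=
  Matrix.reindexAlgEquiv F F eW (Matrix.fromBlocks A B C D)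

theorem blocks_mul (A B C D A' B' C' D' : M4) : blocks A B C D * blocks A' B' C' D' =
    blocks (A * A' + B * C') (A * B' + B * D') (C * A' + D * C') (C * B' + D * D') := by
  rw [blocks, blocks, ← map_mul, Matrix.fromBlocks_multiply]; rfl

theorem blocks_one : blocks (1 : M4) 0 0 1 = 1 := by
  rw [blocks, Matrix.fromBlocks_one, map_one]

theorem blocks_inj {A B C D A' B' C' D' : M4} (h : blocks A B C D = blocks A' B' C' D') :
    A = A' ∧ B = B' ∧ C = C' ∧ D = D' :=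
  Matrix.fromBlocks_inj.1 ((Matrix.reindexAlgEquiv F F eW).injective h)

theorem blocks_surj (M : M8) : ∃ A B C D, M = blocks A B C D :=
  ⟨_, _, _, _, by rw [blocks, Matrix.fromBlocks_toBlocks, AlgEquiv.apply_symm_apply]⟩

theorem blocks_mulVec (A B C D : M4) (a b : V4) :
    blocks A B C D *ᵥ comb a b = comb (A *ᵥ a + B *ᵥ b) (C *ᵥ a + D *ᵥ b) := by
  funext i
  have h : ∀ (M : M44) (x : (Fin 2 ⊕ Fin 2) ⊕ (Fin 2 ⊕ Fin 2) → F),
      (Matrix.reindexAlgEquiv F F eW M *ᵥ (x ∘ eW.symm)) i = (M *ᵥ x) (eW.symm i) := fun M x => by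
    simp [Matrix.mulVec, dotProduct, Equiv.sum_comp eW.symm (fun j => M (eW.symm i) j * x j)]
  rw [blocks, comb, h, Matrix.fromBlocks_mulVec, comb]
  simp [Function.comp]

/-- The diagonal embedding, before the change of coordinates. -/
noncomputable def blkHom : M4 × M4 →* M8 where
  toFun z := blocks z.1 0 0 z.2
  map_one' := blocks_one
  map_mul' z w := by simp [blocks_mul]

/-- The diagonal embedding on units. -/
noncomputable def blkGL : GL4 × GL4 →* GL8 :=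
  (Units.map blkHom).comp MulEquiv.prodUnits.symm.toMonoidHom

theorem blkGL_val (a b : GL4) : ((blkGL (a, b) : GL8) : M8) = blocks (a : M4) 0 0 (b : M4) := rfl

/-- A frame of the involution `r`. -/
structure Frame (R : Subgroup (GL (Fin 4 ⊕ Fin 4) F)) (r : GL (Fin 4 ⊕ Fin 4) F) where
  P : GL (Fin 4 ⊕ Fin 4) F
  P_mem : P ∈ Cfsg.spGL 4 F
  v : GL (Fin 4 ⊕ Fin 4) F
  v_mem : v ∈ R
  v_sq : v * v = 1
  r_eq : (r : Matrix (Fin 4 ⊕ Fin 4) (Fin 4 ⊕ Fin 4) F) *
      (P : Matrix (Fin 4 ⊕ Fin 4) (Fin 4 ⊕ Fin 4) F) =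
    (P : Matrix (Fin 4 ⊕ Fin 4) (Fin 4 ⊕ Fin 4) F) * blocks 1 0 0 (-1)
  v_eq : (v : Matrix (Fin 4 ⊕ Fin 4) (Fin 4 ⊕ Fin 4) F) *
      (P : Matrix (Fin 4 ⊕ Fin 4) (Fin 4 ⊕ Fin 4) F) =
    (P : Matrix (Fin 4 ⊕ Fin 4) (Fin 4 ⊕ Fin 4) F) * blocks 0 1 1 0

theorem exists_anti_invol {R : Subgroup GL8} (hR : Minus8 R) {r : GL8} (hr : r ∈ R) (hrr : r * r = 1)
    (h1 : r ≠ 1) (h2 : r ≠ -1) : ∃ v ∈ R, v * v = 1 ∧ r * v = -(v * r) := by
  obtain ⟨x, hx, hrx⟩ := hR.exists_anti hr h1 h2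
  have hxr : x * r = -(r * x) := by rw [hrx, neg_neg]
  rcases hR.sq x hx with h | h
  · exact ⟨x, hx, h, hrx⟩
  · refine ⟨x * r, R.mul_mem hx hr, ?_, ?_⟩
    · calc x * r * (x * r) = x * (r * x) * r := by simp only [mul_assoc]
        _ = -(x * x * (r * r)) := by rw [hrx]; simp only [mul_neg, neg_mul, mul_assoc]
        _ = 1 := by rw [h, hrr, mul_one, neg_neg]
    · rw [← mul_assoc, hrx, neg_mul, mul_assoc]

theorem exists_frame {R : Subgroup GL8} (hR : Minus8 R) {r : GL8} (hr : r ∈ R) (hrr : r * r = 1)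
    (h1 : r ≠ 1) (h2 : r ≠ -1) : Nonempty (Frame R r) := by
  classical
  obtain ⟨v, hv, hvv, hrv⟩ := exists_anti_invol hR hr hrr h1 h2
  have hf := Transvect.sympForm_isSymplectic (F := F) 4
  have hf4 := Transvect.sympForm_isSymplectic (F := F) 2
  have hb := hf.bilinear
  have hri := Transvect.mem_spGL_iff.1 (hR.le hr)
  have hvi := Transvect.mem_spGL_iff.1 (hR.le hv)
  obtain ⟨ρ, hρ⟩ : ∃ ρ : V8 →ₗ[F] V8, ρ = (Transvect.app r).toLinearMap := ⟨_, rfl⟩
  obtain ⟨ν, hν⟩ : ∃ ν : V8 →ₗ[F] V8, ν = (Transvect.app v).toLinearMap := ⟨_, rfl⟩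
  have hρρ : ∀ x, ρ (ρ x) = x := fun x => by
    rw [hρ]; show Transvect.app r (Transvect.app r x) = x
    rw [← LinearEquiv.mul_apply, ← map_mul, hrr, map_one]; rfl
  have hνν : ∀ x, ν (ν x) = x := fun x => by
    rw [hν]; show Transvect.app v (Transvect.app v x) = x
    rw [← LinearEquiv.mul_apply, ← map_mul, hvv, map_one]; rfl
  have hρν : ∀ x, ρ (ν x) = -(ν (ρ x)) := fun x => by
    rw [hρ, hν]
    show Transvect.app r (Transvect.app v x) = -(Transvect.app v (Transvect.app r x))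
    rw [← LinearEquiv.mul_apply, ← map_mul, hrv, Transvect.app_apply, Units.val_neg, Matrix.neg_mulVec,
      ← Transvect.app_apply, map_mul, LinearEquiv.mul_apply]
  have hρi : ∀ x y, f8 (ρ x) (ρ y) = f8 x y := fun x y => by rw [hρ]; exact hri x y
  have hνi : ∀ x y, f8 (ν x) (ν y) = f8 x y := fun x y => by rw [hν]; exact hvi x y
  obtain ⟨U, hU⟩ : ∃ U : Submodule F V8, U = LinearMap.ker (ρ - LinearMap.id) := ⟨_, rfl⟩
  have hmem : ∀ {x}, x ∈ U ↔ ρ x = x := fun {x} => by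
    rw [hU, LinearMap.mem_ker, LinearMap.sub_apply, sub_eq_zero]; rfl
  obtain ⟨U', hU'⟩ : ∃ U' : Submodule F V8, U' = LinearMap.ker (ρ + LinearMap.id) := ⟨_, rfl⟩
  have hmem' : ∀ {x}, x ∈ U' ↔ ρ x = -x := fun {x} => by
    rw [hU', LinearMap.mem_ker, LinearMap.add_apply, add_eq_zero_iff_eq_neg]; rfl
  have hhalf : ∀ x, (2 : F)⁻¹ • (x + ρ x) ∈ U ∧ (2 : F)⁻¹ • (x - ρ x) ∈ U' := fun x => by
    refine ⟨hmem.2 ?_, hmem'.2 ?_⟩
    · rw [map_smul, map_add, hρρ, add_comm]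
    · rw [map_smul, map_sub, hρρ, ← smul_neg, neg_sub]
  have hdis : U ⊓ U' = ⊥ := by
    rw [Submodule.eq_bot_iff]
    rintro x ⟨hx, hx'⟩
    have e : x = -x := (hmem.1 hx).symm.trans (hmem'.1 hx')
    have : (2 : F) • x = 0 := by rw [two_smul]; nth_rewrite 2 [e]; exact add_neg_cancel x
    exact (smul_eq_zero.1 this).resolve_left hR.two
  have hsup : U ⊔ U' = ⊤ := by
    refine eq_top_iff.2 fun x _ => ?_
    have : (2 : F)⁻¹ • (x + ρ x) + (2 : F)⁻¹ • (x - ρ x) = x := by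
      rw [← smul_add, show x + ρ x + (x - ρ x) = (2 : F) • x by rw [two_smul]; abel, smul_smul,
        inv_mul_cancel₀ hR.two, one_smul]
    exact this ▸ Submodule.add_mem_sup (hhalf x).1 (hhalf x).2
  have hrank : finrank F U = 4 := by
    have h8 := Submodule.finrank_sup_add_finrank_inf_eq U U'
    rw [hsup, hdis, finrank_top, finrank_bot, Module.finrank_pi, Fintype.card_sum, Fintype.card_fin] at h8
    have e1 : U.map ν ≤ U' := by
      rintro _ ⟨x, hx, rfl⟩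
      rw [hmem', hρν, hmem.1 hx]
    have e2 : U'.map ν ≤ U := by
      rintro _ ⟨x, hx, rfl⟩
      rw [hmem, hρν, hmem'.1 hx, map_neg, neg_neg]
    have i1 : Function.Injective ν := Function.LeftInverse.injective hνν
    have := (Submodule.equivMapOfInjective ν i1 U).finrank_eq
    have := (Submodule.equivMapOfInjective ν i1 U').finrank_eq
    have := Submodule.finrank_mono e1
    have := Submodule.finrank_mono e2
    omega
  have hnd : Cfsg.Geo.IsNondegenerateOn f8 U := by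
    intro x hx hx0
    obtain ⟨⟨y, hy⟩, ⟨y', hy'⟩⟩ := hf.nondegenerate x hx0
    refine ⟨⟨_, (hhalf y).1, ?_⟩, ⟨_, (hhalf y').1, ?_⟩⟩
    · have e : f8 (ρ y) x = f8 y x := by conv_lhs => rw [← hmem.1 hx, hρi]
      rw [hb.smul_left, hb.add_left, e, ← two_mul, ← mul_assoc, inv_mul_cancel₀ hR.two, one_mul]
      exact hy
    · have e : f8 x (ρ y') = f8 x y' := by conv_lhs => rw [← hmem.1 hx, hρi]
      rw [hb.smul_right, hb.add_right, e, ← two_mul, ← mul_assoc, inv_mul_cancel₀ hR.two, one_mul]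
      exact hy'
  obtain ⟨W0, hW0⟩ : ∃ W0 : Submodule F V8,
      W0 = LinearMap.range ((splitL (F := F)).toLinearMap ∘ₗ LinearMap.inl F V4 V4) := ⟨_, rfl⟩
  have hW0rank : finrank F W0 = 4 := by
    rw [hW0, LinearMap.finrank_range_of_inj]
    · rw [Module.finrank_pi, Fintype.card_sum, Fintype.card_fin]
    · exact (splitL (F := F)).injective.comp LinearMap.inl_injective
  have hzero : f4 (0 : V4) (0 : V4) = 0 := hf4.alternating 0
  have hW0nd : Cfsg.Geo.IsNondegenerateOn f8 W0 := by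
    subst hW0
    rintro _ ⟨a, rfl⟩ hne
    have ha : a ≠ 0 := fun h => hne (by subst h; exact map_zero _)
    obtain ⟨⟨b, hb'⟩, ⟨c, hc⟩⟩ := hf4.nondegenerate a ha
    refine ⟨⟨_, ⟨b, rfl⟩, ?_⟩, ⟨_, ⟨c, rfl⟩, ?_⟩⟩
    · show f8 (comb b 0) (comb a 0) ≠ 0
      rw [form_comb, hzero, add_zero]; exact hb'
    · show f8 (comb a 0) (comb c 0) ≠ 0
      rw [form_comb, hzero, add_zero]; exact hc
  obtain ⟨φ, hφ, hφi⟩ := Transvect.exists_isometry hf 4 W0 U hW0rank hrank hW0nd hnd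
  obtain ⟨κ, hκ⟩ : ∃ κ : V4 →ₗ[F] V8,
      κ = φ ∘ₗ (splitL (F := F)).toLinearMap ∘ₗ LinearMap.inl F V4 V4 := ⟨_, rfl⟩
  have hmem0 : ∀ a, comb a (0 : V4) ∈ W0 := fun a => hW0 ▸ ⟨a, rfl⟩
  have hκU : ∀ a, κ a ∈ U := fun a => by rw [hκ]; exact hφ _ (hmem0 a)
  have hκi : ∀ a b, f8 (κ a) (κ b) = f4 a b := fun a b => by
    rw [hκ]
    show f8 (φ (comb a 0)) (φ (comb b 0)) = _
    rw [hφi _ (hmem0 a) _ (hmem0 b), form_comb, hzero, add_zero]
  obtain ⟨L, hL⟩ : ∃ L : V8 →ₗ[F] V8,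
      L = (κ ∘ₗ LinearMap.fst F V4 V4 + ν ∘ₗ κ ∘ₗ LinearMap.snd F V4 V4) ∘ₗ
        (splitL (F := F)).symm.toLinearMap := ⟨_, rfl⟩
  have hLc : ∀ a b, L (comb a b) = κ a + ν (κ b) := fun a b => by
    rw [hL]
    show κ ((splitL (F := F)).symm (splitL (a, b))).1 + ν (κ ((splitL (F := F)).symm (splitL (a, b))).2) = _
    rw [LinearEquiv.symm_apply_apply]
  have hsurj : ∀ x : V8, ∃ a b, x = comb a b := fun x =>
    ⟨_, _, ((splitL (F := F)).apply_symm_apply x).symm⟩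
  have hLi : ∀ x y, f8 (L x) (L y) = f8 x y := fun x y => by
    obtain ⟨a, b, rfl⟩ := hsurj x
    obtain ⟨a', b', rfl⟩ := hsurj y
    have c0 : ∀ p q, f8 (κ p) (ν (κ q)) = 0 ∧ f8 (ν (κ q)) (κ p) = 0 := fun p q => by
      have u := hmem.1 (hκU p)
      have w : ρ (ν (κ q)) = -(ν (κ q)) := by rw [hρν, hmem.1 (hκU q)]
      constructor
      · have e := hρi (κ p) (ν (κ q))
        rw [u, w, ← neg_one_smul F (ν (κ q)), hb.smul_right, neg_one_mul] at e
        exact (mul_eq_zero.1 (show 2 * f8 (κ p) (ν (κ q)) = 0 by linear_combination -e)).resolve_left hR.two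
      · have e := hρi (ν (κ q)) (κ p)
        rw [u, w, ← neg_one_smul F (ν (κ q)), hb.smul_left, neg_one_mul] at e
        exact (mul_eq_zero.1 (show 2 * f8 (ν (κ q)) (κ p) = 0 by linear_combination -e)).resolve_left hR.two
    rw [hLc, hLc, form_comb]
    simp only [hb.add_left, hb.add_right, (c0 _ _).1, (c0 _ _).2, hνi, hκi, add_zero, zero_add]
  have hinj : Function.Injective (fun x : V8 => (LinearMap.toMatrix' L) *ᵥ x) := by
    intro x y h
    simp only at h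
    rw [LinearMap.toMatrix'_mulVec, LinearMap.toMatrix'_mulVec] at h
    by_contra hne
    obtain ⟨⟨z, hz⟩, -⟩ := hf.nondegenerate (x - y) (sub_ne_zero.2 hne)
    apply hz
    have hsub : ∀ z, f8 z (x - y) = f8 z x - f8 z y := fun z => by
      rw [sub_eq_add_neg, ← neg_one_smul F y, hb.add_right, hb.smul_right]; ring
    rw [hsub, ← hLi z x, ← hLi z y, h, sub_self]
  obtain ⟨P, hP⟩ : ∃ P : GL8, (P : M8) = LinearMap.toMatrix' L :=
    ⟨(Matrix.mulVec_injective_iff_isUnit.1 hinj).unit, rfl⟩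
  have hPap : ∀ x, (P : M8) *ᵥ x = L x := fun x => by rw [hP, LinearMap.toMatrix'_mulVec]
  refine ⟨⟨P, ?_, v, hv, hvv, ?_, ?_⟩⟩
  · rw [Transvect.mem_spGL_iff]
    intro x y
    rw [Transvect.app_apply, Transvect.app_apply, hPap, hPap, hLi]
  · refine Matrix.ext_iff_mulVec.2 fun x => ?_
    obtain ⟨a, b, rfl⟩ := hsurj x
    rw [← Matrix.mulVec_mulVec, ← Matrix.mulVec_mulVec, blocks_mulVec, hPap, hPap, hLc, hLc]
    simp only [Matrix.one_mulVec, Matrix.zero_mulVec, Matrix.neg_mulVec, add_zero, zero_add,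
      ← Transvect.app_apply]
    show Transvect.app r _ = _
    rw [show Transvect.app r (κ a + ν (κ b)) = ρ (κ a + ν (κ b)) by rw [hρ]; rfl, map_add, hρν,
      hmem.1 (hκU a), hmem.1 (hκU b), map_neg, map_neg]
  · refine Matrix.ext_iff_mulVec.2 fun x => ?_
    obtain ⟨a, b, rfl⟩ := hsurj x
    rw [← Matrix.mulVec_mulVec, ← Matrix.mulVec_mulVec, blocks_mulVec, hPap, hPap, hLc, hLc]
    simp only [Matrix.one_mulVec, Matrix.zero_mulVec, add_zero, zero_add, ← Transvect.app_apply]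
    show Transvect.app v _ = _
    rw [show Transvect.app v (κ a + ν (κ b)) = ν (κ a + ν (κ b)) by rw [hν]; rfl, map_add, hνν,
      add_comm]

namespace Frame

variable {R : Subgroup (GL (Fin 4 ⊕ Fin 4) F)} {r : GL (Fin 4 ⊕ Fin 4) F} (φ : Frame R r)

/-- The embedding of two copies of `GL₄`. -/
noncomputable def j : GL4 × GL4 →* GL8 := (MulAut.conj φ.P).toMonoidHom.comp blkGL

theorem j_val (a b : GL4) : ((φ.j (a, b) : GL8) : M8) * (φ.P : M8) =
    (φ.P : M8) * blocks (a : M4) 0 0 (b : M4) := by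
  show (((φ.P * blkGL (a, b) * φ.P⁻¹ : GL8)) : M8) * (φ.P : M8) = _
  rw [← Units.val_mul, inv_mul_cancel_right, Units.val_mul, blkGL_val]

theorem j_inj {a b a' b' : GL4} (h : φ.j (a, b) = φ.j (a', b')) : a = a' ∧ b = b' := by
  have h1 : blkGL (a, b) = blkGL (a', b') := (MulAut.conj φ.P).injective h
  obtain ⟨ha, -, -, hb⟩ := blocks_inj (congrArg Units.val h1)
  exact ⟨Units.ext ha, Units.ext hb⟩

theorem j_neg (a b : GL4) : φ.j (-a, -b) = -φ.j (a, b) := by
  refine Units.ext ((Units.mul_left_inj φ.P).1 ?_)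
  rw [φ.j_val, Units.val_neg (φ.j (a, b)), Matrix.neg_mul, φ.j_val, ← Matrix.mul_neg, Units.val_neg, Units.val_neg]
  congr 1
  rw [blocks, blocks, ← map_neg, Matrix.fromBlocks_neg, neg_zero]

theorem r_val : r = φ.j (1, -1) := by
  refine Units.ext ((Units.mul_left_inj φ.P).1 ?_)
  rw [φ.r_eq, φ.j_val, Units.val_one, Units.val_neg, Units.val_one]

theorem v_swap (a b : GL4) : φ.v * φ.j (a, b) = φ.j (b, a) * φ.v := by
  refine Units.ext ((Units.mul_left_inj φ.P).1 ?_)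
  rw [Units.val_mul, Units.val_mul, mul_assoc, φ.j_val, ← mul_assoc, φ.v_eq, mul_assoc, blocks_mul,
    mul_assoc, φ.v_eq, ← mul_assoc, φ.j_val, mul_assoc, blocks_mul]
  simp

theorem j_mem {a b : GL4} (ha : a ∈ Cfsg.spGL 2 F) (hb : b ∈ Cfsg.spGL 2 F) :
    φ.j (a, b) ∈ Cfsg.spGL 4 F := by
  refine (Cfsg.spGL 4 F).mul_mem ((Cfsg.spGL 4 F).mul_mem φ.P_mem ?_) ((Cfsg.spGL 4 F).inv_mem φ.P_mem)
  rw [Transvect.mem_spGL_iff]
  intro x y
  obtain ⟨⟨x1, x2⟩, rfl⟩ := (splitL (F := F)).surjective x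
  obtain ⟨⟨y1, y2⟩, rfl⟩ := (splitL (F := F)).surjective y
  show f8 (Transvect.app _ (comb x1 x2)) (Transvect.app _ (comb y1 y2)) = f8 (comb x1 x2) (comb y1 y2)
  rw [Transvect.app_apply, Transvect.app_apply, blkGL_val, blocks_mulVec, blocks_mulVec, form_comb,
    form_comb]
  simp only [Matrix.zero_mulVec, add_zero, zero_add]
  have e1 := Transvect.mem_spGL_iff.1 ha x1 y1
  have e2 := Transvect.mem_spGL_iff.1 hb x2 y2
  rw [Transvect.app_apply, Transvect.app_apply] at e1 e2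
  rw [e1, e2]

/-- The centraliser of `r`. -/
theorem exists_j (h2 : (2 : F) ≠ 0) {g : GL8} (hg : g * r = r * g) :
    ∃ a b, g = φ.j (a, b) := by
  have key : ∀ g : GL8, g * r = r * g → ∃ A D : M4, (g : M8) * (φ.P : M8) = (φ.P : M8) * blocks A 0 0 D := by
    intro g hg
    obtain ⟨A, B, C, D, hM⟩ := blocks_surj (((φ.P⁻¹ * g * φ.P : GL8)) : M8)
    have hgP : (g : M8) * (φ.P : M8) = (φ.P : M8) * blocks A B C D := by
      rw [← hM, ← Units.val_mul, ← Units.val_mul]; congr 1; group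
    have h1 : (r : M8) * (g : M8) * (φ.P : M8) = (φ.P : M8) * (blocks 1 0 0 (-1) * blocks A B C D) := by
      rw [mul_assoc, hgP, ← mul_assoc, φ.r_eq, mul_assoc]
    have h1' : (g : M8) * (r : M8) * (φ.P : M8) = (φ.P : M8) * (blocks A B C D * blocks 1 0 0 (-1)) := by
      rw [mul_assoc, φ.r_eq, ← mul_assoc, hgP, mul_assoc]
    have h3 : blocks A B C D * blocks 1 0 0 (-1) = blocks 1 0 0 (-1) * blocks A B C D := by
      refine φ.P.isUnit.mul_left_cancel ?_
      rw [← h1, ← h1', ← Units.val_mul g r, hg, Units.val_mul]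
    rw [blocks_mul, blocks_mul] at h3
    obtain ⟨-, hB, hC, -⟩ := blocks_inj h3
    simp only [mul_zero, mul_one, zero_mul, one_mul, zero_add, add_zero, mul_neg, neg_mul] at hB hC
    have hz : ∀ {X : M4}, X = -X → X = 0 := fun {X} h => by
      have : (2 : F) • X = 0 := by rw [two_smul]; nth_rewrite 2 [h]; exact add_neg_cancel X
      exact (smul_eq_zero.1 this).resolve_left h2
    rw [hz hB.symm, hz hC] at hgP
    exact ⟨A, D, hgP⟩
  obtain ⟨A, D, hA⟩ := key g hg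
  obtain ⟨A', D', hA'⟩ := key g⁻¹ (by
    calc g⁻¹ * r = g⁻¹ * (r * g) * g⁻¹ := by group
      _ = r * g⁻¹ := by rw [← hg]; group)
  have e1 : blocks A 0 0 D * blocks A' 0 0 D' = 1 := by
    refine φ.P.isUnit.mul_left_cancel ?_
    rw [← mul_assoc, ← hA, mul_assoc, ← hA', ← mul_assoc, ← Units.val_mul g g⁻¹, mul_inv_cancel,
      Units.val_one, one_mul, mul_one]
  have e2 : blocks A' 0 0 D' * blocks A 0 0 D = 1 := by
    refine φ.P.isUnit.mul_left_cancel ?_
    rw [← mul_assoc, ← hA', mul_assoc, ← hA, ← mul_assoc, ← Units.val_mul g⁻¹ g, inv_mul_cancel,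
      Units.val_one, one_mul, mul_one]
  rw [blocks_mul, ← blocks_one] at e1 e2
  obtain ⟨a1, -, -, d1⟩ := blocks_inj e1
  obtain ⟨a2, -, -, d2⟩ := blocks_inj e2
  simp only [mul_zero, add_zero, zero_add] at a1 a2 d1 d2
  refine ⟨⟨A, A', a1, a2⟩, ⟨D, D', d1, d2⟩, Units.ext ((Units.mul_left_inj φ.P).1 ?_)⟩
  rw [hA, φ.j_val]

theorem sp_of_j {a b : GL4} (h : φ.j (a, b) ∈ Cfsg.spGL 4 F) :
    a ∈ Cfsg.spGL 2 F ∧ b ∈ Cfsg.spGL 2 F := by
  have h' : blkGL (a, b) ∈ Cfsg.spGL 4 F := by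
    have := (Cfsg.spGL 4 F).mul_mem ((Cfsg.spGL 4 F).mul_mem ((Cfsg.spGL 4 F).inv_mem φ.P_mem) h) φ.P_mem
    convert this using 1
    show _ = φ.P⁻¹ * (φ.P * blkGL (a, b) * φ.P⁻¹) * φ.P
    group
  have hi := Transvect.mem_spGL_iff.1 h'
  have hz : f4 (0 : V4) (0 : V4) = 0 := (Transvect.sympForm_isSymplectic 2).alternating 0
  constructor <;> rw [Transvect.mem_spGL_iff] <;> intro x y
  · have e := hi (comb x 0) (comb y 0)
    rw [Transvect.app_apply, Transvect.app_apply, blkGL_val, blocks_mulVec, blocks_mulVec, form_comb,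
      form_comb] at e
    rw [Transvect.app_apply, Transvect.app_apply]
    simpa [hz] using e
  · have e := hi (comb 0 x) (comb 0 y)
    rw [Transvect.app_apply, Transvect.app_apply, blkGL_val, blocks_mulVec, blocks_mulVec, form_comb,
      form_comb] at e
    rw [Transvect.app_apply, Transvect.app_apply]
    simpa [hz] using e

end Frame

end Cfsg.Agent.C6Minus
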