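import Cfsg.Agent.Lib.C6Minus.Quad
/-!
# Subspaces invariant under the stabiliser of a singular vector

`QF.pair_invariant` : a subspace through a singular `r`, invariant under the pairs of transvections that
fix `r`, meets `r⊥` in `⟨r⟩` or contains it.
-/

set_option autoImplicit false

namespace Cfsg.Agent.C6Minus.QF

open Module

variable {V : Type*} [AddCommGroup V] [Module (ZMod 2) V] (q : QF V)

/-- A transvection. -/
def trans (a v : V) : V := v + q.B v a • a

theorem B_one_of_ne {x y : V} (h : q.B x y ≠ 0) : q.B x y = 1 := (zmod2 _).resolve_left h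

theorem exists_nonsingular {W : Submodule (ZMod 2) V} (hW : 3 ≤ finrank (ZMod 2) W) :
    ∃ x ∈ W, q.Q x = 1 := by
  by_contra h
  push Not at h
  have := q.minus W fun x hx => (zmod2 _).resolve_right (h x hx)
  omega

theorem finrank_span_le_two (x y : V) :
    finrank (ZMod 2) (Submodule.span (ZMod 2) ({x, y} : Set V)) ≤ 2 := by
  classical
  refine (finrank_span_le_card _).trans ?_
  rw [Set.toFinset_insert, Set.toFinset_singleton]
  exact Finset.card_le_two

theorem four_le_perp_two (x y : V) :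
    4 ≤ finrank (ZMod 2) (q.perp (Submodule.span (ZMod 2) ({x, y} : Set V))) := by
  have := q.finrank_perp (Submodule.span (ZMod 2) ({x, y} : Set V))
  have := finrank_span_le_two x y
  omega

theorem mem_perp_pair {x y z : V} :
    z ∈ q.perp (Submodule.span (ZMod 2) ({x, y} : Set V)) ↔ q.B z x = 0 ∧ q.B z y = 0 := by
  rw [q.mem_perp]
  refine ⟨fun h => ⟨h x (Submodule.subset_span (Set.mem_insert _ _)),
    h y (Submodule.subset_span (Set.mem_insert_of_mem _ rfl))⟩, fun h w hw => ?_⟩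
  obtain ⟨a, b, rfl⟩ := Submodule.mem_span_pair.1 hw
  rw [map_add, map_smul, map_smul, h.1, h.2, smul_zero, smul_zero, add_zero]

theorem exists_pair_one {r x : V} (hx : x ∉ Submodule.span (ZMod 2) {r}) :
    ∃ c, q.B c r = 0 ∧ q.B c x = 1 := by
  by_contra h
  push Not at h
  refine hx ?_
  rw [← q.perp_perp (Submodule.span (ZMod 2) {r})]
  refine q.mem_perp.2 fun w hw => ?_
  rw [q.B_comm]
  exact (zmod2 _).resolve_right (h w (q.mem_perp_span.1 hw))

/-- A nonsingular vector perpendicular to `r` and pairing to one with `x` and `w`. -/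
theorem exists_three {r x w : V} (_hr : q.Q r = 0) (hx : x ∉ Submodule.span (ZMod 2) {r})
    (hw : w ∉ Submodule.span (ZMod 2) ({r, x} : Set V)) (h : q.Q x = 0 ∨ q.Q w = 0) :
    ∃ a, q.Q a = 1 ∧ q.B a r = 0 ∧ q.B a x = 1 ∧ q.B a w = 1 := by
  have := q.finite
  obtain ⟨c, hcr, hcx⟩ := q.exists_pair_one hx
  obtain ⟨c', hc'r, hc'x, hc'w⟩ : ∃ c', q.B c' r = 0 ∧ q.B c' x = 0 ∧ q.B c' w = 1 := by
    by_contra hno
    push Not at hno
    refine hw ?_
    rw [← q.perp_perp (Submodule.span (ZMod 2) ({r, x} : Set V))]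
    refine q.mem_perp.2 fun z hz => ?_
    rw [q.B_comm]
    exact (zmod2 _).resolve_right (hno z (q.mem_perp_pair.1 hz).1 (q.mem_perp_pair.1 hz).2)
  obtain ⟨a0, ha0r, ha0x, ha0w⟩ : ∃ a0, q.B a0 r = 0 ∧ q.B a0 x = 1 ∧ q.B a0 w = 1 := by
    rcases zmod2 (q.B c w) with h0 | h0
    · exact ⟨c + c', by simp [hcr, hc'r], by simp [hcx, hc'x], by simp [h0, hc'w]⟩
    · exact ⟨c, hcr, hcx, h0⟩
  by_contra hno
  push Not at hno
  obtain ⟨K, hK⟩ : ∃ K, K = Submodule.span (ZMod 2) ({r, x} : Set V) ⊔ Submodule.span (ZMod 2) {w} :=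
    ⟨_, rfl⟩
  have hrK : r ∈ K := hK ▸ Submodule.mem_sup_left (Submodule.subset_span (Set.mem_insert _ _))
  have hxK : x ∈ K :=
    hK ▸ Submodule.mem_sup_left (Submodule.subset_span (Set.mem_insert_of_mem _ rfl))
  have hwK : w ∈ K := hK ▸ Submodule.mem_sup_right (Submodule.mem_span_singleton_self w)
  have hsing : ∀ y ∈ q.perp K, q.Q (a0 + y) = 0 := fun y hy => by
    refine (zmod2 _).resolve_right fun h1 => hno (a0 + y) h1 ?_ ?_ ?_
    · simp [ha0r, q.mem_perp.1 hy r hrK]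
    · simp [ha0x, q.mem_perp.1 hy x hxK]
    · simp [ha0w, q.mem_perp.1 hy w hwK]
  have h0 : q.Q a0 = 0 := by simpa using hsing 0 (Submodule.zero_mem _)
  have hlin : ∀ y ∈ q.perp K, q.Q y = q.B a0 y := fun y hy => by
    have := hsing y hy
    rw [q.polar, h0, zero_add] at this
    exact eq_of_add_eq_zero' this
  have hle : q.perp K ≤ q.perp (q.perp K) := fun y hy => q.mem_perp.2 fun z hz => by
    have h1 := hlin _ ((q.perp K).add_mem hy hz)
    rw [q.polar, hlin y hy, hlin z hz, map_add] at h1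
    exact left_eq_add.1 h1.symm
  rw [q.perp_perp] at hle
  have hKK : q.perp K = K := by
    have h1 := q.finrank_perp K
    have h2 : finrank (ZMod 2) K ≤ 3 := by
      have := Submodule.finrank_add_le_finrank_add_finrank
        (Submodule.span (ZMod 2) ({r, x} : Set V)) (Submodule.span (ZMod 2) {w})
      have := finrank_span_le_two r x
      have := finrank_span_singleton (K := ZMod 2) (fun h => hw (h ▸ Submodule.zero_mem _) : w ≠ 0)
      rw [hK]; omega
    exact Submodule.eq_of_le_of_finrank_le hle (by omega)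
  rcases h with h | h
  · rw [hlin x (hKK.symm ▸ hxK), ha0x] at h; exact one_ne_zero h
  · rw [hlin w (hKK.symm ▸ hwK), ha0w] at h; exact one_ne_zero h

theorem exists_singular_perp {r x a : V} (hr0 : r ≠ 0) (hr : q.Q r = 0) (hrx : q.B r x = 0)
    (hra : q.B r a = 0) (hQx : q.Q x = 1) (hQa : q.Q a = 1) (hxa : q.B x a = 1) :
    ∃ w, w ∉ Submodule.span (ZMod 2) {r} ∧ q.Q w = 0 ∧ q.B w r = 0 ∧ q.B w x = 0 ∧ q.B w a = 0 := by
  have := q.finite
  by_contra hno
  push Not at hno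
  obtain ⟨K, hK⟩ : ∃ K, K = q.perp (Submodule.span (ZMod 2) ({x, a} : Set V)) ⊓
      q.perp (Submodule.span (ZMod 2) {r}) := ⟨_, rfl⟩
  have hK3 : 3 ≤ finrank (ZMod 2) K := by
    have := Submodule.finrank_sup_add_finrank_inf_eq
      (q.perp (Submodule.span (ZMod 2) ({x, a} : Set V))) (q.perp (Submodule.span (ZMod 2) {r}))
    have := q.four_le_perp_two x a
    have := q.finrank_perp (Submodule.span (ZMod 2) {r})
    have := finrank_span_singleton (K := ZMod 2) hr0
    have h6 := Submodule.finrank_le (q.perp (Submodule.span (ZMod 2) ({x, a} : Set V)) ⊔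
      q.perp (Submodule.span (ZMod 2) {r}))
    rw [q.dim] at h6
    rw [hK]; omega
  have hone : ∀ w ∈ K, w ∉ Submodule.span (ZMod 2) {r} →
      q.Q w = 1 ∧ q.B w r = 0 ∧ q.B w x = 0 ∧ q.B w a = 0 := fun w hw hwr => by
    rw [hK] at hw
    obtain ⟨h1, h2⟩ := q.mem_perp_pair.1 hw.1
    exact ⟨(zmod2 _).resolve_left fun h0 => hno w hwr h0 (q.mem_perp_span.1 hw.2) h1 h2,
      q.mem_perp_span.1 hw.2, h1, h2⟩
  obtain ⟨w1, hw1K, hw1⟩ : ∃ w ∈ K, w ∉ Submodule.span (ZMod 2) {r} :=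
    SetLike.not_le_iff_exists.1 fun h => by
      have := Submodule.finrank_mono h
      have := finrank_span_singleton (K := ZMod 2) hr0
      omega
  obtain ⟨w2, hw2K, hw2⟩ : ∃ w ∈ K, w ∉ Submodule.span (ZMod 2) ({r, w1} : Set V) :=
    SetLike.not_le_iff_exists.1 fun h => by
      have := Submodule.finrank_mono h
      have := finrank_span_le_two r w1
      omega
  have hw2' : w2 ∉ Submodule.span (ZMod 2) {r} := fun h =>
    hw2 (Submodule.span_mono (by simp) h)
  have hw12 : w1 + w2 ∉ Submodule.span (ZMod 2) {r} := fun h => hw2 (by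
    rw [← add_add_left w1 w2]
    exact add_mem (Submodule.subset_span (Set.mem_insert_of_mem _ rfl))
      (Submodule.span_mono (by simp) h))
  obtain ⟨q1, r1, x1, a1⟩ := hone w1 hw1K hw1
  obtain ⟨q2, r2, x2, a2⟩ := hone w2 hw2K hw2'
  obtain ⟨q3, -⟩ := hone _ (K.add_mem hw1K hw2K) hw12
  rw [q.polar, q1, q2, CharTwo.add_self_eq_zero, zero_add] at q3
  obtain ⟨p₁, hp₁⟩ : ∃ p, p = x + w1 := ⟨_, rfl⟩
  obtain ⟨p₂, hp₂⟩ : ∃ p, p = a + w2 := ⟨_, rfl⟩
  have Qp₁ : q.Q p₁ = 0 := by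
    rw [hp₁, q.polar, hQx, q1, q.B_comm x w1, x1]; decide
  have Qp₂ : q.Q p₂ = 0 := by
    rw [hp₂, q.polar, hQa, q2, q.B_comm a w2, a2]; decide
  have Bp : q.B p₁ p₂ = 0 := by
    simp only [hp₁, hp₂, map_add, LinearMap.add_apply, hxa, q3, q.B_comm x w2, x2, a1]; decide
  have Br₁ : q.B r p₁ = 0 := by rw [hp₁, map_add, hrx, q.B_comm r w1, r1, add_zero]
  have Br₂ : q.B r p₂ = 0 := by rw [hp₂, map_add, hra, q.B_comm r w2, r2, add_zero]
  obtain ⟨W, hW⟩ : ∃ W, W = Submodule.span (ZMod 2) {r} ⊔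
      Submodule.span (ZMod 2) ({p₁, p₂} : Set V) := ⟨_, rfl⟩
  have hsing : ∀ z ∈ W, q.Q z = 0 := fun z hz => by
    rw [hW] at hz
    obtain ⟨y, hy, y', hy', rfl⟩ := Submodule.mem_sup.1 hz
    obtain ⟨i, rfl⟩ := Submodule.mem_span_singleton.1 hy
    obtain ⟨j, k, rfl⟩ := Submodule.mem_span_pair.1 hy'
    rcases zmod2 i with rfl | rfl <;> rcases zmod2 j with rfl | rfl <;>
      rcases zmod2 k with rfl | rfl <;>
      simp [q.polar, q.Q_zero, hr, Qp₁, Qp₂, Bp, Br₁, Br₂]
  have hne : ∀ p, q.B a p = 1 ∨ q.B x p = 1 → p ∉ Submodule.span (ZMod 2) {r} := by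
    intro p hp hmem
    obtain ⟨c, rfl⟩ := Submodule.mem_span_singleton.1 hmem
    rcases hp with h | h <;>
      simp [q.B_comm a r, q.B_comm x r, hra, hrx] at h
  have h3 := q.two_more (show Submodule.span (ZMod 2) {r} ≤ W from hW ▸ le_sup_left)
    (hW ▸ Submodule.mem_sup_right (Submodule.subset_span (Set.mem_insert _ _)))
    (hW ▸ Submodule.mem_sup_right (Submodule.subset_span (Set.mem_insert_of_mem _ rfl)))
    (hne p₁ (Or.inl (by rw [hp₁, map_add, q.B_comm a x, hxa, q.B_comm a w1, a1, add_zero])))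
    (hne p₂ (Or.inr (by rw [hp₂, map_add, hxa, q.B_comm x w2, x2, add_zero])))
    (hne (p₁ + p₂) (Or.inl (by
      simp [hp₁, hp₂, q.B_comm a x, hxa, q.B_self, q.B_comm a w1, a1, q.B_comm a w2, a2])))
  have := finrank_span_singleton (K := ZMod 2) hr0
  have := q.minus W hsing
  omega

/-- The invariance lemma. -/
theorem pair_invariant {r : V} (hr0 : r ≠ 0) (hr : q.Q r = 0) {D : Submodule (ZMod 2) V}
    (hinv : ∀ a b, q.Q a = 1 → q.Q b = 1 → q.B r a = 0 → q.B r b = 0 →
      ∀ x ∈ D, q.trans a (q.trans b x) ∈ D) :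
    D ⊓ q.perp (Submodule.span (ZMod 2) {r}) ≤ Submodule.span (ZMod 2) {r} ∨
      q.perp (Submodule.span (ZMod 2) {r}) ≤ D := by
  have := q.finite
  refine or_iff_not_imp_left.2 fun hnot => ?_
  have step : ∀ x ∈ D, q.B x r = 0 → ∀ a, q.Q a = 1 → q.B a r = 0 → q.B a x = 1 → a ∈ D := by
    intro x hx hxr a ha har hax
    obtain ⟨b, hb, hQb⟩ := q.exists_nonsingular
      (W := q.perp (Submodule.span (ZMod 2) ({r, x} : Set V))) (by
        have := q.four_le_perp_two r x; omega)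
    obtain ⟨hbr, hbx⟩ := q.mem_perp_pair.1 hb
    have h := hinv a b ha hQb (by rw [q.B_comm]; exact har) (by rw [q.B_comm]; exact hbr) x hx
    simp only [trans, q.B_comm x b, hbx, zero_smul, add_zero, q.B_comm x a, hax, one_smul] at h
    rw [← add_add_left x a]
    exact D.add_mem hx h
  obtain ⟨D0, hD0⟩ : ∃ D0, D0 = D ⊓ q.perp (Submodule.span (ZMod 2) {r}) := ⟨_, rfl⟩
  rw [← hD0] at hnot
  obtain ⟨x, hxD0, hx⟩ : ∃ x ∈ D0, x ∉ Submodule.span (ZMod 2) {r} ∧
      (q.Q x = 0 ∨ ∀ s ∈ D0, q.Q s = 0 → s ∈ Submodule.span (ZMod 2) {r}) := by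
    by_cases h : ∃ s ∈ D0, q.Q s = 0 ∧ s ∉ Submodule.span (ZMod 2) {r}
    · obtain ⟨s, hs, hs0, hsr⟩ := h; exact ⟨s, hs, hsr, Or.inl hs0⟩
    · obtain ⟨x, hx, hxr⟩ := SetLike.not_le_iff_exists.1 hnot
      push Not at h
      exact ⟨x, hx, hxr, Or.inr h⟩
  obtain ⟨hxr, hx'⟩ := hx
  have hD0' : ∀ z ∈ D0, z ∈ D ∧ q.B z r = 0 := fun z hz => by
    rw [hD0] at hz; exact ⟨hz.1, q.mem_perp_span.1 hz.2⟩
  obtain ⟨hxD, hxB⟩ := hD0' x hxD0
  have hmem : ∀ a, q.Q a = 1 → q.B a r = 0 → q.B a x = 1 → a ∈ D0 := fun a h1 h2 h3 => by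
    rw [hD0]; exact ⟨step x hxD hxB a h1 h2 h3, q.mem_perp_span.2 h2⟩
  -- some member of `S(x)`
  obtain ⟨a0, ha0Q, ha0r, ha0x⟩ : ∃ a, q.Q a = 1 ∧ q.B a r = 0 ∧ q.B a x = 1 := by
    obtain ⟨c, hcr, hcx⟩ := q.exists_pair_one hxr
    rcases zmod2 (q.Q c) with hc0 | hc1
    swap
    · exact ⟨c, hc1, hcr, hcx⟩
    obtain ⟨w0, hw0, hw0Q⟩ := q.exists_nonsingular (W := q.perp (Submodule.span (ZMod 2) ({r, x} : Set V)) ⊓
        q.perp (Submodule.span (ZMod 2) {c})) (by
      have := Submodule.finrank_sup_add_finrank_inf_eq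
        (q.perp (Submodule.span (ZMod 2) ({r, x} : Set V))) (q.perp (Submodule.span (ZMod 2) {c}))
      have := q.four_le_perp_two r x
      have := q.finrank_perp (Submodule.span (ZMod 2) {c})
      have := finrank_span_le_two c c
      have := finrank_span_singleton (K := ZMod 2) (fun h => by simp [h] at hcx : c ≠ 0)
      have h6 := Submodule.finrank_le (q.perp (Submodule.span (ZMod 2) ({r, x} : Set V)) ⊔
        q.perp (Submodule.span (ZMod 2) {c}))
      rw [q.dim] at h6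
      omega)
    obtain ⟨h0r, h0x⟩ := q.mem_perp_pair.1 hw0.1
    refine ⟨c + w0, ?_, by simp [hcr, h0r], by simp [hcx, h0x]⟩
    rw [q.polar, hc0, hw0Q, q.B_comm c w0, q.mem_perp_span.1 hw0.2, zero_add, add_zero]
  have ha0D0 := hmem a0 ha0Q ha0r ha0x
  have hsingx : q.Q x = 0 := by
    rcases hx' with h | h
    · exact h
    refine (zmod2 _).resolve_right fun hx1 => ?_
    obtain ⟨w, hw, hwQ, hwr, hwx, hwa⟩ := q.exists_singular_perp hr0 hr
      (by rw [q.B_comm]; exact hxB) (by rw [q.B_comm]; exact ha0r) hx1 ha0Q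
      (by rw [q.B_comm]; exact ha0x)
    have hw' : w ∉ Submodule.span (ZMod 2) ({r, x} : Set V) := fun hm => by
      obtain ⟨i, j, rfl⟩ := Submodule.mem_span_pair.1 hm
      rcases zmod2 j with rfl | rfl
      · exact hw (by simpa using Submodule.smul_mem _ i (Submodule.mem_span_singleton_self r))
      · simp [q.B_comm r a0, ha0r, q.B_comm x a0, ha0x] at hwa
    obtain ⟨a, haQ, har, hax, haw⟩ := q.exists_three hr hxr hw' (Or.inr hwQ)
    have haD0 := hmem a haQ har hax
    obtain ⟨S, hS⟩ : ∃ S, S = Submodule.span (ZMod 2) {x} ⊔ Submodule.span (ZMod 2) ({a0, a} : Set V) :=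
      ⟨_, rfl⟩
    have hxS : x ∈ S := hS ▸ Submodule.mem_sup_left (Submodule.mem_span_singleton_self x)
    have hne : ∀ p, q.B p x = 1 → p ∉ Submodule.span (ZMod 2) {x} := fun p hp hm => by
      obtain ⟨c, rfl⟩ := Submodule.mem_span_singleton.1 hm
      simp [q.B_self] at hp
    have hS3 : 3 ≤ finrank (ZMod 2) S := by
      have := q.two_more (show Submodule.span (ZMod 2) {x} ≤ S from hS ▸ le_sup_left)
        (hS ▸ Submodule.mem_sup_right (Submodule.subset_span (Set.mem_insert _ _)))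
        (hS ▸ Submodule.mem_sup_right (Submodule.subset_span (Set.mem_insert_of_mem _ rfl)))
        (hne a0 ha0x) (hne a hax) (fun hm => by
          obtain ⟨c, hc⟩ := Submodule.mem_span_singleton.1 hm
          have h1 := congrArg (fun z => q.B z w) hc
          simp [q.B_comm x w, hwx, q.B_comm a0 w, hwa, haw] at h1)
      have := finrank_span_singleton (K := ZMod 2) (fun h0 => hxr (h0 ▸ Submodule.zero_mem _) : x ≠ 0)
      omega
    obtain ⟨s, hsS, hs0, hsQ⟩ := q.exists_singular hS3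
    have hSD : S ≤ D0 := hS ▸ sup_le (by simpa using hxD0)
      (Submodule.span_le.2 (by rintro z (rfl | rfl); exacts [ha0D0, haD0]))
    obtain ⟨c, rfl⟩ := Submodule.mem_span_singleton.1 (h s (hSD hsS) hsQ)
    rcases zmod2 c with rfl | rfl
    · exact hs0 (zero_smul _ _)
    rw [one_smul, hS] at hsS
    obtain ⟨u, hu, v, hv, huv⟩ := Submodule.mem_sup.1 hsS
    obtain ⟨i, rfl⟩ := Submodule.mem_span_singleton.1 hu
    obtain ⟨j, k, rfl⟩ := Submodule.mem_span_pair.1 hv
    have h1 := congrArg (fun z => q.B z w) huv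
    simp [q.B_comm x w, hwx, q.B_comm a0 w, hwa, haw, q.B_comm r w, hwr] at h1
    subst h1
    have h2 := congrArg (fun z => q.B z x) huv
    simp [q.B_self, ha0x, q.B_comm r x, hxB] at h2
    subst h2
    simp at huv
    rcases zmod2 i with rfl | rfl
    · simp at huv; exact hr0 huv.symm
    · simp at huv; exact hxr (huv ▸ Submodule.mem_span_singleton_self x)
  -- `x` singular
  refine le_trans ?_ (hD0 ▸ inf_le_left : D0 ≤ D)
  rw [← q.perp_perp D0]
  refine q.perp_anti fun w hw => ?_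
  by_contra hwr
  have hwa0 := q.mem_perp.1 hw a0 ha0D0
  by_cases hw' : w ∈ Submodule.span (ZMod 2) ({r, x} : Set V)
  · obtain ⟨i, j, rfl⟩ := Submodule.mem_span_pair.1 hw'
    rcases zmod2 j with rfl | rfl
    · exact hwr (by simpa using Submodule.smul_mem _ i (Submodule.mem_span_singleton_self r))
    · simp [q.B_comm r a0, ha0r, q.B_comm x a0, ha0x] at hwa0
  · obtain ⟨a, haQ, har, hax, haw⟩ := q.exists_three hr hxr hw' (Or.inl hsingx)
    have := q.mem_perp.1 hw a (hmem a haQ har hax)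
    rw [q.B_comm, haw] at this
    exact one_ne_zero this

end Cfsg.Agent.C6Minus.QF
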