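import Cfsg.Agent.EqLemmas
import Mathlib.LinearAlgebra.BilinearForm.Orthogonal
import Mathlib.Algebra.Module.ZMod
/-!
# A six-dimensional quadratic space of minus type over the field of two elements

`QF.no_exact_four` : three non-trivial commuting isometric involutions with product one that share their
fixed space on the perp of an anisotropic subspace `D` cannot exist.
-/

set_option autoImplicit false

namespace Cfsg.Agent.C6Minus

open Module

theorem zmod2 : ∀ x : ZMod 2, x = 0 ∨ x = 1 := by decide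

variable {V : Type*} [AddCommGroup V] [Module (ZMod 2) V]

/-- A nondegenerate quadratic form of minus type in dimension six over `𝔽₂`. -/
structure QF (V : Type*) [AddCommGroup V] [Module (ZMod 2) V] where
  Q : V → ZMod 2
  B : LinearMap.BilinForm (ZMod 2) V
  polar : ∀ x y, Q (x + y) = Q x + Q y + B x y
  nondeg : ∀ x, (∀ y, B x y = 0) → x = 0
  dim : finrank (ZMod 2) V = 6
  minus : ∀ W : Submodule (ZMod 2) V, (∀ x ∈ W, Q x = 0) → finrank (ZMod 2) W ≤ 2

namespace QF

theorem vadd_self (x : V) : x + x = 0 := ZModModule.add_self x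

theorem add_add_left (x y : V) : x + (x + y) = y := by rw [← add_assoc, vadd_self, zero_add]

theorem add_add_right (x y : V) : x + y + y = x := by rw [add_assoc, vadd_self, add_zero]

theorem eq_of_add_eq_zero' {x y : V} (h : x + y = 0) : x = y := by
  calc x = x + y + y := (add_add_right x y).symm
    _ = y := by rw [h, zero_add]

variable (q : QF V)

theorem finite (q : QF V) : FiniteDimensional (ZMod 2) V :=
  Module.finite_of_finrank_pos (by rw [q.dim]; norm_num)

theorem Q_zero : q.Q 0 = 0 := by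
  have h := q.polar 0 0
  simp only [add_zero, map_zero] at h
  linear_combination -h

theorem B_self (x : V) : q.B x x = 0 := by
  have h := q.polar x x
  rw [vadd_self, q.Q_zero, CharTwo.add_self_eq_zero, zero_add] at h
  exact h.symm

theorem B_comm (x y : V) : q.B x y = q.B y x := by
  have h := q.B_self (x + y)
  simp only [map_add, LinearMap.add_apply, q.B_self, zero_add, add_zero] at h
  calc q.B x y = q.B x y + (q.B y x + q.B x y) := by rw [h, add_zero]
    _ = q.B y x := by rw [add_comm (q.B y x), ← add_assoc, CharTwo.add_self_eq_zero, zero_add]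

theorem isRefl : q.B.IsRefl := fun x y h => by rw [q.B_comm]; exact h

theorem nondegenerate : q.B.Nondegenerate :=
  ⟨q.nondeg, fun x h => q.nondeg x fun y => by rw [q.B_comm]; exact h y⟩

/-- The perp. -/
def perp (W : Submodule (ZMod 2) V) : Submodule (ZMod 2) V := q.B.orthogonal W

theorem mem_perp {W : Submodule (ZMod 2) V} {x : V} : x ∈ q.perp W ↔ ∀ w ∈ W, q.B x w = 0 := by
  refine ⟨fun h w hw => ?_, fun h w hw => ?_⟩
  · rw [q.B_comm]; exact h w hw
  · show q.B w x = 0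
    rw [q.B_comm]; exact h w hw

theorem mem_perp_span {w x : V} : x ∈ q.perp (Submodule.span (ZMod 2) {w}) ↔ q.B x w = 0 := by
  rw [mem_perp]
  refine ⟨fun h => h w (Submodule.mem_span_singleton_self w), fun h z hz => ?_⟩
  obtain ⟨c, rfl⟩ := Submodule.mem_span_singleton.1 hz
  rw [map_smul, h, smul_zero]

theorem finrank_perp (W : Submodule (ZMod 2) V) :
    finrank (ZMod 2) (q.perp W) + finrank (ZMod 2) W = 6 := by
  have := q.finite
  have h := LinearMap.BilinForm.finrank_orthogonal q.nondegenerate W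
  have h' := Submodule.finrank_le W
  rw [q.dim] at h h'
  show finrank (ZMod 2) (q.B.orthogonal W) + _ = 6
  omega

theorem perp_perp (W : Submodule (ZMod 2) V) : q.perp (q.perp W) = W := by
  have := q.finite
  refine (Submodule.eq_of_le_of_finrank_eq (fun x hx => q.mem_perp.2 fun y hy => ?_) ?_).symm
  · rw [q.B_comm]; exact q.mem_perp.1 hy x hx
  · have h1 := q.finrank_perp W
    have h2 := q.finrank_perp (q.perp W)
    omega

theorem perp_anti {W W' : Submodule (ZMod 2) V} (h : W ≤ W') : q.perp W' ≤ q.perp W :=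
  fun _ hx => q.mem_perp.2 fun w hw => q.mem_perp.1 hx w (h hw)

/-- A vector representing a functional on a subspace. -/
theorem exists_represent (L : Submodule (ZMod 2) V) (φ : L →ₗ[ZMod 2] ZMod 2) :
    ∃ e : V, ∀ l : L, q.B e l = φ l := by
  have := q.finite
  obtain ⟨ψ, hψ⟩ := LinearMap.exists_extend φ
  refine ⟨(q.B.toDual q.nondegenerate).symm ψ, fun l => ?_⟩
  rw [LinearMap.BilinForm.apply_toDual_symm_apply, ← hψ]
  rfl

include q in
theorem two_more {R W : Submodule (ZMod 2) V} (hR : R ≤ W) {y₁ y₂ : V} (h1 : y₁ ∈ W) (h2 : y₂ ∈ W)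
    (n1 : y₁ ∉ R) (n2 : y₂ ∉ R) (n3 : y₁ + y₂ ∉ R) :
    finrank (ZMod 2) R + 2 ≤ finrank (ZMod 2) W := by
  have := q.finite
  have a1 : R < R ⊔ Submodule.span (ZMod 2) {y₁} :=
    lt_of_le_of_ne le_sup_left fun h =>
      n1 (h ▸ Submodule.mem_sup_right (Submodule.mem_span_singleton_self y₁))
  have a2 : R ⊔ Submodule.span (ZMod 2) {y₁} < W := by
    refine lt_of_le_of_ne (sup_le hR (by simpa using h1)) fun h => ?_
    obtain ⟨r, hr, z, hz, hrz⟩ := Submodule.mem_sup.1 (h ▸ h2)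
    obtain ⟨c, rfl⟩ := Submodule.mem_span_singleton.1 hz
    rcases zmod2 c with rfl | rfl
    · rw [zero_smul, add_zero] at hrz; exact n2 (hrz ▸ hr)
    · rw [one_smul] at hrz
      refine n3 ?_
      rw [← hrz, add_comm r, add_add_left]; exact hr
  have := Submodule.finrank_lt_finrank_of_lt a1
  have := Submodule.finrank_lt_finrank_of_lt a2
  omega

theorem exists_singular {W : Submodule (ZMod 2) V} (hW : 3 ≤ finrank (ZMod 2) W) :
    ∃ x ∈ W, x ≠ 0 ∧ q.Q x = 0 := by
  have := q.finite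
  by_contra hno
  push Not at hno
  have h1 : ∀ x ∈ W, x ≠ 0 → q.Q x = 1 := fun x hx h => (zmod2 _).resolve_left (hno x hx h)
  obtain ⟨x, hx, hx0⟩ := W.ne_bot_iff.1 (fun h => by rw [h, finrank_bot] at hW; omega)
  have hcond : ∀ y ∈ W, y ∉ Submodule.span (ZMod 2) {x} → q.B x y = 1 := fun y hy hny => by
    have hy0 : y ≠ 0 := fun h => hny (h ▸ Submodule.zero_mem _)
    have hxy : x + y ≠ 0 := fun h =>
      hny ((eq_of_add_eq_zero' h) ▸ Submodule.mem_span_singleton_self x)
    have := q.polar x y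
    rw [h1 x hx hx0, h1 y hy hy0, h1 _ (W.add_mem hx hy) hxy, CharTwo.add_self_eq_zero, zero_add] at this
    exact this.symm
  have h3 : W ⊓ q.perp (Submodule.span (ZMod 2) {x}) ≤ Submodule.span (ZMod 2) {x} := fun y hy => by
    by_contra hny
    have := q.mem_perp_span.1 hy.2
    rw [q.B_comm, hcond y hy.1 hny] at this
    exact one_ne_zero this
  have := Submodule.finrank_mono h3
  have := finrank_span_singleton (K := ZMod 2) hx0
  have := Submodule.finrank_sup_add_finrank_inf_eq W (q.perp (Submodule.span (ZMod 2) {x}))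
  have := q.finrank_perp (Submodule.span (ZMod 2) {x})
  have := Submodule.finrank_le (W ⊔ q.perp (Submodule.span (ZMod 2) {x}))
  have := q.dim
  omega

/-! ## Isometric involutions -/

/-- An isometric involution. -/
structure IsoInv (f : V →ₗ[ZMod 2] V) : Prop where
  isom : ∀ x, q.Q (f x) = q.Q x
  invol : ∀ x, f (f x) = x

/-- The fixed space. -/
def fix (f : V →ₗ[ZMod 2] V) : Submodule (ZMod 2) V := LinearMap.ker (f + LinearMap.id)

theorem mem_fix {f : V →ₗ[ZMod 2] V} {x : V} : x ∈ fix f ↔ f x = x := by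
  rw [fix, LinearMap.mem_ker, LinearMap.add_apply, LinearMap.id_apply]
  exact ⟨eq_of_add_eq_zero', fun h => by rw [h, vadd_self]⟩

variable {q} {f : V →ₗ[ZMod 2] V}

theorem IsoInv.B_map (hf : q.IsoInv f) (x y : V) : q.B (f x) (f y) = q.B x y := by
  have h := q.polar (f x) (f y)
  rw [← map_add, hf.isom, hf.isom, hf.isom, q.polar] at h
  exact (add_left_cancel h).symm

theorem IsoInv.B_adj (hf : q.IsoInv f) (x y : V) : q.B (f x + x) y = q.B x (f y + y) := by
  rw [map_add, LinearMap.add_apply, map_add, show q.B (f x) y = q.B x (f y) by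
    conv_lhs => rw [← hf.invol y]
    exact hf.B_map _ _]

theorem IsoInv.diff_perp (hf : q.IsoInv f) {x y : V} (hy : f y = y) : q.B (f x + x) y = 0 := by
  rw [hf.B_adj, hy, vadd_self, map_zero]

theorem IsoInv.diff_fix (hf : q.IsoInv f) (x : V) : f (f x + x) = f x + x := by
  rw [map_add, hf.invol, add_comm]

theorem IsoInv.Q_diff (hf : q.IsoInv f) (x : V) : q.Q (f x + x) = q.B x (f x + x) := by
  rw [q.polar, hf.isom, CharTwo.add_self_eq_zero, zero_add, map_add, q.B_self, add_zero, q.B_comm]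

theorem IsoInv.two_fix (hf : q.IsoInv f) {W : Submodule (ZMod 2) V} (hW : ∀ x ∈ W, f x ∈ W) :
    finrank (ZMod 2) W ≤ 2 * finrank (ZMod 2) (W ⊓ fix f : Submodule (ZMod 2) V) := by
  have := q.finite
  have hr : LinearMap.range ((f + LinearMap.id).comp W.subtype) ≤ W ⊓ fix f := by
    rintro _ ⟨x, rfl⟩
    exact ⟨W.add_mem (hW _ x.2) x.2, mem_fix.2 (hf.diff_fix _)⟩
  have hk : (LinearMap.ker ((f + LinearMap.id).comp W.subtype)).map W.subtype = W ⊓ fix f := by
    rw [LinearMap.ker_comp, Submodule.map_comap_subtype]; rfl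
  have h := LinearMap.finrank_range_add_finrank_ker ((f + LinearMap.id).comp W.subtype)
  have := Submodule.finrank_mono hr
  have h' := Submodule.finrank_map_subtype_eq W (LinearMap.ker ((f + LinearMap.id).comp W.subtype))
  rw [hk] at h'
  omega

theorem IsoInv.perp_fix_le (hf : q.IsoInv f) : q.perp (fix f) ≤ fix f := by
  have := q.finite
  have hle : LinearMap.range (f + LinearMap.id) ≤ q.perp (fix f) := by
    rintro _ ⟨x, rfl⟩
    exact q.mem_perp.2 fun w hw => hf.diff_perp (mem_fix.1 hw)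
  have h1 := LinearMap.finrank_range_add_finrank_ker (f + LinearMap.id)
  have h2 := q.finrank_perp (fix f)
  rw [q.dim] at h1
  change _ + finrank (ZMod 2) (fix f) = _ at h1
  rw [← Submodule.eq_of_le_of_finrank_eq hle (by omega)]
  rintro _ ⟨x, rfl⟩
  exact mem_fix.2 (hf.diff_fix x)

/-! ## The four group lemmas -/

variable (q)

theorem lagrange_step {L : Submodule (ZMod 2) V} (hL : q.perp L = L) (hf : q.IsoInv f)
    (hfix : fix f = L) {e : V} (he : ∀ l ∈ L, q.B e l = q.Q l) (heL : e ∉ L)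
    (h0 : q.Q (f e + e) = 0) : False := by
  have := q.finite
  have hL3 : finrank (ZMod 2) L = 3 := by have := q.finrank_perp L; rw [hL] at this; omega
  obtain ⟨y0, hy0⟩ : ∃ y, y = f e + e := ⟨_, rfl⟩
  have hmemL : ∀ x, f x + x ∈ L := fun x => hfix ▸ mem_fix.2 (hf.diff_fix x)
  have hy0ne : y0 ≠ 0 := fun h => heL (hfix ▸ mem_fix.2 (eq_of_add_eq_zero' (hy0 ▸ h)))
  have hy0L : y0 ∈ L := hy0 ▸ hmemL e
  obtain ⟨P, hP⟩ : ∃ P, P = q.perp (Submodule.span (ZMod 2) {y0}) := ⟨_, rfl⟩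
  have hP5 : finrank (ZMod 2) P = 5 := by
    have := q.finrank_perp (Submodule.span (ZMod 2) {y0})
    have := finrank_span_singleton (K := ZMod 2) hy0ne
    rw [hP]; omega
  obtain ⟨L1, hL1⟩ : ∃ L1, L1 = L ⊔ Submodule.span (ZMod 2) {e} := ⟨_, rfl⟩
  have hL1P : L1 ≤ P := by
    rw [hL1, hP]
    refine sup_le (fun l hl => q.mem_perp_span.2 ?_) ?_
    · exact q.mem_perp.1 (by rw [hL]; exact hl) y0 hy0L
    · rw [Submodule.span_le, Set.singleton_subset_iff]
      refine q.mem_perp_span.2 ?_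
      rw [he y0 hy0L, hy0, h0]
  have hL14 : finrank (ZMod 2) L1 = 4 := by
    have := Submodule.finrank_sup_add_finrank_inf_eq L (Submodule.span (ZMod 2) {e})
    have h1 := finrank_span_singleton (K := ZMod 2) (fun h => heL (h ▸ L.zero_mem) : e ≠ 0)
    have h2 : L ⊓ Submodule.span (ZMod 2) {e} = ⊥ := by
      rw [Submodule.eq_bot_iff]
      rintro x ⟨hx, hx'⟩
      obtain ⟨c, rfl⟩ := Submodule.mem_span_singleton.1 hx'
      rcases zmod2 c with rfl | rfl
      · exact zero_smul _ _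
      · exact absurd (by simpa using hx) heL
    rw [h2, finrank_bot] at this
    rw [hL1]; omega
  obtain ⟨p, hpP, hp⟩ : ∃ p ∈ P, p ∉ L1 := SetLike.not_le_iff_exists.1 fun h => by
    have := Submodule.finrank_mono h; omega
  obtain ⟨W5, hW5⟩ : ∃ W5, W5 = L1 ⊔ Submodule.span (ZMod 2) {p} := ⟨_, rfl⟩
  have hW5P : W5 = P := by
    refine Submodule.eq_of_le_of_finrank_eq (hW5 ▸ sup_le hL1P (by simpa using hpP)) ?_
    have hlt : L1 < W5 := lt_of_le_of_ne (hW5 ▸ le_sup_left) fun h =>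
      hp (by rw [h, hW5]; exact Submodule.mem_sup_right (Submodule.mem_span_singleton_self p))
    have := Submodule.finrank_lt_finrank_of_lt hlt
    have := Submodule.finrank_mono (show W5 ≤ P from hW5 ▸ sup_le hL1P (by simpa using hpP))
    omega
  have hBe : q.B (f p + p) e = 0 := by
    rw [hf.B_adj, ← hy0, ← q.mem_perp_span]; exact hP ▸ hpP
  have hBp : q.B (f p + p) p = 0 := by
    rw [q.B_comm, ← hf.Q_diff, ← he _ (hmemL p), q.B_comm, hBe]
  have hyp : f p + p ∈ q.perp P := by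
    rw [← hW5P, hW5, hL1]
    refine q.mem_perp.2 fun w hw => ?_
    obtain ⟨u, hu, z, hz, rfl⟩ := Submodule.mem_sup.1 hw
    obtain ⟨l, hl, z', hz', rfl⟩ := Submodule.mem_sup.1 hu
    obtain ⟨c, rfl⟩ := Submodule.mem_span_singleton.1 hz
    obtain ⟨c', rfl⟩ := Submodule.mem_span_singleton.1 hz'
    rw [map_add, map_add, map_smul, map_smul, hBe, hBp,
      hf.diff_perp (mem_fix.1 (hfix ▸ hl)), smul_zero, smul_zero, add_zero, add_zero]
  rw [hP, q.perp_perp] at hyp
  obtain ⟨c, hc⟩ := Submodule.mem_span_singleton.1 hyp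
  apply hp
  rcases zmod2 c with rfl | rfl
  · rw [zero_smul] at hc
    rw [hL1]
    exact Submodule.mem_sup_left (hfix ▸ mem_fix.2 (eq_of_add_eq_zero' hc.symm))
  · rw [one_smul, hy0] at hc
    have hpe : p + e ∈ L := hfix ▸ mem_fix.2 (eq_of_add_eq_zero' (by
      rw [map_add, add_add_add_comm, ← hc, vadd_self]))
    rw [hL1, ← add_add_right p e]
    exact add_mem (Submodule.mem_sup_left hpe)
      (Submodule.mem_sup_right (Submodule.mem_span_singleton_self e))

theorem lagrange_four {L : Submodule (ZMod 2) V} (hL : q.perp L = L) (F : Fin 3 → V →ₗ[ZMod 2] V)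
    (hF : ∀ i, q.IsoInv (F i)) (h3 : ∀ x, F 2 x = F 0 (F 1 x)) (hfix : ∀ i, fix (F i) = L) :
    False := by
  have := q.finite
  have hlin : ∀ a ∈ L, ∀ b ∈ L, q.Q (a + b) = q.Q a + q.Q b := fun a ha b hb => by
    rw [q.polar, q.mem_perp.1 (hL.symm ▸ ha : a ∈ q.perp L) b hb, add_zero]
  let φ : L →ₗ[ZMod 2] ZMod 2 :=
    (AddMonoidHom.mk' (fun l : L => q.Q l) fun a b => hlin a a.2 b b.2).toZModLinearMap 2
  obtain ⟨e, he⟩ := q.exists_represent L φ
  have he' : ∀ l ∈ L, q.B e l = q.Q l := fun l hl => he ⟨l, hl⟩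
  have hL3 : finrank (ZMod 2) L = 3 := by have := q.finrank_perp L; rw [hL] at this; omega
  have heL : e ∉ L := fun h => by
    have := q.minus L fun l hl => by
      rw [← he' l hl]; exact q.mem_perp.1 (hL.symm ▸ h : e ∈ q.perp L) l hl
    omega
  have hy : ∀ i, F i e + e ∈ L := fun i => hfix i ▸ mem_fix.2 ((hF i).diff_fix e)
  have hsum : F 2 e + e = (F 0 e + e) + (F 1 e + e) := by
    have hf : F 0 (F 1 e + e) = F 1 e + e := mem_fix.1 (by rw [hfix 0]; exact hy 1)
    rw [h3]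
    calc F 0 (F 1 e) + e = F 0 (F 1 e + e + e) + e := by rw [add_add_right]
      _ = _ := by rw [map_add, hf]; abel
  have hQ := congrArg q.Q hsum
  rw [hlin _ (hy 0) _ (hy 1)] at hQ
  rcases zmod2 (q.Q (F 0 e + e)) with h0 | h0
  · exact q.lagrange_step hL (hF 0) (hfix 0) he' heL h0
  rcases zmod2 (q.Q (F 1 e + e)) with h1 | h1
  · exact q.lagrange_step hL (hF 1) (hfix 1) he' heL h1
  rw [h0, h1, CharTwo.add_self_eq_zero] at hQ
  exact q.lagrange_step hL (hF 2) (hfix 2) he' heL hQ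

theorem K2 (F : Fin 3 → V →ₗ[ZMod 2] V) (hF : ∀ i, q.IsoInv (F i))
    (h3 : ∀ x, F 2 x = F 0 (F 1 x)) {P T W : Submodule (ZMod 2) V}
    (hWfix : ∀ y ∈ W, F 0 y = y) (hW : finrank (ZMod 2) W ≤ 2)
    (hT : ∀ t ∈ T, ∀ y ∈ W, q.B t y = 0) (hcod : finrank (ZMod 2) T + 2 ≤ finrank (ZMod 2) P)
    (hy : ∀ p ∈ P, p ∉ T → ∀ i, F i p + p ∈ W ∧ F i p + p ≠ 0) : W ≤ q.perp P := by
  have := q.finite
  have key : ∀ p ∈ P, p ∉ T → ∀ y ∈ W, q.Q y = q.B p y := by
    intro p hp hpT y hyW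
    obtain ⟨h1, n1⟩ := hy p hp hpT 0
    obtain ⟨h2, n2⟩ := hy p hp hpT 1
    obtain ⟨-, n3⟩ := hy p hp hpT 2
    have hsum : F 2 p + p = (F 0 p + p) + (F 1 p + p) := by
      rw [h3]
      calc F 0 (F 1 p) + p = F 0 (F 1 p + p + p) + p := by rw [add_add_right]
        _ = _ := by rw [map_add, hWfix _ h2]; abel
    obtain ⟨S, hS⟩ : ∃ S, S = Submodule.span (ZMod 2) {F 0 p + p, F 1 p + p} := ⟨_, rfl⟩
    have hSW : S ≤ W := hS ▸ Submodule.span_le.2 (by
      rintro z (rfl | rfl); exacts [h1, h2])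
    have hS2 : finrank (ZMod 2) (⊥ : Submodule (ZMod 2) V) + 2 ≤ finrank (ZMod 2) S :=
      q.two_more bot_le (hS ▸ Submodule.subset_span (Set.mem_insert _ _))
        (hS ▸ Submodule.subset_span (Set.mem_insert_of_mem _ rfl)) n1 n2 (by
          rw [← hsum]; exact n3)
    rw [finrank_bot] at hS2
    have hSeq : S = W := Submodule.eq_of_le_of_finrank_le hSW (by omega)
    rw [← hSeq, hS, Submodule.mem_span_pair] at hyW
    obtain ⟨a, b, rfl⟩ := hyW
    rcases zmod2 a with rfl | rfl <;> rcases zmod2 b with rfl | rfl <;>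
      simp only [zero_smul, one_smul, add_zero, zero_add]
    · rw [q.Q_zero, map_zero]
    · exact (hF 1).Q_diff p
    · exact (hF 0).Q_diff p
    · rw [← hsum]; exact (hF 2).Q_diff p
  refine fun y hyW => q.mem_perp.2 fun p hp => ?_
  rw [q.B_comm]
  by_cases hpT : p ∈ T
  · exact hT p hpT y hyW
  obtain ⟨r, hr, hrn⟩ : ∃ r ∈ P, r ∉ T ⊔ Submodule.span (ZMod 2) {p} :=
    SetLike.not_le_iff_exists.1 fun h => by
      have := Submodule.finrank_mono h
      have := Submodule.finrank_sup_add_finrank_inf_eq T (Submodule.span (ZMod 2) {p})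
      have := finrank_span_singleton (K := ZMod 2) (fun h0 => hpT (h0 ▸ T.zero_mem) : p ≠ 0)
      omega
  have hrT : r ∉ T := fun h => hrn (Submodule.mem_sup_left h)
  have hprT : p + r ∉ T := fun h => hrn (by
    rw [← add_add_left p r, add_comm p]
    exact add_mem (Submodule.mem_sup_left h)
      (Submodule.mem_sup_right (Submodule.mem_span_singleton_self p)))
  have a := key p hp hpT y hyW
  have b := key r hr hrT y hyW
  have c := key _ (P.add_mem hp hr) hprT y hyW
  rw [map_add, LinearMap.add_apply, ← a, ← b, CharTwo.add_self_eq_zero] at c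
  rw [← a, c]

/-- No four group with a common fixed space on the perp of an anisotropic subspace. -/
theorem no_exact_four (F : Fin 3 → V →ₗ[ZMod 2] V) (hF : ∀ i, q.IsoInv (F i))
    (h3 : ∀ x, F 2 x = F 0 (F 1 x)) (hne : ∀ i, ∃ x, F i x ≠ x)
    {D T : Submodule (ZMod 2) V} (hDan : ∀ d ∈ D, q.Q d = 0 → d = 0) (hTD : T ≤ q.perp D)
    (hRT : D ⊓ q.perp D ≤ T) (hfD : ∀ i, ∀ d ∈ D, F i d = d) (hfT : ∀ i, ∀ t ∈ T, F i t = t)
    (hexact : ∀ i, fix (F i) ⊓ q.perp D ≤ T)
    (hmove : ∀ i j a, F i a = a → F j a + a ∈ D) : False := by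
  have := q.finite
  obtain ⟨R, hR⟩ : ∃ R, R = D ⊓ q.perp D := ⟨_, rfl⟩
  have hR1 : ∀ x ∈ R, ∀ y ∈ R, x ≠ 0 → y ≠ 0 → x = y := by
    intro x hx y hy hx0 hy0
    rw [hR] at hx hy
    refine eq_of_add_eq_zero' (hDan _ (D.add_mem hx.1 hy.1) ?_)
    rw [q.polar, q.mem_perp.1 hx.2 y hy.1, (zmod2 _).resolve_left fun h => hx0 (hDan x hx.1 h),
      (zmod2 _).resolve_left fun h => hy0 (hDan y hy.1 h), add_zero, CharTwo.add_self_eq_zero]
  have hdp : ∀ i x, F i x + x ∈ q.perp D := fun i x => q.mem_perp.2 fun d hd =>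
    (hF i).diff_perp (hfD i d hd)
  by_cases hall : q.perp D ≤ T
  · -- all three are the same transvection
    have hyR : ∀ i x, F i x + x ∈ R := fun i x => by
      rw [hR]; refine ⟨?_, hdp i x⟩
      rw [← q.perp_perp D]
      exact q.mem_perp.2 fun w hw => (hF i).diff_perp (hfT i w (hall hw))
    have hB : ∀ i x, F i x ≠ x → q.B x (F i x + x) = 1 := fun i x h => by
      rw [← (hF i).Q_diff]
      refine (zmod2 _).resolve_left fun h0 => h (eq_of_add_eq_zero' (hDan _ ?_ h0))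
      exact (hR ▸ hyR i x : F i x + x ∈ D ⊓ q.perp D).1
    obtain ⟨v, hv⟩ := hne 0
    obtain ⟨d, hd⟩ : ∃ d, d = F 0 v + v := ⟨_, rfl⟩
    have hd0 : d ≠ 0 := fun h => hv (eq_of_add_eq_zero' (hd ▸ h))
    have hall' : ∀ i, F i v + v = d := fun i => by
      by_contra h
      have hzero : F i v + v = 0 := by
        by_contra h0
        exact h (hR1 _ (hyR i v) _ (hd ▸ hyR 0 v) h0 hd0)
      obtain ⟨w, hw⟩ := hne i
      have hwd : F i w + w = d :=
        hR1 _ (hyR i w) _ (hd ▸ hyR 0 v) (fun h0 => hw (eq_of_add_eq_zero' h0)) hd0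
      have h1 : q.B w d = 1 := hwd ▸ hB i w hw
      have h2 : q.B v d = 1 := hd ▸ hB 0 v hv
      have hwv : F i (w + v) ≠ w + v := by
        rw [map_add, eq_of_add_eq_zero' hzero]
        exact fun h0 => hw (add_right_cancel h0)
      have h4 := hB i (w + v) hwv
      rw [map_add (F i), add_add_add_comm, hwd, hzero, add_zero, map_add, LinearMap.add_apply,
        h1, h2, CharTwo.add_self_eq_zero] at h4
      exact zero_ne_one h4
    have h2' := hall' 2
    rw [h3, show F 1 v = d + v by rw [← hall' 1, add_add_right], map_add,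
      show F 0 d = d by rw [hd]; exact (hF 0).diff_fix v, add_assoc, ← hd, vadd_self] at h2'
    exact hd0 h2'.symm
  obtain ⟨p₀, hp₀, hp₀T⟩ := SetLike.not_le_iff_exists.1 hall
  obtain ⟨W, hW⟩ : ∃ W, W = T ⊓ q.perp T := ⟨_, rfl⟩
  have hy : ∀ p ∈ q.perp D, p ∉ T → ∀ i, F i p + p ∈ W ∧ F i p + p ∉ R := by
    intro p hp hpT i
    refine ⟨?_, fun h => ?_⟩
    · rw [hW]
      exact ⟨hexact i ⟨mem_fix.2 ((hF i).diff_fix p), hdp i p⟩,
        q.mem_perp.2 fun t ht => (hF i).diff_perp (hfT i t ht)⟩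
    · rw [hR] at h
      have hq : q.Q (F i p + p) = 0 := by
        rw [(hF i).Q_diff]; exact q.mem_perp.1 hp _ h.1
      exact hpT (hexact i ⟨mem_fix.2 (eq_of_add_eq_zero' (hDan _ h.1 hq)), hp⟩)
  have hRW : R ≤ W := by
    rw [hW, hR]
    exact fun x hx => ⟨hRT hx, q.mem_perp.2 fun t ht => by
      rw [q.B_comm]; exact q.mem_perp.1 (hTD ht) x hx.1⟩
  have hWf : ∀ i, ∀ y ∈ W, F i y = y := fun i y h => hfT i y ((hW ▸ h : y ∈ T ⊓ q.perp T).1)
  have hsum : ∀ p ∈ q.perp D, p ∉ T → F 2 p + p = (F 0 p + p) + (F 1 p + p) := by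
    intro p hp hpT
    rw [h3]
    calc F 0 (F 1 p) + p = F 0 (F 1 p + p + p) + p := by rw [add_add_right]
      _ = _ := by rw [map_add, hWf 0 _ (hy p hp hpT 1).1]; abel
  have htwo : ∀ {S : Submodule (ZMod 2) V}, R ≤ S → (∀ i, F i p₀ + p₀ ∈ S) →
      finrank (ZMod 2) R + 2 ≤ finrank (ZMod 2) S := fun hS h =>
    q.two_more hS (h 0) (h 1) (hy p₀ hp₀ hp₀T 0).2 (hy p₀ hp₀ hp₀T 1).2
      (hsum p₀ hp₀ hp₀T ▸ (hy p₀ hp₀ hp₀T 2).2)
  have hWR : finrank (ZMod 2) R + 2 ≤ finrank (ZMod 2) W :=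
    htwo hRW fun i => (hy p₀ hp₀ hp₀T i).1
  have hcod : finrank (ZMod 2) T + 2 ≤ finrank (ZMod 2) (q.perp D) := by
    have h1 := htwo (S := q.perp (T ⊔ D)) (hR ▸ fun x hx => q.mem_perp.2 fun w hw => by
        obtain ⟨t, ht, d, hd, rfl⟩ := Submodule.mem_sup.1 hw
        rw [map_add, q.mem_perp.1 hx.2 d hd, add_zero, q.B_comm]
        exact q.mem_perp.1 (hTD ht) x hx.1)
      (fun i => q.mem_perp.2 fun w hw => by
        obtain ⟨t, ht, d, hd, rfl⟩ := Submodule.mem_sup.1 hw
        rw [map_add, (hF i).diff_perp (hfT i t ht), (hF i).diff_perp (hfD i d hd), add_zero])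
    have h2 := Submodule.finrank_sup_add_finrank_inf_eq T D
    have h3' : finrank (ZMod 2) (T ⊓ D : Submodule (ZMod 2) V) ≤ finrank (ZMod 2) R :=
      Submodule.finrank_mono (hR ▸ le_inf inf_le_right (inf_le_left.trans hTD))
    have := q.finrank_perp (T ⊔ D)
    have := q.finrank_perp D
    omega
  have hTW : ∀ t ∈ T, ∀ y ∈ W, q.B t y = 0 := fun t ht y h => by
    rw [q.B_comm]; exact q.mem_perp.1 ((hW ▸ h : y ∈ T ⊓ q.perp T).2) t ht
  have hWD : W ≤ q.perp D := (hW ▸ inf_le_left).trans hTD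
  by_cases hW2 : finrank (ZMod 2) W ≤ 2
  · have h := q.K2 F hF h3 (hWf 0) hW2 hTW hcod fun p hp hpT i =>
      ⟨(hy p hp hpT i).1, fun h => (hy p hp hpT i).2 (h ▸ R.zero_mem)⟩
    rw [q.perp_perp] at h
    have := Submodule.finrank_mono (show W ≤ R from hR ▸ le_inf h hWD)
    omega
  -- `W` is Lagrangian
  have hWiso : W ≤ q.perp W := fun x hx => q.mem_perp.2 fun y hy' => hTW x ((hW ▸ hx :
    x ∈ T ⊓ q.perp T).1) y hy'
  have hWW : q.perp W = W := by
    have := Submodule.finrank_mono hWiso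
    have := q.finrank_perp W
    exact (Submodule.eq_of_le_of_finrank_eq hWiso (by omega)).symm
  have hTeq : T = W := le_antisymm (fun t ht => hWW ▸ q.mem_perp.2 fun y hy' => hTW t ht y hy')
    (hW ▸ inf_le_left)
  have hW3 : finrank (ZMod 2) W = 3 := by have := q.finrank_perp W; rw [hWW] at this; omega
  by_cases hfx : ∀ i, fix (F i) ≤ q.perp D
  · refine q.lagrange_four hWW F hF h3 fun i => le_antisymm ?_ fun y h => mem_fix.2 (hWf i y h)
    exact fun x hx => hTeq ▸ hexact i ⟨hx, hfx i hx⟩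
  push Not at hfx
  obtain ⟨i, hi⟩ := hfx
  obtain ⟨a, ha, haD⟩ := SetLike.not_le_iff_exists.1 hi
  obtain ⟨d, hd, had⟩ : ∃ d ∈ D, q.B a d ≠ 0 := by
    by_contra h; push Not at h; exact haD (q.mem_perp.2 h)
  have hDW : D ≤ W := fun x hx => hWW ▸ q.mem_perp.2 fun y hy' => by
    rw [q.B_comm]; exact q.mem_perp.1 (hWD hy') x hx
  obtain ⟨W', hW'⟩ : ∃ W', W' = W ⊓ q.perp (Submodule.span (ZMod 2) {a}) := ⟨_, rfl⟩
  have hW'2 : finrank (ZMod 2) W' ≤ 2 := by
    have hlt : W' < W := lt_of_le_of_ne (hW' ▸ inf_le_left) fun h => by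
      have h1 := (hW' ▸ (h.symm ▸ hDW hd : d ∈ W') : d ∈ W ⊓ _).2
      exact had (by rw [q.B_comm]; exact q.mem_perp_span.1 h1)
    have := Submodule.finrank_lt_finrank_of_lt hlt
    omega
  have hy' : ∀ p ∈ q.perp D, p ∉ T → ∀ j, F j p + p ∈ W' := by
    intro p hp hpT j
    rw [hW']
    refine ⟨(hy p hp hpT j).1, q.mem_perp_span.2 ?_⟩
    rw [(hF j).B_adj]
    exact q.mem_perp.1 hp _ (hmove i j a (mem_fix.1 ha))
  have hle : W' ≤ W := hW' ▸ inf_le_left
  have h := q.K2 F hF h3 (fun y h => hWf 0 y (hle h)) hW'2 (fun t ht y h => hTW t ht y (hle h))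
    hcod fun p hp hpT j => ⟨hy' p hp hpT j, fun h => (hy p hp hpT j).2 (h ▸ R.zero_mem)⟩
  rw [q.perp_perp] at h
  exact (hy p₀ hp₀ hp₀T 0).2 (hR ▸ ⟨h (hy' p₀ hp₀ hp₀T 0), hdp 0 p₀⟩)

end QF

end Cfsg.Agent.C6Minus
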